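import Groth.Agent.S3912
import Groth.Agent.RootIntrinsic.Weyl
import Groth.Agent.Chev.BorelTools
import Groth.Agent.MTSplit.Basic
import Groth.Agent.MTPrime.Basic
import Groth.Agent.Chev.CharQuot
import Mathlib.RingTheory.PrincipalIdealDomain

/-!
# Groups in which a corank one subtorus of a maximal torus is central have at most two Borel subgroups through it
-/

set_option autoImplicit false
set_option linter.style.haveILetI false
set_option backward.isDefEq.respectTransparency false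
set_option maxHeartbeats 1000000
set_option synthInstance.maxHeartbeats 400000

universe u

open CategoryTheory MonoidalCategory CartesianMonoidalCategory MonObj AlgebraicGeometry
open scoped CategoryTheory.Obj

noncomputable section

namespace Groth.Agent.DynPar

open Groth.Agent.HomDiag Groth.Agent.RootIntrinsic

/-- The saturation of a line in a lattice. -/
theorem exists_line {M : Type} [AddCommGroup M] [Module.Free ℤ M] [Module.Finite ℤ M] (m₀ : M) (h₀ : m₀ ≠ 0) :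
    ∃ (M' : Type) (_ : AddCommGroup M') (_ : Module.Free ℤ M') (_ : Module.Finite ℤ M') (π : M →+ M') (m₁ : M),
      Function.Surjective π ∧ m₁ ≠ 0 ∧ π m₁ = 0 ∧ π m₀ = 0 ∧ ∀ x, π x = 0 → ∃ l : ℤ, x = l • m₁ := by
  let L : Submodule ℤ M := Submodule.span ℤ {m₀}
  let q₂ : (M ⧸ L) →ₗ[ℤ] (M ⧸ L) ⧸ Submodule.torsion ℤ (M ⧸ L) := Submodule.mkQ _
  let π : M →ₗ[ℤ] (M ⧸ L) ⧸ Submodule.torsion ℤ (M ⧸ L) := q₂.comp L.mkQ
  haveI : Module.Free ℤ ((M ⧸ L) ⧸ Submodule.torsion ℤ (M ⧸ L)) := Module.free_of_finite_type_torsion_free'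
  have hπ : ∀ x, π x = 0 ↔ ∃ n : ℤ, n ≠ 0 ∧ ∃ l : ℤ, n • x = l • m₀ := by
    intro x
    show Submodule.Quotient.mk (L.mkQ x) = 0 ↔ _
    rw [Submodule.Quotient.mk_eq_zero, Submodule.mem_torsion_iff]
    constructor
    · rintro ⟨⟨n, hn⟩, hx⟩
      obtain ⟨l, hl⟩ := Submodule.mem_span_singleton.1 ((Submodule.Quotient.mk_eq_zero L).1
        (show Submodule.Quotient.mk (n • x) = 0 from hx))
      exact ⟨n, nonZeroDivisors.ne_zero hn, l, hl.symm⟩
    · rintro ⟨n, hn, l, hl⟩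
      refine ⟨⟨n, mem_nonZeroDivisors_of_ne_zero hn⟩, ?_⟩
      show Submodule.Quotient.mk (n • x) = 0
      rw [Submodule.Quotient.mk_eq_zero, hl]
      exact Submodule.mem_span_singleton.2 ⟨l, rfl⟩
  obtain ⟨i, hi⟩ : ∃ i, (Module.Free.chooseBasis ℤ M).repr m₀ i ≠ 0 := by
    by_contra! h
    exact h₀ ((Module.Free.chooseBasis ℤ M).repr.injective (Finsupp.ext fun i => by simp [h i]))
  let ψ : M →ₗ[ℤ] ℤ := (Module.Free.chooseBasis ℤ M).coord i
  have hinj : ∀ x, π x = 0 → ψ x = 0 → x = 0 := by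
    intro x hx hψ
    obtain ⟨n, hn, l, hl⟩ := (hπ x).1 hx
    have e : ψ (n • x) = ψ (l • m₀) := by rw [hl]
    rw [map_smul, map_smul, hψ, smul_zero, smul_eq_mul] at e
    have hl0 : l = 0 := (mul_eq_zero.1 e.symm).resolve_right hi
    rw [hl0, zero_smul] at hl
    exact (smul_eq_zero.1 hl).resolve_left hn
  obtain ⟨d, hd⟩ := Int.subgroup_cyclic ((LinearMap.ker π).map ψ).toAddSubgroup
  have hd' : ∀ y, (∃ x, π x = 0 ∧ ψ x = y) ↔ ∃ l : ℤ, l • d = y := by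
    intro y
    rw [← AddSubgroup.mem_closure_singleton, ← hd]
    exact Iff.rfl
  obtain ⟨m₁, hm₁, hm₁d⟩ := (hd' d).2 ⟨1, one_smul _ _⟩
  have hπ₀ : π m₀ = 0 := (hπ m₀).2 ⟨1, one_ne_zero, 1, rfl⟩
  have hgen : ∀ x, π x = 0 → ∃ l : ℤ, x = l • m₁ := fun x hx => by
    obtain ⟨l, hl⟩ := (hd' (ψ x)).1 ⟨x, hx, rfl⟩
    exact ⟨l, sub_eq_zero.1 (hinj _ (by rw [map_sub, map_smul, hx, hm₁, smul_zero, sub_zero])
      (by rw [map_sub, map_smul, hm₁d, hl, sub_self]))⟩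
  refine ⟨_, inferInstance, inferInstance, inferInstance, π.toAddMonoidHom, m₁,
    (Submodule.mkQ_surjective _).comp (Submodule.mkQ_surjective L), ?_, hm₁, hπ₀, hgen⟩
  intro h
  obtain ⟨l, hl⟩ := hgen m₀ hπ₀
  exact h₀ (by rw [hl, h, smul_zero])

variable {k : Type u} [Field k] [IsAlgClosed k]

omit [IsAlgClosed k] in
theorem act_refl {M : Type} [AddCommGroup M] (θ : M →+ M) :
    act (Iso.refl (Grp.mk (Red.DS (Spec (CommRingCat.of k)) M))) θ = Red.DSmap _ θ := by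
  show 𝟙 _ ≫ Red.DSmap _ θ ≫ 𝟙 _ = _
  rw [Category.comp_id, Category.id_comp]

variable {C : Over (Spec (CommRingCat.of k))} [GrpObj C] [IsAffine C.left] [Smooth C.hom] [ConnectedSpace C.left]
  {M : Type} [AddCommGroup M] [Module.Free ℤ M] [Module.Finite ℤ M] (j : Red.DS (Spec (CommRingCat.of k)) M ⟶ C)

theorem exists_le_of_conjBy {B B' : Over (Spec (CommRingCat.of k))} [GrpObj B] [GrpObj B'] {b : B ⟶ C} [IsMonHom b]
    {b' : B' ⟶ C} (σ : B ≅ B') (n : Chev.RP B) (hσ : σ.hom ≫ b' = AGF.conjBy (n ≫ b) b) :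
    ∃ e : B' ⟶ B, e ≫ b = b' := by
  refine ⟨σ.inv ≫ ((toUnit B ≫ n) * 𝟙 B * (toUnit B ≫ n)⁻¹), ?_⟩
  rw [Category.assoc, MonObj.mul_comp, MonObj.mul_comp, GrpObj.inv_comp, Category.id_comp, Category.assoc]
  show σ.inv ≫ AGF.conjBy (n ≫ b) b = b'
  rw [← hσ, Iso.inv_hom_id_assoc]

/-- **At most two Borel subgroups contain the torus.** -/
theorem two_borels (hj : AGF.IsMaxTorus j) (hself : Red.IsCentralizerOf j j) {M' : Type} [AddCommGroup M']
    (π : M →+ M') (m₁ : M) (hm₁ : m₁ ≠ 0) (hπ₁ : π m₁ = 0) (hker : ∀ x, π x = 0 → ∃ l : ℤ, x = l • m₁)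
    (hcent : ∀ (n : Chev.RP C) (X : Over (Spec (CommRingCat.of k))) (t : X ⟶ Red.DS (Spec (CommRingCat.of k)) M'),
      (toUnit X ≫ n) * (t ≫ Red.DSmap _ π ≫ j) = (t ≫ Red.DSmap _ π ≫ j) * (toUnit X ≫ n))
    {B₀ B₁ B₂ : Over (Spec (CommRingCat.of k))} [GrpObj B₀] [GrpObj B₁] [GrpObj B₂] {b₀ : B₀ ⟶ C} {b₁ : B₁ ⟶ C}
    {b₂ : B₂ ⟶ C} (h₀ : Red.IsBorelOver k b₀) (h₁ : Red.IsBorelOver k b₁) (h₂ : Red.IsBorelOver k b₂)
    {t₀ : _ ⟶ B₀} {t₁ : _ ⟶ B₁} {t₂ : _ ⟶ B₂} (e₀ : t₀ ≫ b₀ = j) (e₁ : t₁ ≫ b₁ = j) (e₂ : t₂ ≫ b₂ = j) :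
    (∃ e : B₁ ⟶ B₀, e ≫ b₀ = b₁) ∨ (∃ e : B₂ ⟶ B₀, e ≫ b₀ = b₂) ∨ ∃ e : B₂ ⟶ B₁, e ≫ b₁ = b₂ := by
  haveI := hj.1; haveI := hj.2.1; haveI := h₀.1; haveI := h₁.1; haveI := h₂.1
  haveI : AddGroup.FG M := Module.Finite.iff_addGroup_fg.1 inferInstance
  obtain ⟨n₁, τ₁, σ₁, hτ₁, hσ₁⟩ := Groth.Agent.S3912.result k C _ _ _ j b₀ b₁ hj h₀ h₁ t₀ e₀ t₁ e₁
  obtain ⟨n₂, τ₂, σ₂, hτ₂, hσ₂⟩ := Groth.Agent.S3912.result k C _ _ _ j b₀ b₂ hj h₀ h₂ t₀ e₀ t₂ e₂
  let S := Spec (CommRingCat.of k)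
  let E := Iso.refl (Grp.mk (Red.DS S M))
  -- the action of a normalising point
  have main : ∀ (n : Chev.RP C) (τ : Red.DS S M ≅ Red.DS S M), τ.hom ≫ j = AGF.conjBy n j →
      ∃ w : M →+ M, Realises j E n w ∧ ∀ x, π (w x) = π x := by
    intro n τ hτ
    haveI : IsMonHom (AGF.conjBy n j) := Chev.Borel.isMonHom_conjBy n j
    haveI : IsMonHom τ.hom := MTSplit.isMonHom_of_comp_mono τ.hom j _ hτ
    obtain ⟨w, hw⟩ := Chev.CharQuot.exists_DSmap (k := k) τ.hom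
    refine ⟨w, fun X t => ?_, fun x => ?_⟩
    · rw [act_refl, ← hw, Category.assoc, hτ, Chev.Borel.comp_conjBy]
    · have e : Red.DSmap S π ≫ τ.hom = Red.DSmap S π := by
        rw [← cancel_mono j, Category.assoc, hτ, Chev.Borel.comp_conjBy, mul_inv_eq_iff_eq_mul]
        have h := hcent n _ (𝟙 _)
        rwa [Category.id_comp] at h
      rw [hw, DSmap_comp_apply] at e
      exact congr($(DSmap_injective e) x)
  have hinjl : ∀ l l' : ℤ, l • m₁ = l' • m₁ → l = l' := fun l l' h => smul_left_injective ℤ hm₁ h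
  -- an action fixing the line is trivial
  have key : ∀ (n : Chev.RP C) (w : M →+ M), Realises j E n w → (∀ x, π (w x) = π x) → w m₁ = m₁ →
      ∃ p : Chev.RP (Red.DS S M), p ≫ j = n := by
    intro n w hn hπw hw₁
    choose φ hφ using fun x => hker (w x - x) (by rw [map_sub, hπw, sub_self])
    let φ' : M →+ ℤ := AddMonoidHom.mk' φ fun a b => hinjl _ _ (by rw [← hφ, add_smul, ← hφ, ← hφ, map_add]; abel)
    have hw : w = AddMonoidHom.id M + (zmultiplesHom M m₁).comp φ' := AddMonoidHom.ext fun x => by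
      show w x = x + φ x • m₁
      rw [← hφ]; abel
    have hφ₁ : φ' m₁ = 0 := hinjl _ 0 (by
      show φ m₁ • m₁ = _
      rw [← hφ, hw₁, sub_self, zero_smul])
    rw [hw] at hn
    have hφ0 := eq_zero_of_realises hj.2.2.1 n φ' m₁ hφ₁ hm₁ hn
    rw [hφ0, AddMonoidHom.comp_zero, add_zero] at hn
    refine (hself.2.2 _ n).2 fun X x h => ?_
    have := hn X h
    rw [act_id, Category.comp_id, mul_inv_eq_iff_eq_mul] at this
    rwa [toUnit_unique x (toUnit X)]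
  obtain ⟨w₁, hn₁, hπw₁⟩ := main n₁ τ₁ hτ₁
  obtain ⟨w₂, hn₂, hπw₂⟩ := main n₂ τ₂ hτ₂
  have hpm : ∀ (w : M →+ M), (∀ x, π (w x) = π x) →
      ∀ n : Chev.RP C, Realises j E n w → w m₁ = m₁ ∨ w m₁ = -m₁ := by
    intro w hπw n hn
    obtain ⟨a, ha⟩ := hker (w m₁) (by rw [hπw, hπ₁])
    -- the inverse action
    obtain ⟨b, hb⟩ : ∃ w' : M →+ M, w.comp w' = AddMonoidHom.id M ∧ ∀ x, π (w' x) = π x := by
      let τ : Red.DS S M ⟶ Red.DS S M := Red.DSmap S w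
      have hτ : τ ≫ j = AGF.conjBy n j := by
        have h := hn _ (𝟙 _)
        rw [act_refl, Category.id_comp, Category.id_comp] at h
        exact h.symm
      haveI hmono : Mono (Red.DSmap S w) := ⟨fun a b hab => by
        have h := congrArg (· ≫ j) hab
        simp only [Category.assoc, show Red.DSmap S w ≫ j = _ from hτ, Chev.Borel.comp_conjBy] at h
        exact (cancel_mono j).1 (mul_left_cancel (mul_right_cancel h))⟩
      have hs := surjective_of_mono_DSmap (k := k) w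
      have hi := OrzechProperty.injective_of_surjective_endomorphism w.toIntLinearMap hs
      let we := AddEquiv.ofBijective w ⟨hi, hs⟩
      exact ⟨we.symm.toAddMonoidHom, AddMonoidHom.ext fun x => we.apply_symm_apply x,
        fun x => (hπw (we.symm x)).symm.trans (congrArg π (we.apply_symm_apply x))⟩
    obtain ⟨c, hc⟩ := hker (b m₁) (by rw [hb.2, hπ₁])
    have h1 : c * a = 1 := hinjl _ _ (by
      rw [mul_smul, ← ha, ← map_zsmul, ← hc, one_smul]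
      exact congr($(hb.1) m₁))
    rcases Int.eq_one_or_neg_one_of_mul_eq_one (by rw [mul_comm]; exact h1 : a * c = 1) with rfl | rfl
    · exact Or.inl (by rw [ha, one_smul])
    · exact Or.inr (by rw [ha, neg_one_smul])
  have hinjw : ∀ w : M →+ M, (∀ x, π (w x) = π x) → w m₁ = -m₁ → w.comp w = AddMonoidHom.id M := by
    intro w hπw hw₁
    refine AddMonoidHom.ext fun x => ?_
    obtain ⟨l, hl⟩ := hker (w x - x) (by rw [map_sub, hπw, sub_self])
    have hwx : w x = x + l • m₁ := by rw [← hl]; abel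
    show w (w x) = x
    rw [hwx, map_add, hwx, map_zsmul, hw₁, smul_neg]
    abel
  rcases hpm w₁ hπw₁ n₁ hn₁ with h1 | h1
  · obtain ⟨p, hp⟩ := key n₁ w₁ hn₁ hπw₁ h1
    exact Or.inl (exists_le_of_conjBy σ₁ (p ≫ t₀) (by rw [Category.assoc, e₀, hp, hσ₁]))
  rcases hpm w₂ hπw₂ n₂ hn₂ with h2 | h2
  · obtain ⟨p, hp⟩ := key n₂ w₂ hn₂ hπw₂ h2
    exact Or.inr (Or.inl (exists_le_of_conjBy σ₂ (p ≫ t₀) (by rw [Category.assoc, e₀, hp, hσ₂])))
  refine Or.inr (Or.inr ?_)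
  have hn : Realises j E (n₂ * n₁⁻¹) (w₁.comp w₂) := hn₂.mul (hn₁.inv (hinjw w₁ hπw₁ h1))
  obtain ⟨p, hp⟩ := key _ _ hn (fun x => by rw [AddMonoidHom.comp_apply, hπw₁, hπw₂])
    (by rw [AddMonoidHom.comp_apply, h2, map_neg, h1, neg_neg])
  refine exists_le_of_conjBy (σ₁.symm ≪≫ σ₂) (p ≫ t₁) ?_
  rw [Category.assoc, e₁, hp]
  show (σ₁.inv ≫ σ₂.hom) ≫ b₂ = _
  rw [Category.assoc, hσ₂, show AGF.conjBy n₂ b₀ = AGF.conjBy (n₂ * n₁⁻¹) (AGF.conjBy n₁ b₀) by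
    rw [Chev.Borel.conjBy_conjBy, inv_mul_cancel_right], ← hσ₁, Chev.Borel.comp_conjBy', Iso.inv_hom_id_assoc]

end Groth.Agent.DynPar
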