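import Groth.Agent.DynPar.FieldBorel
import Groth.Agent.S3002

/-!
# Borel subgroups exist locally for the étale topology
-/

set_option autoImplicit false
set_option backward.isDefEq.respectTransparency false
set_option linter.style.haveILetI false
set_option maxHeartbeats 1000000
set_option synthInstance.maxHeartbeats 400000

universe u

open CategoryTheory Limits MonoidalCategory CartesianMonoidalCategory MonObj AlgebraicGeometry LieS
open scoped CategoryTheory.Obj

noncomputable section

namespace Groth.Agent.DynPar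

open Groth.Agent.HomDiag Groth.Agent.MTBridge

/-- Reductive groups are stable under change of base. -/
theorem isReductive_bc {S U : Scheme.{u}} (f : U ⟶ S) {G : Over S} [GrpObj G] (hG : Red.IsReductive G) :
    Red.IsReductive (Red.bc f G) := by
  haveI := hG.1
  haveI : Smooth G.hom := hG.2.1
  haveI : IsAffineHom (Red.bc f G).hom := MorphismProperty.pullback_snd (P := @IsAffineHom) G.hom f hG.1
  haveI : Smooth (Red.bc f G).hom := MorphismProperty.pullback_snd (P := @Smooth) G.hom f hG.2.1
  refine ⟨inferInstance, inferInstance, fun a => ?_⟩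
  haveI : IsAffineHom (Red.geomFibre a (Red.bc f G)).hom :=
    inferInstanceAs (IsAffineHom (pullback.snd (Red.bc f G).hom _))
  refine ⟨isAffine_of_isAffineHom (Red.geomFibre a (Red.bc f G)).hom,
    inferInstanceAs (Smooth (pullback.snd (Red.bc f G).hom _)),
    TorusLift.connectedSpace_bc_geom
      (MTImage.isConnected_fibre_bc G (RedCartan.isConnected_fibre_of_isReductive hG) f) _, ?_⟩
  refine (RedOpen.noUni_iso_iff (MTBridge.bcComp f (Red.geomPt a) G).symm).2 ?_
  refine (RedOpen.noUni_bc_iff G (Red.geomPt (f a)) (Red.geomPt a ≫ f) ?_).1 (hG.2.2 (f a)).2.2.2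
  rw [MTImage.geomPt_closedPoint, Scheme.Hom.comp_apply, MTImage.geomPt_closedPoint]

/-- **A reductive group over an affine base with a split maximal torus has a Borel subgroup.** -/
theorem exists_borel_of_split {U : Scheme.{u}} [IsAffine U] {G : Over U} [GrpObj G] (hG : Red.IsReductive G)
    {T : Over U} [GrpObj T] (iT : T ⟶ G) (hT : Red.IsMaximalTorus iT) {r : ℕ}
    (hs : Red.IsSplitTorusWith (Fin r → ℤ) T) :
    ∃ (B : Over U) (_ : GrpObj B) (b : B ⟶ G), Red.IsBorel b := by
  haveI := hG.1; haveI := hG.2.1; haveI := hT.1; haveI := hT.2.1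
  haveI : IsAffine G.left := isAffine_of_isAffineHom G.hom
  obtain ⟨E⟩ := hs
  haveI : IsMonHom E.inv.hom.hom := E.inv.hom.isMonHom_hom
  haveI : IsIso E.inv.hom.hom := inferInstanceAs (IsIso ((Grp.forget _).map E.inv))
  let i : Red.DS U (Fin r → ℤ) ⟶ G := E.inv.hom.hom ≫ iT
  haveI : IsMonHom i := inferInstanceAs (IsMonHom (E.inv.hom.hom ≫ iT))
  obtain ⟨mu, hmu⟩ := exists_regular (G := G) i
  obtain ⟨B, _, b, hb⟩ := exists_isP (G := G) (Red.DSmap U mu ≫ i)
  refine ⟨B, inferInstance, b, hb.1, hb.2.1, smooth_isP inferInstance _ hb, fun s => ?_⟩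
  let j := Red.geomPt s
  let F := Over.pullback j
  let K := AlgebraicClosure (U.residueField s)
  let iK := bcHom' j i
  have hred : Red.IsReductiveOver K (F.obj G) := hG.2.2 s
  haveI := hred.1
  haveI : Smooth (F.obj G).hom := hred.2.1
  haveI := isIso_ej j (Fin r → ℤ)
  have hiK : iK = (ej j (Fin r → ℤ) ≫ F.map E.inv.hom.hom) ≫ F.map iT := by
    show ej j _ ≫ F.map i = _
    rw [Category.assoc, ← F.map_comp]
  haveI : Mono (F.map iT) := inferInstance
  haveI : Mono iK := by rw [hiK]; exact mono_comp _ _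
  haveI : IsMonHom (F.map iT) := isMonHom_map' j iT
  have hiKmax : AGF.IsMaxTorus iK := by
    refine ⟨inferInstance, inferInstance, Chev.CharQuot.isTorus_DS r, fun T' _ w _ _ g hT' hg => ?_⟩
    have := hT.2.2.2 s T' w (inv (ej j (Fin r → ℤ) ≫ F.map E.inv.hom.hom) ≫ g) hT' (by
      rw [Category.assoc, hg, hiK, IsIso.inv_hom_id_assoc])
    haveI := this
    exact IsIso.of_isIso_comp_left (inv (ej j (Fin r → ℤ) ≫ F.map E.inv.hom.hom)) g
  have hself := exists_isCentralizerOf_self hred iK hiKmax
  have hreg : Regular iK mu := fun B' _ fa g hg => by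
    rw [← bcHom'_DSmap] at hg
    have h1 : up j rfl g ∈ ZSub (fa ≫ j) (Red.DSmap U mu ≫ i) :=
      (mem_ZSub_down j rfl _).2 (by rwa [down_up])
    have h2 := (mem_ZSub_down j rfl i).1 (hmu _ _ _ h1)
    rwa [down_up] at h2
  exact isBorelOver_of_regular hred iK hiKmax hself mu hreg _ (bcHom'_DSmap j mu i ▸ hb.bc j)

end Groth.Agent.DynPar
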