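import Groth.Agent.DynPar.Parabolic
import Groth.Agent.S3912
import Groth.Agent.Chev.CentDescend

/-!
# Borel subgroups through a split maximal torus are defined over the ground field
-/

set_option autoImplicit false
set_option linter.style.haveILetI false
set_option backward.isDefEq.respectTransparency false
set_option maxHeartbeats 1000000
set_option synthInstance.maxHeartbeats 400000

universe u

open CategoryTheory Limits MonoidalCategory CartesianMonoidalCategory MonObj AlgebraicGeometry LieS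
open scoped CategoryTheory.Obj

noncomputable section

namespace Groth.Agent.DynPar

open Groth.Agent.HomDiag Groth.Agent.MTBridge

/-- The comparison of diagonalisable groups along a change of base is invertible. -/
theorem isIso_ej {S S' : Scheme.{u}} (j : S' ⟶ S) (M : Type) [AddCommGroup M] : IsIso (ej j M) := by
  let ε : (Over.map j).obj (Red.bc j (Red.DS S M)) ⟶ Red.DS S M := fromB j (𝟙 _)
  obtain ⟨v, hv⟩ := exists_ch (S := S') (X := Red.bc j (Red.DS S M)) (M := M) (ch (S := S) (X := (Over.map j).obj (Red.bc j (Red.DS S M))) ε)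
  have h1 : (Over.map j).map v ≫ ejPt j M = ε := ch_ext fun m => by rw [ch_map_ejPt]; exact hv m
  refine ⟨v, ?_, ?_⟩
  · refine ch_ext fun m => ?_
    rw [← ch_map_ejPt j, Functor.map_comp, Category.assoc, h1, ← ch_map_ejPt j (𝟙 _)]
    congr 2
    rw [CategoryTheory.Functor.map_id, Category.id_comp]
    exact ((Over.mapPullbackAdj j).homEquiv_naturality_left_symm (ej j M) (𝟙 _)).symm.trans
      ((congrArg _ (Category.comp_id _)).trans (Equiv.symm_apply_apply _ _))
  · rw [comp_ej, h1]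
    exact Equiv.apply_symm_apply _ _

section Transport

variable {S : Scheme.{u}} {G : Over S} [GrpObj G] {Γ : Type} [AddCommGroup Γ] [LinearOrder Γ] [IsOrderedAddMonoid Γ]
  {c : Red.DS S Γ ⟶ G}

/-- Transport along an automorphism. -/
theorem IsP.transport {P : Over S} [GrpObj P] {p : P ⟶ G} (hp : IsP c p) (φ : G ⟶ G) [IsMonHom φ] [IsIso φ] :
    IsP (c ≫ φ) (p ≫ φ) := by
  haveI := hp.1; haveI := hp.2.1
  haveI : IsIso φ.left := inferInstanceAs (IsIso ((Over.forget S).map φ))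
  haveI : IsMonHom (inv φ) := MTSplit.isMonHom_of_comp_mono (inv φ) φ (𝟙 G) (IsIso.inv_hom_id φ)
  refine ⟨inferInstance, by rw [Over.comp_left]; infer_instance, fun X g => ?_⟩
  constructor
  · rintro ⟨z, rfl⟩ B _ f y
    rw [← Category.assoc z, ← Category.assoc y]
    exact comp_mem_PSub f c φ (((hp.2.2 _ _).1 ⟨z, rfl⟩) B f y)
  · intro h
    obtain ⟨z, hz⟩ := (hp.2.2 X (g ≫ inv φ)).2 fun B _ f y => by
      have := comp_mem_PSub f (c ≫ φ) (inv φ) (h B f y)
      rwa [Category.assoc c, IsIso.hom_inv_id, Category.comp_id, Category.assoc] at this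
    exact ⟨z, by rw [← Category.assoc, hz, Category.assoc, IsIso.inv_hom_id, Category.comp_id]⟩

/-- Uniqueness. -/
theorem IsP.exists_iso {P P' : Over S} [GrpObj P] [GrpObj P'] {p : P ⟶ G} {p' : P' ⟶ G} (hp : IsP c p)
    (hp' : IsP c p') : ∃ e : P ≅ P', e.hom ≫ p' = p := by
  haveI := hp.2.1; haveI := hp'.2.1
  haveI : Mono p := Over.mono_of_mono_left p
  haveI : Mono p' := Over.mono_of_mono_left p'
  obtain ⟨a, ha⟩ := (hp'.2.2 _ p).2 ((hp.2.2 _ p).1 ⟨𝟙 _, Category.id_comp _⟩)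
  obtain ⟨b, hb⟩ := (hp.2.2 _ p').2 ((hp'.2.2 _ p').1 ⟨𝟙 _, Category.id_comp _⟩)
  exact ⟨⟨a, b, by rw [← cancel_mono p, Category.assoc, hb, ha, Category.id_comp],
    by rw [← cancel_mono p', Category.assoc, ha, hb, Category.id_comp]⟩, ha⟩

end Transport

variable {k : Type u} [Field k]

/-- **A geometric Borel subgroup through a split maximal torus comes from the ground field.** -/
theorem exists_borel_over {G : Over (Spec (CommRingCat.of k))} [GrpObj G] (hG : Red.IsReductive G)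
    {T : Over (Spec (CommRingCat.of k))} [GrpObj T] (iT : T ⟶ G) (hT : Red.IsMaximalTorus iT) (r : ℕ)
    (hs : Red.IsSplitTorusWith (Fin r → ℤ) T) (s : ↥(Spec (CommRingCat.of k)))
    {B' : Over (Spec (CommRingCat.of (AlgebraicClosure ((Spec (CommRingCat.of k)).residueField s))))} [GrpObj B']
    (iB' : B' ⟶ Red.geomFibre s G)
    (hB' : Red.IsBorelOver (AlgebraicClosure ((Spec (CommRingCat.of k)).residueField s)) iB')
    (t' : Red.geomFibre s T ⟶ B') (ht' : t' ≫ iB' = (Over.pullback (Red.geomPt s)).map iT) :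
    ∃ (B : Over (Spec (CommRingCat.of k))) (_ : GrpObj B) (iB : B ⟶ G) (t : T ⟶ B) (e : Red.geomFibre s B ≅ B'),
      Red.IsBorel iB ∧ t ≫ iB = iT ∧ e.hom ≫ iB' = (Over.pullback (Red.geomPt s)).map iB := by
  let S := Spec (CommRingCat.of k)
  let K := AlgebraicClosure ((Spec (CommRingCat.of k)).residueField s)
  let j := Red.geomPt s
  let F := Over.pullback j
  haveI := hG.1; haveI := hT.1; haveI := hT.2.1
  obtain ⟨hGa, hGs, hGc⟩ := RedCartan.basic_of_isReductive hG
  haveI := hGa; haveI := hGs; haveI := hGc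
  obtain ⟨hKs, hKa, hKc, -, hKT⟩ := Chev.Borel.geom_setting iT hT s
  haveI := hKs; haveI := hKa; haveI := hKc
  haveI : IsAffineHom (F.obj G).hom := isAffineHom_of_isAffine _
  obtain ⟨E⟩ := hs
  haveI : IsMonHom E.inv.hom.hom := E.inv.hom.isMonHom_hom
  haveI : IsIso E.inv.hom.hom := inferInstanceAs (IsIso ((Grp.forget _).map E.inv))
  have hE : E.hom.hom.hom ≫ E.inv.hom.hom = 𝟙 T := congrArg (fun z => z.hom.hom) E.hom_inv_id
  let i : Red.DS S (Fin r → ℤ) ⟶ G := E.inv.hom.hom ≫ iT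
  haveI : IsMonHom i := inferInstanceAs (IsMonHom (E.inv.hom.hom ≫ iT))
  -- the torus over the algebraic closure
  let iK := bcHom' j i
  haveI := isIso_ej j (Fin r → ℤ)
  have hiK : iK = (ej j (Fin r → ℤ) ≫ F.map E.inv.hom.hom) ≫ F.map iT := by
    show ej j _ ≫ F.map i = _
    rw [Category.assoc, ← F.map_comp]
  haveI := hKT.2.1
  haveI : Mono iK := by rw [hiK]; exact mono_comp _ _
  have hiKmax : AGF.IsMaxTorus iK := by
    refine ⟨inferInstance, inferInstance, Chev.CharQuot.isTorus_DS r, fun T' _ w _ _ g hT' hg => ?_⟩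
    have := hKT.2.2.2 T' w (inv (ej j (Fin r → ℤ) ≫ F.map E.inv.hom.hom) ≫ g) hT' (by
      rw [Category.assoc, hg, hiK, IsIso.inv_hom_id_assoc])
    haveI := this
    exact IsIso.of_isIso_comp_left (inv (ej j (Fin r → ℤ) ≫ F.map E.inv.hom.hom)) g
  have hred : Red.IsReductiveOver K (F.obj G) := hG.2.2 s
  have hself := exists_isCentralizerOf_self hred iK hiKmax
  obtain ⟨mu, hmu⟩ := exists_regular (G := F.obj G) iK
  -- the standard Borel subgroup
  obtain ⟨B₀, _, b₀, hb₀⟩ := exists_isP (G := F.obj G) (Red.DSmap _ mu ≫ iK)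
  have hBor₀ := isBorelOver_of_regular hred iK hiKmax hself mu hmu b₀ hb₀
  haveI := hiKmax.1; haveI := hb₀.1; haveI := hb₀.2.1; haveI := hB'.1; haveI := hB'.2.1
  obtain ⟨t₀, ht₀⟩ := hb₀.exists_le iK fun B _ f y => ZSub_le_PSub f _ ((mem_ZSub_iff_commute f _).2
    fun B'' _ f'' x h => by
      rw [← Category.assoc h, ← Category.assoc x, ← MonObj.mul_comp, ← MonObj.mul_comp, DS_comm])
  obtain ⟨n, τ, σ, hτ, hσ⟩ := Groth.Agent.S3912.result K (F.obj G) _ _ _ iK b₀ iB' hiKmax hBor₀ hB' t₀ ht₀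
    ((ej j (Fin r → ℤ) ≫ F.map E.inv.hom.hom) ≫ t') (by rw [Category.assoc, ht', hiK])
  haveI : IsMonHom (AGF.conjBy n iK) := Chev.Borel.isMonHom_conjBy n iK
  haveI : IsMonHom τ.hom := MTSplit.isMonHom_of_comp_mono τ.hom iK _ hτ
  obtain ⟨w, hw⟩ := Chev.CharQuot.exists_DSmap (k := K) τ.hom
  let mu' : (Fin r → ℤ) →+ ℤ := mu.comp w
  -- the model over the ground field
  obtain ⟨B, _, iB, hB⟩ := exists_isP (G := G) (Red.DSmap S mu' ≫ i)
  have hBs := smooth_isP inferInstance _ hB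
  haveI := hB.1; haveI := hB.2.1
  have hBK : IsP (Red.DSmap _ mu' ≫ iK) ((Over.pullback j).map iB) := bcHom'_DSmap j mu' i ▸ hB.bc j
  haveI : IsMonHom (AGF.conjBy n (𝟙 (F.obj G))) := Chev.Borel.isMonHom_conjBy n (𝟙 (F.obj G))
  haveI : IsIso (AGF.conjBy n (𝟙 (F.obj G))) := ⟨AGF.conjBy n⁻¹ (𝟙 (F.obj G)), by
      rw [Chev.Borel.comp_conjBy', Category.comp_id, Chev.Borel.conjBy_conjBy, inv_mul_cancel, AGF.conjBy,
        MonObj.comp_one, _root_.one_mul, inv_one, _root_.mul_one], by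
      rw [Chev.Borel.comp_conjBy', Category.comp_id, Chev.Borel.conjBy_conjBy, mul_inv_cancel, AGF.conjBy,
        MonObj.comp_one, _root_.one_mul, inv_one, _root_.mul_one]⟩
  have htr := hb₀.transport (AGF.conjBy n (𝟙 (F.obj G)))
  have h1 : (Red.DSmap _ mu ≫ iK) ≫ AGF.conjBy n (𝟙 (F.obj G)) = Red.DSmap _ mu' ≫ iK := by
    rw [Chev.Borel.comp_conjBy', Category.comp_id, ← Chev.Borel.comp_conjBy' n (Red.DSmap _ mu) iK, ← hτ, hw,
      reassoc_of% (RootIntrinsic.DSmap_comp_apply (k := K) mu w)]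
  rw [h1, Chev.Borel.comp_conjBy', Category.comp_id] at htr
  obtain ⟨d, hd⟩ := hBK.exists_iso htr
  let e : F.obj B ≅ B' := d ≪≫ σ
  have he : e.hom ≫ iB' = F.map iB := by
    show (d.hom ≫ σ.hom) ≫ iB' = _
    rw [Category.assoc, hσ, hd]
  obtain ⟨t, ht⟩ := hB.exists_le iT fun B'' _ f y => ZSub_le_PSub f _ ((mem_ZSub_iff_commute f _).2
    fun B''' _ f'' x h => by
      rw [show y ≫ iT = (y ≫ E.hom.hom.hom) ≫ i by rw [Category.assoc, reassoc_of% hE],
        ← Category.assoc h, ← Category.assoc x, ← MonObj.mul_comp, ← MonObj.mul_comp,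
        show (x ≫ y ≫ E.hom.hom.hom) * (h ≫ Red.DSmap S mu') = (h ≫ Red.DSmap S mu') * (x ≫ y ≫ E.hom.hom.hom) from
          ch_ext fun m => by rw [ch_mul, ch_mul, _root_.mul_comm]])
  haveI : Mono (F.map iB) := by
    haveI := hBK.2.1
    exact Over.mono_of_mono_left _
  haveI : Mono iB' := Over.mono_of_mono_left iB'
  haveI : Subsingleton (Spec (CommRingCat.of k)) := inferInstanceAs (Subsingleton (PrimeSpectrum k))
  refine ⟨B, inferInstance, iB, t, e, ⟨hB.1, hB.2.1, hBs, fun s' => ?_⟩, ht, he⟩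
  obtain rfl := Subsingleton.elim s s'
  haveI := hBK.1
  exact Chev.Borel.isBorelOver_of_iso e.symm iB' (F.map iB) (by
    show e.inv ≫ F.map iB = iB'
    rw [← he, Iso.inv_hom_id_assoc]) hB'

end Groth.Agent.DynPar
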