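import Groth.Agent.DynPar.Main
import Groth.Agent.MTTorus.Basic
import Mathlib.Algebra.Order.Group.PiLex
import Mathlib.RingTheory.Bialgebra.MonoidAlgebra

/-!
# Centralisers of split tori are Levi subgroups
-/

set_option autoImplicit false
set_option linter.style.haveILetI false
set_option backward.isDefEq.respectTransparency false
set_option maxHeartbeats 1000000
set_option synthInstance.maxHeartbeats 400000

universe u

open CategoryTheory Limits MonoidalCategory CartesianMonoidalCategory MonObj AlgebraicGeometry LieS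
open scoped CategoryTheory.Obj

noncomputable section

namespace Groth.Agent.DynPar

open Groth.Agent.HomDiag Groth.Agent.MTBridge

/-- Over a field the character group of a diagonalisable group is determined. -/
theorem nonempty_addEquiv {K : Type u} [Field K] {M M' : Type} [AddCommGroup M] [AddCommGroup M']
    (E : Grp.mk (Red.DS (Spec (CommRingCat.of K)) M) ≅ Grp.mk (Red.DS (Spec (CommRingCat.of K)) M')) :
    Nonempty (M ≃+ M') := by
  obtain ⟨a⟩ := nonempty_DS_iso K M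
  obtain ⟨b⟩ := nonempty_DS_iso K M'
  obtain ⟨e⟩ := nonempty_bialgEquiv (a.symm ≪≫ E ≪≫ b)
  let p := MonoidAlgebra.mapDomainOfBialgHom (e.symm : MonoidAlgebra K (Multiplicative M) →ₐc[K] MonoidAlgebra K (Multiplicative M'))
  let q := MonoidAlgebra.mapDomainOfBialgHom (e : MonoidAlgebra K (Multiplicative M') →ₐc[K] MonoidAlgebra K (Multiplicative M))
  have hinj : ∀ {N : Type} [AddCommGroup N] (x y : Multiplicative N),
      MonoidAlgebra.single x (1 : K) = MonoidAlgebra.single y 1 → x = y := fun x y h =>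
    MonoidAlgebra.single_left_injective one_ne_zero h
  refine ⟨(MonoidHom.toMulEquiv p q (MonoidHom.ext fun x => hinj _ _ ?_) (MonoidHom.ext fun x => hinj _ _ ?_)).toAdditive⟩
  · show MonoidAlgebra.single (q (p x)) (1 : K) = _
    rw [MonoidAlgebra.single_mapDomainOfBialgHom, MonoidAlgebra.single_mapDomainOfBialgHom]
    exact e.apply_symm_apply _
  · show MonoidAlgebra.single (p (q x)) (1 : K) = _
    rw [MonoidAlgebra.single_mapDomainOfBialgHom, MonoidAlgebra.single_mapDomainOfBialgHom]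
    exact e.symm_apply_apply _

/-- The characters of a torus split with group `M` over a non-empty base form a lattice. -/
theorem exists_lattice {S : Scheme.{u}} [Nonempty S] {Q : Over S} [GrpObj Q] {M : Type} [AddCommGroup M]
    (hQt : Red.IsTorus Q) (hQ : Red.IsSplitTorusWith M Q) : ∃ r : ℕ, Nonempty (M ≃+ (Fin r → ℤ)) := by
  obtain ⟨S', f, -, hf, -, hloc⟩ := hQt
  obtain ⟨s', -⟩ := hf.surj (Classical.arbitrary S)
  obtain ⟨U, hU, r, hr⟩ := hloc s'
  obtain ⟨e⟩ := hQ
  let l : Spec (CommRingCat.of ((U : Scheme.{u}).residueField ⟨s', hU⟩)) ⟶ (U : Scheme.{u}) :=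
    (U : Scheme.{u}).fromSpecResidueField ⟨s', hU⟩
  obtain ⟨h1⟩ := nonempty_bc_split hr l
  exact ⟨r, nonempty_addEquiv (K := (U : Scheme.{u}).residueField ⟨s', hU⟩)
    ((bcDS (l ≫ U.ι ≫ f) M).symm ≪≫ (bcMapIso _ e).symm ≪≫ h1)⟩

variable {S : Scheme.{u}}

/-- **The centraliser of a split torus is a Levi subgroup of a parabolic subgroup cut out by it.** -/
theorem exists_parabolic_of_splitTorus {G Q Z : Over S} [GrpObj G] [GrpObj Q] [GrpObj Z] (hG : Red.IsReductive G)
    (j : Q ⟶ G) [IsMonHom j] {M : Type} [AddCommGroup M] (hQt : Red.IsTorus Q) (hQ : Red.IsSplitTorusWith M Q)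
    (z : Z ⟶ G) [IsMonHom z] (hZ : Red.IsCentralizerOf j z) :
    ∃ (P : Over S) (_ : GrpObj P) (p : P ⟶ G) (l : Z ⟶ P), Red.IsParabolic p ∧ l ≫ p = z ∧ Par.IsLevi l := by
  haveI := hG.1
  obtain ⟨e⟩ := id hQ
  haveI : IsMonHom e.inv.hom.hom := e.inv.hom.isMonHom_hom
  haveI : IsMonHom e.hom.hom.hom := e.hom.hom.isMonHom_hom
  have hinv : e.hom.hom.hom ≫ e.inv.hom.hom = 𝟙 Q := congrArg (fun z => z.hom.hom) e.hom_inv_id
  suffices h : ∃ (r : ℕ) (θ : M →+ Lex (Fin r → ℤ)),
      ∀ (X : Over S) (g : X ⟶ G),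
        (∀ (X' : Over S) (x : X' ⟶ X) (h : X' ⟶ Red.DS S (Lex (Fin r → ℤ))),
          (x ≫ g) * (h ≫ Red.DSmap S θ ≫ e.inv.hom.hom ≫ j) = (h ≫ Red.DSmap S θ ≫ e.inv.hom.hom ≫ j) * (x ≫ g)) →
        ∀ (X' : Over S) (x : X' ⟶ X) (h : X' ⟶ Q), (x ≫ g) * (h ≫ j) = (h ≫ j) * (x ≫ g) by
    obtain ⟨r, θ, hθ⟩ := h
    have hz : Red.IsCentralizerOf (Red.DSmap S θ ≫ e.inv.hom.hom ≫ j) z := by
      refine ⟨hZ.1, hZ.2.1, fun X g => ⟨fun hg X' x h => ?_, fun hg => (hZ.2.2 X g).2 (hθ X g hg)⟩⟩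
      have := (hZ.2.2 X g).1 hg X' x (h ≫ Red.DSmap S θ ≫ e.inv.hom.hom)
      simpa only [Category.assoc] using this
    obtain ⟨P, hP, p, l, -, h1, h2, h3⟩ := exists_parabolic (c := Red.DSmap S θ ≫ e.inv.hom.hom ≫ j) hG hz
    exact ⟨P, hP, p, l, h1, h2, h3⟩
  rcases isEmpty_or_nonempty S with hS | hS
  · refine ⟨0, 0, fun X g _ X' x h => ?_⟩
    haveI : IsEmpty X'.left := Function.isEmpty X'.hom.base
    exact Over.OverMorphism.ext (isInitialOfIsEmpty.hom_ext _ _)
  · obtain ⟨r, ⟨σ⟩⟩ := exists_lattice hQt hQ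
    let τ : M ≃+ Lex (Fin r → ℤ) := σ.trans { toLex with map_add' := fun _ _ => rfl }
    refine ⟨r, τ.toAddMonoidHom, fun X g hg X' x h => ?_⟩
    have := hg X' x (h ≫ e.hom.hom.hom ≫ Red.DSmap S τ.symm.toAddMonoidHom)
    have e1 : Red.DSmap S τ.symm.toAddMonoidHom ≫ Red.DSmap S τ.toAddMonoidHom = 𝟙 _ := by
      rw [← DSmap_id]
      refine ch_ext fun m => ?_
      rw [ch_DSmap, ← Category.id_comp (Red.DSmap S τ.symm.toAddMonoidHom), ch_DSmap,
        ← Category.id_comp (Red.DSmap S (AddMonoidHom.id M)), ch_DSmap]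
      simp
    simp only [Category.assoc] at this
    rw [reassoc_of% e1, reassoc_of% hinv] at this
    exact this

end Groth.Agent.DynPar
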