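import Groth.Agent.DynPar.Fibre

/-!
# The geometric fibres of the subgroups with a limit
-/

set_option autoImplicit false
set_option linter.style.haveILetI false
set_option backward.isDefEq.respectTransparency false
set_option maxHeartbeats 1000000
set_option synthInstance.maxHeartbeats 400000

universe u

open CategoryTheory Limits MonoidalCategory CartesianMonoidalCategory MonObj AlgebraicGeometry LieS
open scoped CategoryTheory.Obj

noncomputable section

namespace Groth.Agent.DynPar

/-- **The geometric fibres**: connected, and those of the contracted subgroup have no subtorus. -/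
theorem geom_fibre {S : Scheme.{u}} {G : Over S} [GrpObj G] [IsAffineHom G.hom] (hG : Smooth G.hom)
    (hconn : ∀ s : S, ConnectedSpace (Red.geomFibre s G).left)
    {Γ : Type} [AddCommGroup Γ] [LinearOrder Γ] [IsOrderedAddMonoid Γ] {c : Red.DS S Γ ⟶ G} [IsMonHom c]
    {P U Z : Over S} [GrpObj P] [GrpObj U] [GrpObj Z] {p : P ⟶ G} {u : U ⟶ G} {z : Z ⟶ G}
    (hp : IsP c p) (hu : IsU c u) (hz : Red.IsCentralizerOf c z) (s : S) :
    ConnectedSpace (Red.geomFibre s P).left ∧ ConnectedSpace (Red.geomFibre s U).left ∧
      ConnectedSpace (Red.geomFibre s Z).left ∧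
      Red.HasNoSubtorus (AlgebraicClosure (S.residueField s)) (Red.geomFibre s U) := by
  let j := Red.geomPt s
  haveI : IsAffineHom (Red.geomFibre s G).hom := inferInstanceAs (IsAffineHom (pullback.snd G.hom j))
  haveI : IsAffine (Red.geomFibre s G).left := isAffine_of_isAffineHom (Red.geomFibre s G).hom
  haveI hG' : Smooth (Red.geomFibre s G).hom := MorphismProperty.pullback_snd (P := @Smooth) G.hom j hG
  obtain ⟨h1, h2, h3⟩ := field_fibre (k := AlgebraicClosure (S.residueField s)) (bcHom' j c) (hp.bc j) (hu.bc j)
  haveI := h1 (hconn s)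
  obtain ⟨d⟩ := exists_leviData hp hu hz
  refine ⟨this, h2, connectedSpace_of_retract ((Over.pullback j).map d.l) ((Over.pullback j).map d.r) ?_,
    h3 inferInstance⟩
  rw [← (Over.pullback j).map_comp, d.l_r, CategoryTheory.Functor.map_id]

end Groth.Agent.DynPar
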