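import Groth.Agent.DynPar.Fibre
import Groth.Agent.RG.Dev.IntegralFibre
import Mathlib.RingTheory.Nakayama

/-!
# Tangent vectors of affine groups over a field
-/

set_option autoImplicit false
set_option linter.style.haveILetI false
set_option backward.isDefEq.respectTransparency false
set_option maxHeartbeats 1000000
set_option synthInstance.maxHeartbeats 400000

universe u

open CategoryTheory Limits MonoidalCategory CartesianMonoidalCategory MonObj AlgebraicGeometry LieS
open scoped CategoryTheory.Obj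

noncomputable section

namespace Groth.Agent.DynPar

open Groth.Agent.HomDiag Groth.Agent.MTCentre

/-- Products of two elements of the dual-number group algebra without constant parts. -/
theorem mul_eq_zero_of_fst {k : Type u} [CommRing k] {N : Type} [Monoid N] (p q : MonoidAlgebra (DualNumber k) N)
    (hp : ∀ n, TrivSqZeroExt.fst (p.coeff n) = 0) (hq : ∀ n, TrivSqZeroExt.fst (q.coeff n) = 0) : p * q = 0 := by
  classical
  rw [← MonoidAlgebra.sum_coeff_single p, ← MonoidAlgebra.sum_coeff_single q, Finsupp.sum, Finsupp.sum,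
    Finset.sum_mul_sum]
  refine Finset.sum_eq_zero fun a _ => Finset.sum_eq_zero fun b _ => ?_
  rw [MonoidAlgebra.single_mul_single,
    show p.coeff a * q.coeff b = 0 from TrivSqZeroExt.ext (by simp [hp]) (by simp [DualNumber.snd_mul, hp, hq]),
    MonoidAlgebra.single_zero]

variable {k : Type u} [Field k] {H : Over (Spec (CommRingCat.of k))} [GrpObj H]

/-- The structure morphism of the dual numbers. -/
abbrev fε (k : Type u) [Field k] : Spec (CommRingCat.of (DualNumber k)) ⟶ Spec (CommRingCat.of k) :=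
  Spec.map (CommRingCat.ofHom (algebraMap k (DualNumber k))) ≫ fR k k

theorem specMap_fst_fε :
    Spec.map (CommRingCat.ofHom (TrivSqZeroExt.fstHom k k k).toRingHom) ≫ fε k = fR k k := by
  rw [← Category.assoc, LieS.specMap_comp, LieS.fstHom_comp_algebraMap, CommRingCat.ofHom_id, Spec.map_id,
    Category.id_comp]

/-- A point with values in the dual numbers reducing to the unit. -/
def IsTan (v : pt (DualNumber k) (fε k) ⟶ H) : Prop :=
  qm (TrivSqZeroExt.fstHom k k k).toRingHom specMap_fst_fε ≫ v = 1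

variable {v : pt (DualNumber k) (fε k) ⟶ H}

theorem fst_rp (hv : IsTan v) (a : Γ(H.left, ⊤)) :
    TrivSqZeroExt.fst (rp v a) = rp (1 : pt k (fR k k) ⟶ H) a := by
  rw [← hv, rp_qm]
  rfl

omit [GrpObj H] in
theorem rp_comp_left {P : Over (Spec (CommRingCat.of k))} {B : Type u} [CommRing B]
    {f : Spec (CommRingCat.of B) ⟶ Spec (CommRingCat.of k)} (t : pt B f ⟶ P) (p : P ⟶ H) :
    rp (t ≫ p) = (rp t).comp p.left.appTop.hom := RingHom.ext fun a => by
  show (Scheme.ΓSpecIso (CommRingCat.of B)).hom ((t ≫ p).left.appTop a) = _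
  rw [Over.comp_left, Scheme.Hom.comp_appTop]
  rfl

theorem rp_one_dual (a : Γ(H.left, ⊤)) :
    rp (1 : pt (DualNumber k) (fε k) ⟶ H) a = TrivSqZeroExt.inl (rp (1 : pt k (fR k k) ⟶ H) a) := by
  rw [← MonObj.comp_one (qm (algebraMap k (DualNumber k)) (rfl : _ = fε k)), rp_qm]
  rfl

theorem isTan_one : IsTan (1 : pt (DualNumber k) (fε k) ⟶ H) := MonObj.comp_one _

variable [IsAffine H.left]

theorem exists_pt_of_ringHom {B : Type u} [CommRing B] {f : Spec (CommRingCat.of B) ⟶ Spec (CommRingCat.of k)}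
    (χ : Γ(H.left, ⊤) →+* B)
    (hχ : ∀ r, χ (H.hom.appTop r) = (Scheme.ΓSpecIso (CommRingCat.of B)).hom (f.appTop r)) :
    ∃ t : pt B f ⟶ H, rp t = χ := by
  let m : Spec (CommRingCat.of B) ⟶ H.left := Spec.map (CommRingCat.ofHom χ) ≫ H.left.isoSpec.inv
  have hm : ∀ a, (Scheme.ΓSpecIso (CommRingCat.of B)).hom (m.appTop a) = χ a := fun a => by
    rw [appTop_specMap_isoSpec_inv]
    exact ConcreteCategory.congr_hom (Scheme.ΓSpecIso (CommRingCat.of B)).inv_hom_id (χ a)
  refine ⟨Over.homMk m (show m ≫ H.hom = f from ext_of_isAffine ?_), RingHom.ext hm⟩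
  ext r
  refine (ConcreteCategory.bijective_of_isIso (Scheme.ΓSpecIso (CommRingCat.of B)).hom).1 ?_
  rw [Scheme.Hom.comp_appTop, CommRingCat.comp_apply, hm, hχ]

variable {M : Type} [AddCommGroup M] (c : Red.DS (Spec (CommRingCat.of k)) M ⟶ H) [IsMonHom c]

theorem fst_rp_wc (hv : IsTan v) (a : Γ(H.left, ⊤)) {m : M} (hm : m ≠ 0) :
    TrivSqZeroExt.fst (rp v (wc c a m)) = 0 := by
  rw [fst_rp hv, rp_one_wc c a hm]

theorem fst_rp_wc_zero (hv : IsTan v) (a : Γ(H.left, ⊤)) :
    TrivSqZeroExt.fst (rp v (wc c a 0)) = rp (1 : pt k (fR k k) ⟶ H) a := by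
  classical
  rw [fst_rp hv]
  conv_rhs => rw [← sum_wc c a, map_sum]
  by_cases h0 : (0 : M) ∈ wts c a
  · rw [Finset.sum_eq_single_of_mem (0 : M) h0 fun m _ hm => rp_one_wc c a hm]
  · rw [wc_eq_zero_of_notMem c h0, map_zero, Finset.sum_eq_zero fun m hm => rp_one_wc c a (fun e : m = 0 => h0 (e ▸ hm))]

theorem snd_rp_wc_mul (hv : IsTan v) (m : M) (a b : Γ(H.left, ⊤)) :
    TrivSqZeroExt.snd (rp v (wc c (a * b) m)) =
      rp (1 : pt k (fR k k) ⟶ H) a * TrivSqZeroExt.snd (rp v (wc c b m)) +
        rp (1 : pt k (fR k k) ⟶ H) b * TrivSqZeroExt.snd (rp v (wc c a m)) := by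
  classical
  let E : Γ(H.left, ⊤) → MonoidAlgebra (DualNumber k) (Multiplicative M) := fun x =>
    MonoidAlgebra.mapRingHom _ (rp v) (gr c x)
  let e0 : Γ(H.left, ⊤) → MonoidAlgebra (DualNumber k) (Multiplicative M) := fun x =>
    MonoidAlgebra.single 1 (TrivSqZeroExt.inl (rp (1 : pt k (fR k k) ⟶ H) x))
  have hE : ∀ x n, (E x).coeff n = rp v (wc c x n.toAdd) := fun x n => by
    show (MonoidAlgebra.mapRingHom _ (rp v) (gr c x)).coeff n = _
    rw [MonoidAlgebra.coeff_mapRingHom]
    rfl
  have hfst : ∀ x n, TrivSqZeroExt.fst ((E x - e0 x).coeff n) = 0 := fun x n => by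
    rw [MonoidAlgebra.coeff_sub, Finsupp.sub_apply, TrivSqZeroExt.fst_sub, hE, MonoidAlgebra.coeff_single,
      Finsupp.single_apply]
    split_ifs with h
    · subst h
      rw [TrivSqZeroExt.fst_inl, toAdd_one, fst_rp_wc_zero c hv, sub_self]
    · rw [TrivSqZeroExt.fst_zero, sub_zero, fst_rp_wc c hv]
      exact fun e => h (Multiplicative.toAdd.injective e).symm
  have hmul := mul_eq_zero_of_fst (E a - e0 a) (E b - e0 b) (hfst a) (hfst b)
  have hE' : E (a * b) = E a * E b := by simp [E]
  have h1 : E (a * b) = e0 a * E b + e0 b * E a - e0 a * e0 b := by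
    rw [hE']
    linear_combination hmul
  have h2 := congr(TrivSqZeroExt.snd (($h1).coeff (Multiplicative.ofAdd m)))
  simp only [MonoidAlgebra.coeff_sub, MonoidAlgebra.coeff_add, Finsupp.sub_apply, Finsupp.add_apply,
    TrivSqZeroExt.snd_sub, TrivSqZeroExt.snd_add, e0, MonoidAlgebra.coeff_single_one_mul,
    MonoidAlgebra.single_mul_single, MonoidAlgebra.coeff_single, DualNumber.snd_mul, TrivSqZeroExt.fst_inl,
    TrivSqZeroExt.snd_inl, zero_mul, add_zero, hE, toAdd_ofAdd] at h2
  rw [h2]
  rcases eq_or_ne (Multiplicative.ofAdd m) 1 with h | h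
  · rw [h, _root_.mul_one, Finsupp.single_eq_same]
    simp [DualNumber.snd_mul]
  · rw [_root_.mul_one, Finsupp.single_eq_of_ne h]
    simp

/-- **The components of a tangent vector.** -/
theorem exists_tan_comp (hv : IsTan v) (m : M) :
    ∃ w : pt (DualNumber k) (fε k) ⟶ H, IsTan w ∧
      ∀ a, rp w a = TrivSqZeroExt.inl (rp (1 : pt k (fR k k) ⟶ H) a) +
        TrivSqZeroExt.inr (TrivSqZeroExt.snd (rp v (wc c a m))) := by
  classical
  have hwc_add : ∀ a b, wc c (a + b) m = wc c a m + wc c b m := fun a b => by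
    show (gr c (a + b)).coeff _ = _
    rw [map_add, MonoidAlgebra.coeff_add, Finsupp.add_apply]
    rfl
  have hwc_zero : wc c (0 : Γ(H.left, ⊤)) m = 0 := by
    show (gr c 0).coeff _ = 0
    rw [map_zero, MonoidAlgebra.coeff_zero, Finsupp.zero_apply]
  have hwc_one : TrivSqZeroExt.snd (rp v (wc c (1 : Γ(H.left, ⊤)) m)) = 0 := by
    show TrivSqZeroExt.snd (rp v ((gr c 1).coeff _)) = 0
    rw [map_one, MonoidAlgebra.one_def, MonoidAlgebra.coeff_single, Finsupp.single_apply]
    split_ifs <;> simp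
  let χ : Γ(H.left, ⊤) →+* DualNumber k :=
    { toFun := fun a => TrivSqZeroExt.inl (rp (1 : pt k (fR k k) ⟶ H) a) +
        TrivSqZeroExt.inr (TrivSqZeroExt.snd (rp v (wc c a m)))
      map_one' := by rw [hwc_one, map_one]; simp
      map_zero' := by rw [hwc_zero, map_zero, map_zero]; simp
      map_add' := fun a b => by
        rw [hwc_add, map_add, map_add, TrivSqZeroExt.snd_add]
        refine TrivSqZeroExt.ext ?_ ?_ <;> simp
      map_mul' := fun a b => by
        rw [snd_rp_wc_mul c hv, map_mul]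
        refine TrivSqZeroExt.ext ?_ ?_ <;> simp [DualNumber.snd_mul]
        ring }
  have hfst' : ∀ r, TrivSqZeroExt.fst (χ r) = rp (1 : pt k (fR k k) ⟶ H) r := fun r => by simp [χ]
  obtain ⟨w, hw⟩ := exists_pt_of_ringHom (f := fε k) χ fun r => by
    have hr : ∀ n, n ≠ 0 → rp v (wc c (H.hom.appTop r) n) = 0 := fun n hn => by
      have e := congr(rp $(show orb (fε k) (Red.DSmap _ (AddMonoidHom.id M) ≫ c) v =
        orb (fε k) (Red.DSmap _ (AddMonoidHom.id M) ≫ c) v from rfl) (H.hom.appTop r))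
      conv_lhs at e => rw [rp_orb]
      rw [rp_hom] at e
      replace e := congr(($e).coeff n)
      rw [AddMonoidAlgebra.coeff_sum, Finset.sum_apply'] at e
      simp only [AddMonoidAlgebra.coeff_single, Finsupp.single_apply, AddMonoidHom.id_apply] at e
      rw [Finset.sum_ite_eq'] at e
      have hsc : ((Scheme.ΓSpecIso (CommRingCat.of (AddMonoidAlgebra (DualNumber k) M))).hom
          ((fL (fε k) M).appTop r)).coeff n = 0 := by
        rw [scalar_mem_range (cC (DualNumber k) M) (fC := fε k) (fC' := fL (fε k) M) rfl r]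
        show (AddMonoidAlgebra.single 0 _).coeff n = 0
        rw [AddMonoidAlgebra.coeff_single, Finsupp.single_eq_of_ne hn]
      rw [hsc] at e
      split_ifs at e with h
      · exact e
      · rw [wc_eq_zero_of_notMem c h, map_zero]
    show TrivSqZeroExt.inl (rp (1 : pt k (fR k k) ⟶ H) (H.hom.appTop r)) +
      TrivSqZeroExt.inr (TrivSqZeroExt.snd (rp v (wc c (H.hom.appTop r) m))) =
        (Scheme.ΓSpecIso (CommRingCat.of (DualNumber k))).hom ((fε k).appTop r)
    rw [← rp_hom (1 : pt (DualNumber k) (fε k) ⟶ H) r, rp_one_dual]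
    refine add_eq_left.2 ?_
    by_cases hm : m = 0
    · subst hm
      have e : rp v (H.hom.appTop r) = rp (1 : pt (DualNumber k) (fε k) ⟶ H) (H.hom.appTop r) := by
        rw [rp_hom, rp_hom]
      rw [← sum_wc c (H.hom.appTop r), map_sum] at e
      have e' : rp v (wc c (H.hom.appTop r) 0) = rp (1 : pt (DualNumber k) (fε k) ⟶ H) (H.hom.appTop r) := by
        rw [sum_wc] at e
        rw [← e]
        by_cases h0 : (0 : M) ∈ wts c (H.hom.appTop r)
        · rw [Finset.sum_eq_single_of_mem (0 : M) h0 fun n _ hn => hr n hn]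
        · rw [wc_eq_zero_of_notMem c h0, map_zero,
            Finset.sum_eq_zero fun n hn => hr n (fun e : n = 0 => h0 (e ▸ hn))]
      rw [e', rp_one_dual]
      simp
    · rw [hr m hm]
      simp
  refine ⟨w, rp_ext (RingHom.ext fun a => ?_), fun a => by rw [hw]; rfl⟩
  rw [rp_qm, RingHom.comp_apply, hw]
  exact hfst' a

theorem rp_comp_wc (hv : IsTan v) {m : M} {w : pt (DualNumber k) (fε k) ⟶ H}
    (hw : ∀ a, rp w a = TrivSqZeroExt.inl (rp (1 : pt k (fR k k) ⟶ H) a) +
      TrivSqZeroExt.inr (TrivSqZeroExt.snd (rp v (wc c a m)))) (a : Γ(H.left, ⊤)) {n : M} (hn : n ≠ m) :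
    rp w (wc c a n) = rp (1 : pt (DualNumber k) (fε k) ⟶ H) (wc c a n) := by
  classical
  rw [hw, wc_wc c a n m, if_neg fun e => hn e.symm, map_zero, TrivSqZeroExt.snd_zero, rp_one_dual]
  simp

theorem tan_mem_ZSub (hv : IsTan v) {m : M} {w : pt (DualNumber k) (fε k) ⟶ H}
    (hw : ∀ a, rp w a = TrivSqZeroExt.inl (rp (1 : pt k (fR k k) ⟶ H) a) +
      TrivSqZeroExt.inr (TrivSqZeroExt.snd (rp v (wc c a m)))) {Γ' : Type} [AddCommGroup Γ'] (θ : M →+ Γ')
    (hm : θ m = 0) : w ∈ ZSub (fε k) (Red.DSmap _ θ ≫ c) :=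
  (mem_ZSub_iff c θ gens_univ).2 fun a _ n hn => by
    rw [rp_comp_wc c hv hw a (fun e : n = m => hn (e ▸ hm)),
      rp_one_wc c a (fun e : n = 0 => hn (by rw [e, map_zero]))]

theorem tan_mem_USub (hv : IsTan v) {m : M} {w : pt (DualNumber k) (fε k) ⟶ H}
    (hw : ∀ a, rp w a = TrivSqZeroExt.inl (rp (1 : pt k (fR k k) ⟶ H) a) +
      TrivSqZeroExt.inr (TrivSqZeroExt.snd (rp v (wc c a m)))) {Γ' : Type} [AddCommGroup Γ'] [LinearOrder Γ']
    [IsOrderedAddMonoid Γ'] (θ : M →+ Γ') (hm : 0 < θ m) : w ∈ USub (fε k) (Red.DSmap _ θ ≫ c) := by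
  refine (mem_USub_iff c θ gens_univ).2 ⟨(mem_PSub_iff c θ gens_univ).2 fun a _ n hn => ?_, fun a _ n hn => ?_⟩
  · rw [rp_comp_wc c hv hw a (fun e : n = m => lt_asymm hm (e ▸ hn)),
      rp_one_wc c a (fun e : n = 0 => hn.ne (by rw [e, map_zero]))]
  · exact rp_comp_wc c hv hw a fun e : n = m => hm.ne' (e ▸ hn)

theorem exists_snd_ne_of_notMem (hv : IsTan v) {Γ' : Type} [AddCommGroup Γ'] [LinearOrder Γ']
    [IsOrderedAddMonoid Γ'] (θ : M →+ Γ') (h : v ∉ PSub (fε k) (Red.DSmap _ θ ≫ c)) :
    ∃ a m, θ m < 0 ∧ TrivSqZeroExt.snd (rp v (wc c a m)) ≠ 0 := by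
  by_contra! h'
  refine h ((mem_PSub_iff c θ gens_univ).2 fun a _ m hm => TrivSqZeroExt.ext ?_ (h' a m hm))
  rw [fst_rp_wc c hv a (fun e : m = 0 => hm.ne (by rw [e, map_zero]))]
  rfl

end Groth.Agent.DynPar

namespace Groth.Agent.DynPar

variable {k : Type u} [Field k]

/-- **A smooth closed subgroup of a connected smooth group with the same tangent vectors is everything.** -/
theorem isIso_of_tan {P H : Over (Spec (CommRingCat.of k))} [GrpObj P] [GrpObj H] [IsAffine H.left]
    [Smooth H.hom] [ConnectedSpace H.left] [Smooth P.hom] (p : P ⟶ H) [IsMonHom p] [IsClosedImmersion p.left]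
    (h : ∀ v : pt (DualNumber k) (fε k) ⟶ H, IsTan v → ∃ w, w ≫ p = v) : IsIso p := by
  classical
  haveI : IsAffine P.left := isAffine_of_isAffineHom p.left
  haveI : IsIntegral H.left := RGDev.isIntegral_of_smooth_connected H.hom
  let C : Type u := Γ(H.left, ⊤)
  let D : Type u := Γ(P.left, ⊤)
  let π : C →+* D := p.left.appTop.hom
  have hπ : Function.Surjective π := p.left.app_surjective ⊤ (isAffineOpen_top _)
  let sC : k →+* C := ((Scheme.ΓSpecIso (CommRingCat.of k)).inv ≫ H.hom.appTop).hom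
  let sD : k →+* D := ((Scheme.ΓSpecIso (CommRingCat.of k)).inv ≫ P.hom.appTop).hom
  letI : Algebra k C := sC.toAlgebra
  letI : Algebra k D := sD.toAlgebra
  have hπs : ∀ r, π (sC r) = sD r := fun r => by
    show p.left.appTop (H.hom.appTop _) = P.hom.appTop _
    rw [← CommRingCat.comp_apply H.hom.appTop, ← Scheme.Hom.comp_appTop, Over.w p]
  let πA : C →ₐ[k] D := { π with commutes' := hπs }
  have hsm : sD.Smooth := RingHom.Smooth.respectsIso.2 P.hom.appTop.hom
    (Scheme.ΓSpecIso (CommRingCat.of k)).symm.commRingCatIsoToRingEquiv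
    ((HasRingHomProperty.iff_of_isAffine (P := @Smooth)).1 inferInstance)
  haveI : Algebra.Smooth k D := hsm
  haveI : Algebra.FormallySmooth k D := Algebra.Smooth.formallySmooth
  have hft : sC.FiniteType := RingHom.finiteType_respectsIso.2 H.hom.appTop.hom
    (Scheme.ΓSpecIso (CommRingCat.of k)).symm.commRingCatIsoToRingEquiv
    ((HasRingHomProperty.iff_of_isAffine (P := @LocallyOfFiniteType)).1 inferInstance)
  haveI : Algebra.FiniteType k C := hft
  haveI : IsNoetherianRing C := Algebra.FiniteType.isNoetherianRing k C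
  let ε0 : C →+* k := rp (1 : pt k (fR k k) ⟶ H)
  have hε0 : ∀ r, ε0 (sC r) = r := fun r => by
    show rp _ (H.hom.appTop _) = r
    rw [rp_hom, fR, Algebra.algebraMap_self, CommRingCat.ofHom_id, Spec.map_id, Scheme.Hom.id_appTop]
    exact ConcreteCategory.congr_hom (Scheme.ΓSpecIso (CommRingCat.of k)).inv_hom_id r
  let m : Ideal C := RingHom.ker ε0
  let J : Ideal C := RingHom.ker π
  have hJm : J ≤ m := fun a ha => by
    have e : (1 : pt k (fR k k) ⟶ P) ≫ p = 1 := (IsMonHom.monoidHom p _).map_one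
    show rp _ a = 0
    rw [← e]
    rw [rp_comp_left, RingHom.comp_apply, show p.left.appTop.hom a = 0 from ha, map_zero]
  have hJ2 : J ≤ m ^ 2 := by
    intro x hx
    by_contra hx2
    let W : Submodule k C := (m ^ 2).restrictScalars k ⊔ Submodule.span k {(1 : C)}
    have hxW : x ∉ W := by
      intro hxW
      obtain ⟨y, hy, z, hz, rfl⟩ := Submodule.mem_sup.1 hxW
      obtain ⟨r, rfl⟩ := Submodule.mem_span_singleton.1 hz
      refine hx2 ?_
      have h0 : ε0 (y + r • (1 : C)) = 0 := hJm hx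
      rw [map_add, show ε0 y = 0 from Ideal.pow_le_self two_ne_zero hy, zero_add, Algebra.smul_def,
        _root_.mul_one, show ε0 (algebraMap k C r) = r from hε0 r] at h0
      rw [h0, zero_smul, add_zero]
      exact hy
    obtain ⟨φ, hφx, hφW⟩ := Submodule.exists_dual_map_eq_bot_of_notMem hxW inferInstance
    have hW : ∀ y ∈ W, φ y = 0 := fun y hy =>
      (Submodule.mem_bot k).1 (hφW ▸ Submodule.mem_map_of_mem hy)
    have hconst : ∀ r : k, φ (algebraMap k C r) = 0 := fun r => by
      rw [Algebra.algebraMap_eq_smul_one]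
      exact hW _ (Submodule.mem_sup_right (Submodule.smul_mem _ r (Submodule.mem_span_singleton_self 1)))
    have hmem : ∀ a : C, a - algebraMap k C (ε0 a) ∈ m := fun a => by
      show ε0 _ = 0
      rw [map_sub, show ε0 (algebraMap k C (ε0 a)) = ε0 a from hε0 _, sub_self]
    have hmul : ∀ a b, φ (a * b) = ε0 a * φ b + ε0 b * φ a := fun a b => by
      have e : φ ((a - algebraMap k C (ε0 a)) * (b - algebraMap k C (ε0 b))) = 0 :=
        hW _ (Submodule.mem_sup_left (by
          show _ ∈ m ^ 2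
          rw [pow_two]
          exact Ideal.mul_mem_mul (hmem a) (hmem b)))
      rw [sub_mul, mul_sub, mul_sub, map_sub, map_sub, map_sub, ← map_mul (algebraMap k C), hconst,
        _root_.mul_comm a (algebraMap k C (ε0 b)), ← Algebra.smul_def, ← Algebra.smul_def, map_smul, map_smul,
        smul_eq_mul, smul_eq_mul] at e
      linear_combination e
    let χ : C →+* DualNumber k :=
      { toFun := fun a => TrivSqZeroExt.inl (ε0 a) + TrivSqZeroExt.inr (φ a)
        map_one' := by
          rw [map_one, hW 1 (Submodule.mem_sup_right (Submodule.mem_span_singleton_self 1))]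
          simp
        map_zero' := by rw [map_zero, map_zero]; simp
        map_add' := fun a b => by
          refine TrivSqZeroExt.ext ?_ ?_ <;> simp
        map_mul' := fun a b => by
          refine TrivSqZeroExt.ext ?_ ?_ <;> simp [DualNumber.snd_mul, hmul]
          ring }
    obtain ⟨v, hv⟩ := exists_pt_of_ringHom (H := H) (f := fε k) χ fun r => by
      obtain ⟨r', rfl⟩ := (ConcreteCategory.bijective_of_isIso (Scheme.ΓSpecIso (CommRingCat.of k)).inv).2 r
      show TrivSqZeroExt.inl (ε0 (sC r')) + TrivSqZeroExt.inr (φ (algebraMap k C r')) = _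
      rw [hε0, hconst]
      have e := rp_hom (1 : pt k (fR k k) ⟶ H) ((Scheme.ΓSpecIso (CommRingCat.of k)).inv r')
      have e2 : rp (1 : pt k (fR k k) ⟶ H) (H.hom.appTop ((Scheme.ΓSpecIso (CommRingCat.of k)).inv r')) = r' :=
        hε0 r'
      rw [scalar_mem_range (algebraMap k (DualNumber k)) (fC := fR k k) (fC' := fε k) rfl, ← e, e2]
      simp [TrivSqZeroExt.algebraMap_eq_inl]
    obtain ⟨w, hw⟩ := h v (rp_ext (RingHom.ext fun a => by
      rw [rp_qm, RingHom.comp_apply, hv]
      show TrivSqZeroExt.fst (TrivSqZeroExt.inl (ε0 a) + TrivSqZeroExt.inr (φ a)) = ε0 a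
      simp))
    have e : χ x = 0 := by
      rw [← hv, ← hw]
      rw [rp_comp_left, RingHom.comp_apply, show p.left.appTop.hom x = 0 from hx, map_zero]
    have e2 := congrArg TrivSqZeroExt.snd e
    simp [χ] at e2
    exact hφx e2
  have hJmJ : J ≤ m • J := by
    let q : C ⧸ J ^ 2 →ₐ[k] D := Ideal.Quotient.liftₐ (J ^ 2) πA fun a ha => Ideal.pow_le_self two_ne_zero ha
    have hJ : RingHom.ker q ^ 2 = ⊥ := by
      rw [eq_bot_iff, pow_two (RingHom.ker q), Ideal.mul_le]
      intro a ha b hb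
      obtain ⟨a, rfl⟩ := Ideal.Quotient.mk_surjective a
      obtain ⟨b, rfl⟩ := Ideal.Quotient.mk_surjective b
      rw [Ideal.mem_bot, ← map_mul, Ideal.Quotient.eq_zero_iff_mem, pow_two]
      exact Ideal.mul_mem_mul ha hb
    let σ : D →ₐ[k] C ⧸ J ^ 2 := Algebra.FormallySmooth.liftOfSurjective (AlgHom.id k D) q
      (fun d => by obtain ⟨a, ha⟩ := hπ d; exact ⟨Ideal.Quotient.mk _ a, ha⟩) ⟨2, hJ⟩
    have hσ : ∀ d, q (σ d) = d := fun d =>
      Algebra.FormallySmooth.liftOfSurjective_apply (AlgHom.id k D) q _ _ d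
    choose s hs using fun a : C => Ideal.Quotient.mk_surjective (σ (π a))
    have hs' : ∀ a, a - s a ∈ J := fun a => by
      show π (a - s a) = 0
      rw [map_sub, sub_eq_zero]
      exact ((hσ (π a)).symm.trans (congrArg q (hs a).symm))
    intro x hx
    have hx2 := hJ2 hx
    have key : ∀ a, a ∈ m ^ 2 → a - s a ∈ m * J := by
      intro a ha
      rw [pow_two] at ha
      refine Submodule.mul_induction_on ha (fun a ha b hb => ?_) (fun a b h1 h2 => ?_)
      · have hsm : ∀ c ∈ m, s c ∈ m := fun c hc => by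
          have := hJm (hs' c)
          simpa using sub_mem hc this
        have e : s (a * b) - s a * s b ∈ J ^ 2 := by
          rw [← Ideal.Quotient.eq, map_mul, hs, hs, hs, map_mul, map_mul]
        have e2 : J ^ 2 ≤ m * J := by
          rw [pow_two]
          exact Ideal.mul_mono_left hJm
        have : a * b - s (a * b) =
            a * (b - s b) + s b * (a - s a) - (s (a * b) - s a * s b) := by ring
        rw [this]
        exact sub_mem (add_mem (Ideal.mul_mem_mul ha (hs' b)) (Ideal.mul_mem_mul (hsm b hb) (hs' a))) (e2 e)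
      · have e : s (a + b) - (s a + s b) ∈ J ^ 2 := by
          rw [← Ideal.Quotient.eq, map_add, hs, hs, hs, map_add, map_add]
        have e2 : J ^ 2 ≤ m * J := by
          rw [pow_two]
          exact Ideal.mul_mono_left hJm
        have : a + b - s (a + b) = (a - s a) + (b - s b) - (s (a + b) - (s a + s b)) := by ring
        rw [this]
        exact sub_mem (add_mem h1 h2) (e2 e)
    have h0 : s x ∈ J ^ 2 := by
      rw [← Ideal.Quotient.eq_zero_iff_mem, hs, show π x = 0 from hx, map_zero]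
    have e2 : J ^ 2 ≤ m * J := by
      rw [pow_two]
      exact Ideal.mul_mono_left hJm
    rw [smul_eq_mul]
    simpa using add_mem (key x (hJ2 hx)) (e2 h0)
  obtain ⟨r, hr1, hr0⟩ :=
    Submodule.exists_sub_one_mem_and_smul_eq_zero_of_fg_of_le_smul m J (IsNoetherian.noetherian J) hJmJ
  have hr : r ≠ 0 := fun e => by
    subst e
    have : ε0 (0 - 1) = 0 := hr1
    simp at this
  have hinj : Function.Injective π := by
    rw [RingHom.injective_iff_ker_eq_bot, eq_bot_iff]
    intro x hx
    exact (mul_eq_zero.1 (hr0 x hx)).resolve_left hr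
  haveI : IsIso p.left.appTop := (ConcreteCategory.isIso_iff_bijective _).2 ⟨hinj, hπ⟩
  haveI : IsIso p.left := by
    rw [show p.left = P.left.isoSpec.hom ≫ Spec.map p.left.appTop ≫ H.left.isoSpec.inv by
      rw [← Category.assoc, Scheme.isoSpec_hom_naturality, Category.assoc, Iso.hom_inv_id, Category.comp_id]]
    infer_instance
  haveI : IsIso ((Over.forget _).map p) := ‹IsIso p.left›
  exact isIso_of_reflects_iso p (Over.forget _)

end Groth.Agent.DynPar
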