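import Groth.Agent.DynPar.Orbit
import Groth.Agent.MTBridge.CentralFibres

/-!
# Limits of orbits are insensitive to change of base
-/

set_option autoImplicit false
set_option linter.style.haveILetI false
set_option backward.isDefEq.respectTransparency false
set_option maxHeartbeats 1000000
set_option synthInstance.maxHeartbeats 400000

universe u

open CategoryTheory Limits MonoidalCategory CartesianMonoidalCategory MonObj AlgebraicGeometry LieS
open scoped CategoryTheory.Obj

noncomputable section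

namespace Groth.Agent.DynPar

open Groth.Agent.HomDiag Groth.Agent.MTBridge

variable {S S' : Scheme.{u}} (j : S' ⟶ S) {M M' : Type} [AddCommGroup M] [AddCommGroup M']

/-- A morphism respecting products of points is a homomorphism. -/
theorem isMonHom_of_mul {S : Scheme.{u}} {K L : Over S} [GrpObj K] [GrpObj L] (φ : K ⟶ L)
    (hmul : ∀ (X : Over S) (x y : X ⟶ K), (x * y) ≫ φ = (x ≫ φ) * (y ≫ φ)) : IsMonHom φ where
  one_hom := by
    have h1 : (1 : 𝟙_ (Over S) ⟶ K) = η[K] := by
      rw [Hom.one_def, toUnit_unique (toUnit _) (𝟙 _), Category.id_comp]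
    have h2 : (1 : 𝟙_ (Over S) ⟶ L) = η[L] := by
      rw [Hom.one_def, toUnit_unique (toUnit _) (𝟙 _), Category.id_comp]
    rw [← h1, ← h2]
    have h := hmul _ (1 : 𝟙_ (Over S) ⟶ K) 1
    rw [_root_.one_mul] at h
    exact left_eq_mul.1 h
  mul_hom := by
    have h := hmul _ (fst K K) (snd _ _)
    rw [Hom.mul_def, lift_fst_snd, Category.id_comp] at h
    rw [h, Hom.mul_def]
    congr 1

/-- The characters of the group as functions on it. -/
def idCh (S' : Scheme.{u}) (M : Type) [AddCommGroup M] : Multiplicative M →* Γ((Red.DS S' M).left, ⊤) :=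
  ch (S := S') (X := Red.DS S' M) (𝟙 (Red.DS S' M))

/-- The tautological point of the diagonalisable group over a base of a base. -/
def ejPt (M : Type) [AddCommGroup M] : (Over.map j).obj (Red.DS S' M) ⟶ Red.DS S M :=
  (exists_ch (S := S) (X := (Over.map j).obj (Red.DS S' M)) (idCh S' M)).choose

theorem ch_ejPt (m : Multiplicative M) : ch (ejPt j M) m = idCh S' M m :=
  (exists_ch (S := S) (X := (Over.map j).obj (Red.DS S' M)) (idCh S' M)).choose_spec m

theorem ch_map_ejPt {X : Over S'} (x : X ⟶ Red.DS S' M) (m : Multiplicative M) :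
    ch ((Over.map j).map x ≫ ejPt j M) m = ch x m := by
  rw [ch_comp, ch_ejPt]
  exact (ch_comp x (𝟙 _) m).symm.trans (by rw [Category.comp_id])

/-- The comparison of diagonalisable groups along a change of base. -/
def ej (M : Type) [AddCommGroup M] : Red.DS S' M ⟶ Red.bc j (Red.DS S M) := toBC j (ejPt j M)

theorem comp_ej {X : Over S'} (x : X ⟶ Red.DS S' M) :
    x ≫ ej j M = toBC j ((Over.map j).map x ≫ ejPt j M) :=
  ((Over.mapPullbackAdj j).homEquiv_naturality_left x (ejPt j M)).symm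

theorem ejPt_mul {X : Over S'} (x y : X ⟶ Red.DS S' M) :
    (Over.map j).map (x * y) ≫ ejPt j M =
      ((Over.map j).map x ≫ ejPt j M) * ((Over.map j).map y ≫ ejPt j M) :=
  ch_ext fun m => by
    rw [ch_map_ejPt, ch_mul, ch_mul, ch_map_ejPt, ch_map_ejPt]

theorem isMonHom_toBC {K : Over S'} [GrpObj K] {L : Over S} [GrpObj L] (p : (Over.map j).obj K ⟶ L)
    (hp : ∀ (X : Over S') (x y : X ⟶ K),
      (Over.map j).map (x * y) ≫ p = ((Over.map j).map x ≫ p) * ((Over.map j).map y ≫ p)) :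
    IsMonHom (toBC j p) := by
  have h : ∀ {X : Over S'} (x : X ⟶ K), x ≫ toBC j p = toBC j ((Over.map j).map x ≫ p) := fun x =>
    ((Over.mapPullbackAdj j).homEquiv_naturality_left x p).symm
  exact isMonHom_of_mul _ fun X x y => by rw [h, h, h, hp, toBC_mul]

instance isMonHom_ej : IsMonHom (ej j M) :=
  isMonHom_toBC j (ejPt j M) fun _ x y => ejPt_mul j x y

theorem DSmap_ej (θ : M' →+ M) :
    Red.DSmap S' θ ≫ ej j M' = ej j M ≫ (Over.pullback j).map (Red.DSmap S θ) := by
  rw [comp_ej, ej, ← toBC_comp]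
  congr 1
  refine ch_ext fun m => ?_
  rw [ch_map_ejPt, ch_DSmap, ch_ejPt]
  conv_lhs => rw [← Category.id_comp (Red.DSmap S' θ), ch_DSmap]
  rfl

variable {G : Over S} [GrpObj G]

/-- The homomorphism over the new base. -/
def bcHom' (c : Red.DS S M ⟶ G) : Red.DS S' M ⟶ Red.bc j G := ej j M ≫ (Over.pullback j).map c

omit [GrpObj G] in
theorem bcHom'_DSmap (θ : M' →+ M) (c : Red.DS S M' ⟶ G) :
    bcHom' j (Red.DSmap S θ ≫ c) = Red.DSmap S' θ ≫ bcHom' j c := by
  rw [bcHom', bcHom', Functor.map_comp, ← Category.assoc, ← Category.assoc, DSmap_ej]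

theorem isMonHom_comp' {S : Scheme.{u}} {K L H : Over S} [GrpObj K] [GrpObj L] [GrpObj H] (a : K ⟶ L) [IsMonHom a]
    (b : L ⟶ H) [IsMonHom b] : IsMonHom (a ≫ b) := inferInstance

theorem isMonHom_map' {K : Over S} [GrpObj K] (c : K ⟶ G) [IsMonHom c] :
    IsMonHom ((Over.pullback j).map c) := inferInstance

instance isMonHom_bcHom' (c : Red.DS S M ⟶ G) [IsMonHom c] : IsMonHom (bcHom' j c) :=
  haveI := isMonHom_map' j c
  isMonHom_comp' (ej j M) ((Over.pullback j).map c)

variable {B B' : Type u} [CommRing B] [CommRing B'] {fa : Spec (CommRingCat.of B) ⟶ S'}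
  {fb : Spec (CommRingCat.of B) ⟶ S}

/-- An affine point over the old base as a point over the new one, as an identification of test objects. -/
def upId (e : fa ≫ j = fb) : pt B fb ⟶ (Over.map j).obj (pt B fa) :=
  Over.homMk (𝟙 _) (by
    show 𝟙 _ ≫ fa ≫ j = fb
    rw [Category.id_comp, e])

/-- The inverse identification. -/
def upId' (e : fa ≫ j = fb) : (Over.map j).obj (pt B fa) ⟶ pt B fb :=
  Over.homMk (𝟙 _) (by
    show 𝟙 _ ≫ fb = fa ≫ j
    rw [Category.id_comp, e])

theorem upId_upId' (e : fa ≫ j = fb) : upId j e ≫ upId' j e = 𝟙 _ :=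
  Over.OverMorphism.ext (Category.comp_id _)

theorem upId'_upId (e : fa ≫ j = fb) : upId' j e ≫ upId j e = 𝟙 _ :=
  Over.OverMorphism.ext (Category.comp_id _)

/-- Points of the base change are points of the group. -/
def up (e : fa ≫ j = fb) (p : pt B fa ⟶ Red.bc j G) : pt B fb ⟶ G :=
  upId j e ≫ ((Over.mapPullbackAdj j).homEquiv (pt B fa) G).symm p

/-- Points of the group over the new base are points of the base change. -/
def down (e : fa ≫ j = fb) (a : pt B fb ⟶ G) : pt B fa ⟶ Red.bc j G := toBC j (upId' j e ≫ a)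

omit [GrpObj G] in
theorem down_up (e : fa ≫ j = fb) (p : pt B fa ⟶ Red.bc j G) : down j e (up j e p) = p := by
  rw [down, up, ← Category.assoc, upId'_upId, Category.id_comp]
  exact Equiv.apply_symm_apply _ p

omit [GrpObj G] in
theorem up_down (e : fa ≫ j = fb) (a : pt B fb ⟶ G) : up j e (down j e a) = a := by
  rw [down, up, toBC, Equiv.symm_apply_apply, ← Category.assoc, upId_upId', Category.id_comp]

theorem down_mul (e : fa ≫ j = fb) (a b : pt B fb ⟶ G) : down j e (a * b) = down j e a * down j e b := by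
  rw [down, down, down, MonObj.comp_mul, toBC_mul]

/-- The identification of points as an isomorphism of groups. -/
def upEquiv (e : fa ≫ j = fb) : (pt B fb ⟶ G) ≃* (pt B fa ⟶ Red.bc j G) where
  toFun := down j e
  invFun := up j e
  left_inv := up_down j e
  right_inv := down_up j e
  map_mul' := down_mul j e

omit [GrpObj G] in
theorem down_comp {H : Over S} (e : fa ≫ j = fb) (a : pt B fb ⟶ H) (φ : H ⟶ G) :
    down j e (a ≫ φ) = down j e a ≫ (Over.pullback j).map φ := by
  rw [down, down, ← Category.assoc, toBC_comp]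

omit [GrpObj G] in
theorem qm_down {fa' : Spec (CommRingCat.of B') ⟶ S'} {fb' : Spec (CommRingCat.of B') ⟶ S}
    (e : fa ≫ j = fb) (e' : fa' ≫ j = fb') (h : B →+* B')
    (ha : Spec.map (CommRingCat.ofHom h) ≫ fa = fa') (hb : Spec.map (CommRingCat.ofHom h) ≫ fb = fb')
    (a : pt B fb ⟶ G) : down j e' (qm h hb ≫ a) = qm h ha ≫ down j e a := by
  rw [down, down]
  refine Eq.trans ?_ ((Over.mapPullbackAdj j).homEquiv_naturality_left (qm h ha) (upId' j e ≫ a))
  show toBC j _ = toBC j _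
  congr 1

theorem fL_comp (e : fa ≫ j = fb) (Λ : Type) [AddCommMonoid Λ] : fL fa Λ ≫ j = fL fb Λ := by
  rw [fL, fL, Category.assoc, e]

variable {Γ : Type} [AddCommGroup Γ]

theorem down_xu (e : fa ≫ j = fb) :
    down j (fL_comp j e Γ) (xu fb Γ) = xu fa Γ ≫ ej j Γ := by
  rw [comp_ej, down]
  congr 1
  refine ch_ext fun m => ?_
  rw [ch_map_ejPt, ch_comp]
  have h1 : (upId' j (fL_comp j e Γ)).left = 𝟙 _ := rfl
  rw [h1, Scheme.Hom.id_appTop]
  refine (ConcreteCategory.bijective_of_isIso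
    (Scheme.ΓSpecIso (CommRingCat.of (AddMonoidAlgebra B Γ))).hom).1 ?_
  exact (chv_xu fb Γ m).trans (chv_xu fa Γ m).symm

theorem down_orb (e : fa ≫ j = fb) (c : Red.DS S Γ ⟶ G) (g : pt B fb ⟶ G) :
    down j (fL_comp j e Γ) (orb fb c g) = orb fa (bcHom' j c) (down j e g) := by
  have hinv : ∀ a, down j (fL_comp j e Γ) a⁻¹ = (down j (fL_comp j e Γ) (a : _ ⟶ G))⁻¹ := fun a =>
    map_inv (upEquiv j (fL_comp j e Γ) (G := G)) a
  rw [orb_apply, orb_apply, down_mul, down_mul, hinv, down_comp, down_xu j e, bcHom', Category.assoc]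
  congr 2
  exact qm_down j e (fL_comp j e Γ) (cC B Γ) rfl rfl g

variable [LinearOrder Γ] [IsOrderedAddMonoid Γ]

omit [GrpObj G] in
theorem qn_down (e : fa ≫ j = fb) (a : pt (AddMonoidAlgebra B (NN Γ)) (fL fb (NN Γ)) ⟶ G) :
    down j (fL_comp j e Γ) (qn fb Γ ≫ a) = qn fa Γ ≫ down j (fL_comp j e (NN Γ)) a :=
  qm_down j (fL_comp j e (NN Γ)) (fL_comp j e Γ) _ (Over.w (qn fa Γ)) (Over.w (qn fb Γ)) a

theorem mem_PSub_down (e : fa ≫ j = fb) (c : Red.DS S Γ ⟶ G) {g : pt B fb ⟶ G} :
    g ∈ PSub fb c ↔ down j e g ∈ PSub fa (bcHom' j c) := by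
  rw [mem_PSub, mem_PSub, ← down_orb j e c]
  constructor
  · rintro ⟨h, hh⟩
    exact ⟨down j (fL_comp j e (NN Γ)) h, by rw [← qn_down j e, hh]⟩
  · rintro ⟨h, hh⟩
    refine ⟨up j (fL_comp j e (NN Γ)) h, (upEquiv j (fL_comp j e Γ)).injective ?_⟩
    show down j _ _ = down j _ _
    rw [qn_down j e, down_up, hh]

omit [GrpObj G] in
theorem qz_down (e : fa ≫ j = fb) (a : pt (AddMonoidAlgebra B (NN Γ)) (fL fb (NN Γ)) ⟶ G) :
    down j e (qz fb Γ ≫ a) = qz fa Γ ≫ down j (fL_comp j e (NN Γ)) a :=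
  qm_down j (fL_comp j e (NN Γ)) e _ (Over.w (qz fa Γ)) (Over.w (qz fb Γ)) a

theorem mem_USub_down (e : fa ≫ j = fb) (c : Red.DS S Γ ⟶ G) {g : pt B fb ⟶ G} :
    g ∈ USub fb c ↔ down j e g ∈ USub fa (bcHom' j c) := by
  rw [mem_USub, mem_USub, ← down_orb j e c]
  have h1 : down j e (1 : pt B fb ⟶ G) = 1 := map_one (upEquiv j e (G := G))
  constructor
  · rintro ⟨h, h0, hh⟩
    exact ⟨down j (fL_comp j e (NN Γ)) h, by rw [← qz_down j e, h0, h1], by rw [← qn_down j e, hh]⟩
  · rintro ⟨h, h0, hh⟩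
    refine ⟨up j (fL_comp j e (NN Γ)) h, (upEquiv j e).injective ?_, (upEquiv j (fL_comp j e Γ)).injective ?_⟩
    · show down j _ _ = down j _ _
      rw [qz_down j e, down_up, h0, h1]
    · show down j _ _ = down j _ _
      rw [qn_down j e, down_up, hh]

omit [LinearOrder Γ] [IsOrderedAddMonoid Γ] in
theorem mem_ZSub_down (e : fa ≫ j = fb) (c : Red.DS S Γ ⟶ G) {g : pt B fb ⟶ G} :
    g ∈ ZSub fb c ↔ down j e g ∈ ZSub fa (bcHom' j c) := by
  have h1 : down j (fL_comp j e Γ) (qc Γ fb ≫ g) = qc Γ fa ≫ down j e g :=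
    qm_down j e (fL_comp j e Γ) (cC B Γ) rfl rfl g
  rw [mem_ZSub, mem_ZSub, ← down_orb j e c, ← h1]
  exact ⟨fun h => h ▸ rfl, fun h => (upEquiv j (fL_comp j e Γ)).injective h⟩

end Groth.Agent.DynPar
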