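import Groth.Agent.DynPar.Tangent
import Groth.Agent.MTBridge.Centralizer
import Groth.Agent.MTBridge.EssFree
import Groth.Agent.MTBridge.Charts

/-!
# Limits in closed subgroups; points of the subgroups; regular functionals
-/

set_option autoImplicit false
set_option linter.style.haveILetI false
set_option backward.isDefEq.respectTransparency false
set_option maxHeartbeats 1000000
set_option synthInstance.maxHeartbeats 400000

universe u

open CategoryTheory Limits MonoidalCategory CartesianMonoidalCategory MonObj AlgebraicGeometry LieS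
open scoped CategoryTheory.Obj

noncomputable section

namespace Groth.Agent.DynPar

open Groth.Agent.HomDiag Groth.Agent.MTBridge

section Reflect

variable {S : Scheme.{u}} [IsAffine S] {H G : Over S} [GrpObj H] [GrpObj G] [IsAffine H.left] [IsAffine G.left]
  {Γ : Type} [AddCommGroup Γ] (c : Red.DS S Γ ⟶ H) (φ : H ⟶ G) [IsMonHom φ] [IsClosedImmersion φ.left]
  {B : Type u} [CommRing B] {f : Spec (CommRingCat.of B) ⟶ S} {g : pt B f ⟶ H}

theorem mem_ZSub_comp_iff : g ≫ φ ∈ ZSub f (c ≫ φ) ↔ g ∈ ZSub f c := by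
  haveI : Mono φ := Over.mono_of_mono_left φ
  rw [mem_ZSub, mem_ZSub, orb_comp, ← Category.assoc, cancel_mono]

variable [LinearOrder Γ] [IsOrderedAddMonoid Γ]

theorem mem_PSub_comp_iff : g ≫ φ ∈ PSub f (c ≫ φ) ↔ g ∈ PSub f c := by
  refine ⟨fun hg => ?_, comp_mem_PSub f c φ⟩
  obtain ⟨a, ha⟩ := (mem_PSub f _).1 hg
  rw [orb_comp] at ha
  refine (mem_PSub f c).2 (exists_pt_of_range (AddMonoidAlgebra.mapDomainRingHom B (NN Γ).subtype) qn_injective
    (fC := fL f (NN Γ)) (Over.w (qn f Γ)) (orb f c g) fun x => ?_)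
  obtain ⟨y, rfl⟩ := φ.left.app_surjective ⊤ (isAffineOpen_top _) x
  have e := congr(rp $ha y)
  rw [qn, qd, rp_qm, RingHom.comp_apply] at e
  refine ⟨rp a y, e.trans ?_⟩
  show (Scheme.ΓSpecIso _).hom ((orb f c g ≫ φ).left.appTop y) = _
  rw [Over.comp_left, Scheme.Hom.comp_appTop]
  rfl

theorem mem_USub_comp_iff : g ≫ φ ∈ USub f (c ≫ φ) ↔ g ∈ USub f c := by
  refine ⟨fun hg => ?_, comp_mem_USub f c φ⟩
  haveI : Mono φ := Over.mono_of_mono_left φ
  obtain ⟨a, ha⟩ := (mem_PSub f c).1 ((mem_PSub_comp_iff c φ).1 (USub_le_PSub f _ hg))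
  obtain ⟨b, hb0, hb⟩ := (mem_USub f _).1 hg
  have e : b = a ≫ φ := by
    refine pt_ext (AddMonoidAlgebra.mapDomainRingHom B (NN Γ).subtype) qn_injective (Over.w (qn f Γ)) ?_
    show qn f Γ ≫ b = qn f Γ ≫ a ≫ φ
    rw [hb, orb_comp, ← ha, Category.assoc]
  refine (mem_USub f c).2 ⟨a, ?_, ha⟩
  rw [← cancel_mono φ, Category.assoc, ← e, hb0]
  exact ((IsMonHom.monoidHom φ _).map_one).symm

end Reflect

section Points

variable {S : Scheme.{u}} {G : Over S} [GrpObj G] {Γ : Type} [AddCommGroup Γ] [LinearOrder Γ] [IsOrderedAddMonoid Γ]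
  {c : Red.DS S Γ ⟶ G} {B : Type u} [CommRing B] {f : Spec (CommRingCat.of B) ⟶ S}

theorem IsP.exists_fac_iff {P : Over S} [GrpObj P] {p : P ⟶ G} (hp : IsP c p) {g : pt B f ⟶ G} :
    (∃ y, y ≫ p = g) ↔ g ∈ PSub f c :=
  (hp.2.2 _ g).trans (inF_pt (PFam_stable c) g)

theorem IsU.exists_fac_iff {U : Over S} [GrpObj U] {u : U ⟶ G} (hu : IsU c u) {g : pt B f ⟶ G} :
    (∃ y, y ≫ u = g) ↔ g ∈ USub f c :=
  (hu.2.2 _ g).trans (inF_pt (UFam_stable c) g)

/-- A subgroup all of whose points have a limit is contained in the subgroup with a limit. -/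
theorem IsP.exists_le {P : Over S} [GrpObj P] {p : P ⟶ G} (hp : IsP c p) {X : Over S} (g : X ⟶ G)
    (h : ∀ (B : Type u) [CommRing B] (f : Spec (CommRingCat.of B) ⟶ S) (y : pt B f ⟶ X), y ≫ g ∈ PSub f c) :
    ∃ z, z ≫ p = g := (hp.2.2 X g).2 h

theorem IsU.exists_le {U : Over S} [GrpObj U] {u : U ⟶ G} (hu : IsU c u) {X : Over S} (g : X ⟶ G)
    (h : ∀ (B : Type u) [CommRing B] (f : Spec (CommRingCat.of B) ⟶ S) (y : pt B f ⟶ X), y ≫ g ∈ USub f c) :
    ∃ z, z ≫ u = g := (hu.2.2 X g).2 h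

end Points

/-- The centralizer of a homomorphism from a diagonalisable group exists. -/
theorem exists_centralizer_DS {S : Scheme.{u}} {G : Over S} [GrpObj G] (hG : Smooth G.hom) (hGa : IsAffineHom G.hom)
    {Γ : Type} [AddCommGroup Γ] (c : Red.DS S Γ ⟶ G) [IsMonHom c] :
    ∃ (Z : Over S) (_ : GrpObj Z) (z : Z ⟶ G),
      Red.IsCentralizerOf c z ∧ IsClosedImmersion z.left ∧ Smooth Z.hom :=
  exists_centralizer (Red.DS S Γ) G ⟨S, 𝟙 S, inferInstance, inferInstance,
    fun V hV => ⟨V, hV.isCompact, by simp⟩,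
    fun _ => ⟨⊤, trivial, Γ, inferInstance, ⟨bcDS _ Γ⟩⟩⟩ hG hGa c

/-! ### Regular functionals -/

/-- Finitely many non-zero elements of a lattice avoid the kernel of some functional. -/
theorem exists_hom_ne_zero {Λ : Type} [AddCommGroup Λ] [Module.Free ℤ Λ] (F : Finset Λ) :
    ∃ mu : Λ →+ ℤ, ∀ m ∈ F, m ≠ 0 → mu m ≠ 0 := by
  classical
  induction F using Finset.induction_on with
  | empty => exact ⟨0, fun m hm => absurd hm (Finset.notMem_empty m)⟩
  | insert p F hp ih =>
    obtain ⟨φ, hφ⟩ := ih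
    by_cases h0 : p = 0
    · exact ⟨φ, fun m hm h => hφ m ((Finset.mem_insert.1 hm).resolve_left (fun e => h (e.trans h0))) h⟩
    · by_cases h1 : φ p = 0
      · obtain ⟨ψ, hψ⟩ := exists_hom_pos_of_ne_zero h0
        let N : ℤ := ∑ m ∈ F, |ψ m| + 1
        refine ⟨N • φ + ψ, fun m hm h => ?_⟩
        show N • φ m + ψ m ≠ 0
        rcases Finset.mem_insert.1 hm with rfl | hm
        · rw [h1, smul_zero, zero_add]
          exact hψ.ne'
        · intro he
          have h2 : |ψ m| < N := by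
            have := Finset.single_le_sum (fun j _ => abs_nonneg (ψ j)) hm
            omega
          have h3 : N ≤ |N • φ m| := by
            rw [smul_eq_mul, abs_mul, abs_of_pos ((abs_nonneg _).trans_lt h2)]
            exact le_mul_of_one_le_right ((abs_nonneg _).trans h2.le) (Int.one_le_abs (hφ m hm h))
          rw [eq_neg_of_add_eq_zero_left he, abs_neg] at h3
          omega
      · refine ⟨φ, fun m hm h => ?_⟩
        rcases Finset.mem_insert.1 hm with rfl | hm
        exacts [h1, hφ m hm h]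

/-- Over an affine base a split torus has a functional with the same centraliser. -/
theorem exists_regular {S : Scheme.{u}} [IsAffine S] {G : Over S} [GrpObj G] [IsAffine G.left]
    [LocallyOfFiniteType G.hom] {M : Type} [AddCommGroup M] [Module.Free ℤ M] (i : Red.DS S M ⟶ G) [IsMonHom i] :
    ∃ mu : M →+ ℤ, ∀ (B : Type u) [CommRing B] (f : Spec (CommRingCat.of B) ⟶ S) (g : pt B f ⟶ G),
      g ∈ ZSub f (Red.DSmap S mu ≫ i) → g ∈ ZSub f i := by
  classical
  obtain ⟨s, hs⟩ := exists_finite_gens (G := G)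
  obtain ⟨mu, hmu⟩ := exists_hom_ne_zero (s.biUnion fun a => wts i a)
  refine ⟨mu, fun B _ f g hg => ?_⟩
  rw [show i = Red.DSmap S (AddMonoidHom.id M) ≫ i by rw [DSmap_id, Category.id_comp], mem_ZSub_iff i _ hs]
  intro a ha m hm
  by_cases h : m ∈ wts i a
  · exact (mem_ZSub_iff i mu hs).1 hg a ha m (hmu m (Finset.mem_biUnion.2 ⟨a, ha, h⟩) hm)
  · rw [wc_eq_zero_of_notMem i h, map_zero]

end Groth.Agent.DynPar
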