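import Groth.Agent.DynPar.TwoBorels
import Groth.Agent.DynPar.Reflect
import Groth.Agent.RedCartan.Field
import Groth.Agent.RedCent.Reductive
import Groth.Agent.Chev.TorusTheory
import Groth.Agent.Chev.BorelCent
import Groth.Agent.Chev.BorelKernel
import Groth.Agent.UniRad.Main
import Groth.Agent.UniRad.TorusCrit
import Groth.Agent.Dynamic.CellIso

/-!
# A regular one-parameter subgroup of a maximal torus cuts out a Borel subgroup
-/

set_option autoImplicit false
set_option linter.style.haveILetI false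
set_option backward.isDefEq.respectTransparency false
set_option maxHeartbeats 2000000
set_option synthInstance.maxHeartbeats 400000

universe u

open CategoryTheory Limits MonoidalCategory CartesianMonoidalCategory MonObj AlgebraicGeometry LieS
open scoped CategoryTheory.Obj LaurentPolynomial TensorProduct

noncomputable section

namespace Groth.Agent.DynPar

open Groth.Agent.HomDiag Groth.Agent.RootIntrinsic

variable {k : Type u} [Field k] [IsAlgClosed k] {M : Type} [AddCommGroup M] [Module.Free ℤ M] [Module.Finite ℤ M]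

local notation "S₀" => Spec (CommRingCat.of k)

omit [IsAlgClosed k] [Module.Free ℤ M] [Module.Finite ℤ M] in
theorem DS_comm {X : Over S₀} (a b : X ⟶ Red.DS S₀ M) : a * b = b * a :=
  ch_ext fun m => by rw [ch_mul, ch_mul, _root_.mul_comm]

omit [IsAlgClosed k] [Module.Free ℤ M] [Module.Finite ℤ M] in
theorem isMonHom_DSmap_comp {N : Type} [AddCommGroup N] {H : Over S₀} [GrpObj H] (θ : M →+ N)
    (j : Red.DS S₀ M ⟶ H) [IsMonHom j] : IsMonHom (Red.DSmap S₀ θ ≫ j) := inferInstance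

omit [IsAlgClosed k] [Module.Free ℤ M] [Module.Finite ℤ M] in
theorem mem_ZSub_neg {H : Over S₀} [GrpObj H] [IsAffine H.left] (j : Red.DS S₀ M ⟶ H) [IsMonHom j] (mu : M →+ ℤ)
    {B : Type u} [CommRing B] {f : Spec (CommRingCat.of B) ⟶ S₀} {g : pt B f ⟶ H} :
    g ∈ ZSub f (Red.DSmap S₀ (-mu) ≫ j) ↔ g ∈ ZSub f (Red.DSmap S₀ mu ≫ j) := by
  simp only [mem_ZSub_iff j _ gens_univ, AddMonoidHom.neg_apply, neg_ne_zero]

omit [IsAlgClosed k] in
theorem one_comp_hom {X Y W : Over S₀} [GrpObj Y] [GrpObj W] (φ : Y ⟶ W) [IsMonHom φ] :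
    (1 : X ⟶ Y) ≫ φ = 1 := (IsMonHom.monoidHom φ _).map_one

theorem isSolvable_of_retraction {P U W : Over S₀} [GrpObj P] [GrpObj U] [GrpObj W] (r : P ⟶ W) [IsMonHom r]
    (iu : U ⟶ P) [IsMonHom iu] (l : W ⟶ P) [IsMonHom l] (s : P ⟶ U) (hrs : (r ≫ l) * (s ≫ iu) = 𝟙 P)
    (hW : Red.IsTorus W) [Group.IsSolvable (Chev.RP U)] : Group.IsSolvable (Chev.RP P) := by
  haveI : Group.IsSolvable (Chev.RP W) := Group.isSolvable_of_comm (Chev.Borel.rp_torus_comm hW)
  refine Group.isSolvable_of_ker_le_range (IsMonHom.monoidHom iu (𝟙_ (Over S₀)))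
    (IsMonHom.monoidHom r (𝟙_ (Over S₀))) fun x hx => ⟨x ≫ s, ?_⟩
  show (x ≫ s) ≫ iu = x
  have h := congrArg (x ≫ ·) hrs
  rw [MonObj.comp_mul, Category.comp_id, ← Category.assoc, show x ≫ r = 1 from hx,
    one_comp_hom l, _root_.one_mul, ← Category.assoc] at h
  exact h

/-- A functional is regular for a torus. -/
def Regular {H : Over S₀} [GrpObj H] (j : Red.DS S₀ M ⟶ H) (mu : M →+ ℤ) : Prop :=
  ∀ (B : Type u) [CommRing B] (f : Spec (CommRingCat.of B) ⟶ S₀) (g : pt B f ⟶ H),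
    g ∈ ZSub f (Red.DSmap S₀ mu ≫ j) → g ∈ ZSub f j

/-- The package of the subgroups of a regular functional. -/
theorem exists_solvableData {H : Over S₀} [GrpObj H] [IsAffine H.left] [Smooth H.hom] [ConnectedSpace H.left]
    (j : Red.DS S₀ M ⟶ H) [IsMonHom j] [Mono j] (hT : Red.IsTorus (Red.DS S₀ M)) (hself : Red.IsCentralizerOf j j)
    (mu : M →+ ℤ)
    (hreg : Regular j mu) :
    ∃ (P U : Over S₀) (_ : GrpObj P) (_ : GrpObj U) (p : P ⟶ H) (u : U ⟶ H),
      IsP (Red.DSmap S₀ mu ≫ j) p ∧ IsU (Red.DSmap S₀ mu ≫ j) u ∧ Smooth P.hom ∧ ConnectedSpace P.left ∧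
      IsAffine P.left ∧ Group.IsSolvable (Chev.RP P) ∧ (∃ t, t ≫ p = j) ∧ (∃ i : U ⟶ P, i ≫ p = u) ∧
      Smooth U.hom ∧ ConnectedSpace U.left ∧ Red.HasNoSubtorus k U := by
  haveI : IsAffineHom H.hom := isAffineHom_of_isAffine H.hom
  obtain ⟨P, _, p, hp⟩ := exists_isP (Red.DSmap S₀ mu ≫ j)
  obtain ⟨U, _, u, hu⟩ := exists_isU (Red.DSmap S₀ mu ≫ j)
  have hz : Red.IsCentralizerOf (Red.DSmap S₀ mu ≫ j) j := by
    refine ⟨inferInstance, inferInstance, fun X g => ⟨fun ⟨x, hx⟩ X' a h => ?_, fun hc => ?_⟩⟩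
    · have := (hself.2.2 X g).1 ⟨x, hx⟩ X' a (h ≫ Red.DSmap S₀ mu)
      rwa [Category.assoc] at this
    · exact (hself.2.2 X g).2 ((inF_ZFam_iff (c := j) g).1 fun B _ f y =>
        hreg B f _ ((inF_ZFam_iff (c := Red.DSmap S₀ mu ≫ j) g).2 hc B f y))
  haveI := hp.1; haveI := hu.1; haveI := hp.2.1; haveI := hu.2.1
  obtain ⟨hUs, -⟩ := smooth_isU inferInstance hp hu hz
  have hPs := smooth_isP inferInstance _ hp
  obtain ⟨hPc, hUc, hUn⟩ := field_fibre (Red.DSmap S₀ mu ≫ j) hp hu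
  obtain ⟨d⟩ := exists_leviData hp hu hz
  haveI := d.l_hom; haveI := d.iu_hom; haveI := d.r_hom
  haveI : IsAffine P.left := isAffine_of_isAffineHom p.left
  haveI : IsAffine U.left := isAffine_of_isAffineHom u.left
  haveI := hUs; haveI := hUc
  refine ⟨P, U, inferInstance, inferInstance, p, u, hp, hu, hPs, hPc inferInstance, inferInstance, ?_,
    ⟨d.l, d.l_p⟩, ⟨d.iu, d.iu_p⟩, hUs, hUc, hUn inferInstance⟩
  haveI := RedCent.isSolvable_of_noSubtorus (hUn inferInstance)
  exact isSolvable_of_retraction d.r d.iu d.l d.s d.rs hT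

omit [IsAlgClosed k] [Module.Free ℤ M] [Module.Finite ℤ M] in
theorem fnE_eq_zero {A : Type u} [CommRing A] [HopfAlgebra k A] {C D : Over S₀} [GrpObj C] [GrpObj D]
    (e : (Spec (CommRingCat.of A)).asOver S₀ ≅ C) [IsMonHom e.hom] (d : D ⟶ C) {B : Type u} [CommRing B]
    [Algebra k B] (x : Dynamic.Pt k A B) {z : pt B (fR k B) ⟶ D} (hz : z ≫ d = ptE e rfl x)
    {a : Γ(C.left, ⊤)} (ha : d.left.appTop a = 0) : x (fnE e a) = 0 := by
  rw [← rp_ptE e rfl x a, ← hz, rp_comp_left, RingHom.comp_apply, show d.left.appTop.hom a = 0 from ha, map_zero]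

/-- A smooth closed subgroup containing both opposite subgroups with limits is everything. -/
theorem isIso_of_opposite {C D : Over S₀} [GrpObj C] [GrpObj D] [IsAffine C.left] [Smooth C.hom]
    [ConnectedSpace C.left] (d : D ⟶ C) [IsMonHom d] [IsClosedImmersion d.left]
    (c c' : Red.DS S₀ ℤ ⟶ C) [IsMonHom c] [IsMonHom c'] (hc : c' = negC c)
    (h₁ : ∀ (B : Type u) [CommRing B] (f : Spec (CommRingCat.of B) ⟶ S₀) (g : pt B f ⟶ C),
      g ∈ PSub f c → ∃ z, z ≫ d = g)
    (h₂ : ∀ (B : Type u) [CommRing B] (f : Spec (CommRingCat.of B) ⟶ S₀) (g : pt B f ⟶ C),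
      g ∈ PSub f c' → ∃ z, z ≫ d = g) : IsIso d := by
  subst hc
  haveI : IsAffineHom C.hom := isAffineHom_of_isAffine C.hom
  haveI : IsIntegral C.left := RGDev.isIntegral_of_smooth_connected C.hom
  obtain ⟨A, _, e, he⟩ := Groth.Agent.FinHopf.exists_hopf (R := CommRingCat.of k) C
  haveI := he
  haveI : IsIso e.hom.left := inferInstanceAs (IsIso ((Over.forget _).map e.hom))
  haveI := finiteType_of_iso e
  have hfn : Function.Bijective (fnE e) := ConcreteCategory.bijective_of_isIso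
    (e.hom.left.appTop ≫ (Scheme.ΓSpecIso (CommRingCat.of A)).hom)
  haveI : IsDomain A := (RingEquiv.ofBijective (fnE e) hfn).symm.toMulEquiv.isDomain
  let lam := lamHom e c
  let lamNeg := lamHom e (negC c)
  obtain ⟨x, ex, ⟨hx, -⟩, hex⟩ := Dynamic.exists_cellIso lam (Dynamic.Jp lam) (Dynamic.Ju lamNeg) lamNeg
    (lamHom_neg e c) (fun R _ _ g => Dynamic.kill_Jp lam g) (fun R _ _ g => Dynamic.kill_Ju lamNeg g)
  let Q : Type u := (A ⧸ Dynamic.Ju lamNeg) ⊗[k] (A ⧸ Dynamic.Jp lam)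
  let gU : Dynamic.Pt k A Q := Dynamic.cellU (Dynamic.Jp lam) (Dynamic.Ju lamNeg)
  let gP : Dynamic.Pt k A Q := Dynamic.cellP (Dynamic.Jp lam) (Dynamic.Ju lamNeg)
  obtain ⟨zU, hzU⟩ := h₂ Q _ (ptE e rfl gU) (USub_le_PSub _ _ ((mem_U_iff e (negC c) gU).1
    ((Dynamic.kill_Ju lamNeg gU).1 fun a ha => by
      show (Algebra.TensorProduct.includeLeft : A ⧸ Dynamic.Ju lamNeg →ₐ[k] Q) (Ideal.Quotient.mk _ a) = 0
      rw [Ideal.Quotient.eq_zero_iff_mem.2 ha, map_zero])))
  obtain ⟨zP, hzP⟩ := h₁ Q _ (ptE e rfl gP) ((mem_P_iff e c gP).1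
    ((Dynamic.kill_Jp lam gP).1 fun a ha => by
      show (Algebra.TensorProduct.includeRight : A ⧸ Dynamic.Jp lam →ₐ[k] Q) (Ideal.Quotient.mk _ a) = 0
      rw [Ideal.Quotient.eq_zero_iff_mem.2 ha, map_zero]))
  have hz : (zU * zP) ≫ d = ptE e rfl (gU * gP) := by rw [MonObj.mul_comp, hzU, hzP, map_mul]
  have hinj : Function.Injective d.left.appTop := by
    show Function.Injective d.left.appTop.hom
    rw [RingHom.injective_iff_ker_eq_bot, eq_bot_iff]
    intro a ha
    have h0 := fnE_eq_zero e d (gU * gP) hz ha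
    rw [Dynamic.cellU_mul_cellP] at h0
    have h1 : ex (algebraMap A (Localization.Away x) (fnE e a)) = 0 := (congr($hex (fnE e a))).trans h0
    rw [map_eq_zero_iff _ ex.injective] at h1
    have hx0 : x ≠ 0 := fun hx0 => by simp [hx0] at hx
    exact hfn.1 ((IsLocalization.injective (Localization.Away x)
      (powers_le_nonZeroDivisors_of_noZeroDivisors hx0) (h1.trans (map_zero _).symm)).trans (map_zero _).symm)
  haveI : IsAffine D.left := isAffine_of_isAffineHom d.left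
  haveI : IsIso d.left.appTop :=
    (ConcreteCategory.isIso_iff_bijective _).2 ⟨hinj, d.left.app_surjective ⊤ (isAffineOpen_top _)⟩
  haveI : IsIso d.left := by
    rw [show d.left = D.left.isoSpec.hom ≫ Spec.map d.left.appTop ≫ C.left.isoSpec.inv by
      rw [← Category.assoc, Scheme.isoSpec_hom_naturality, Category.assoc, Iso.hom_inv_id, Category.comp_id]]
    infer_instance
  haveI : IsIso ((Over.forget _).map d) := ‹IsIso d.left›
  exact isIso_of_reflects_iso d (Over.forget _)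

/-- **Existence of the Borel subgroup of a regular functional.** -/
theorem isBorelOver_of_regular {G : Over S₀} [GrpObj G] (hG : Red.IsReductiveOver k G) (i : Red.DS S₀ M ⟶ G)
    (hi : AGF.IsMaxTorus i) (hself : Red.IsCentralizerOf i i) (mu : M →+ ℤ) (hreg : Regular i mu)
    {P : Over S₀} [GrpObj P] (p : P ⟶ G) (hp : IsP (Red.DSmap S₀ mu ≫ i) p) : Red.IsBorelOver k p := by
  classical
  haveI := hi.1; haveI := hi.2.1; haveI := hp.1; haveI := hp.2.1
  haveI : Mono p := Over.mono_of_mono_left p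
  haveI := hG.1; haveI := hG.2.1; haveI := hG.2.2.1
  haveI : IsAffineHom G.hom := isAffineHom_of_isAffine G.hom
  obtain ⟨P', U', _, _, p', u', hp', -, hPs', hPc', hPa', hPsol', ⟨t', ht'⟩, -, -, -, -⟩ :=
    exists_solvableData i hi.2.2.1 hself mu hreg
  haveI := hPs'; haveI := hPc'; haveI := hPa'; haveI := hPsol'; haveI := hp'.1; haveI := hp'.2.1
  obtain ⟨B, _, iB, f, hB, hf⟩ := Chev.Borel.exists_borel_containing p'
  obtain ⟨hBm, hBc, hBs, hBconn, hBsol, -⟩ := id hB
  haveI := hBm; haveI := hBc; haveI := hBs; haveI := hBconn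
  haveI : Mono iB := Over.mono_of_mono_left iB
  haveI : IsAffine B.left := isAffine_of_isAffineHom iB.left
  haveI : IsMonHom f := MTSplit.isMonHom_of_comp_mono f iB p' hf
  haveI : IsClosedImmersion f.left := by
    haveI : IsClosedImmersion (f.left ≫ iB.left) := by rw [← Over.comp_left, hf]; infer_instance
    exact IsClosedImmersion.of_comp f.left iB.left
  let tB := t' ≫ f
  have htB : tB ≫ iB = i := by rw [Category.assoc, hf, ht']
  haveI : IsMonHom tB := MTSplit.isMonHom_of_comp_mono tB iB i htB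
  haveI : IsIso f := by
    refine isIso_of_tan f fun v hv => ?_
    by_cases hv' : v ∈ PSub (fε k) (Red.DSmap S₀ mu ≫ tB)
    · have := comp_mem_PSub (fε k) (Red.DSmap S₀ mu ≫ tB) iB hv'
      rw [Category.assoc, htB] at this
      obtain ⟨w, hw⟩ := hp'.exists_fac_iff.2 this
      exact ⟨w, by rw [← cancel_mono iB, Category.assoc, hf, hw]⟩
    exfalso
    obtain ⟨a, m, hm, hne⟩ := exists_snd_ne_of_notMem tB hv mu hv'
    obtain ⟨w, hwt, hw⟩ := exists_tan_comp tB hv m
    have hw1 : w ≠ 1 := fun h => hne (by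
      have e := congrArg TrivSqZeroExt.snd (hw a)
      rw [h, rp_one_dual] at e
      simpa using e.symm)
    obtain ⟨M₀, _, _, _, π₀, m₁, hπs, hm₁, hπm₁, hπm, hker⟩ :=
      exists_line m (fun e => hm.ne (by rw [e, map_zero]))
    let b := Module.finBasis ℤ M₀
    let π : M →+ (Fin (Module.finrank ℤ M₀) → ℤ) := b.equivFun.toAddEquiv.toAddMonoidHom.comp π₀
    have hπ0 : ∀ x, π x = 0 ↔ π₀ x = 0 := fun x => map_eq_zero_iff b.equivFun b.equivFun.injective
    haveI : IsClosedImmersion (Red.DSmap S₀ π).left :=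
      MTPrime.isClosedImmersion_of_surjective π (b.equivFun.surjective.comp hπs)
    haveI : Mono (Red.DSmap S₀ π) := Over.mono_of_mono_left _
    let iS := Red.DSmap S₀ π ≫ i
    have hSt := Chev.CharQuot.isTorus_DS (k := k) (Module.finrank ℤ M₀)
    -- the centraliser of the subtorus
    obtain ⟨C, _, c, hc, hcc, hCs⟩ := exists_centralizer_DS (G := G) inferInstance inferInstance iS
    haveI := hc.1; haveI := hc.2.1; haveI := hcc
    have hCred := RedCent.isReductiveOver_centralizer hG iS hSt c hc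
    haveI := hCred.1; haveI := hCred.2.1; haveI := hCred.2.2.1
    obtain ⟨tC, htC⟩ := (hc.2.2 _ i).2 fun X' x h => by
      show (x ≫ i) * (h ≫ Red.DSmap S₀ π ≫ i) = (h ≫ Red.DSmap S₀ π ≫ i) * (x ≫ i)
      rw [← Category.assoc, ← MonObj.mul_comp, ← MonObj.mul_comp, DS_comm]
    haveI : IsMonHom tC := MTSplit.isMonHom_of_comp_mono tC c i htC
    haveI : Mono tC := by
      haveI : Mono (tC ≫ c) := by rw [htC]; infer_instance
      exact mono_of_mono tC c
    have htCmax : AGF.IsMaxTorus tC := by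
      refine ⟨inferInstance, inferInstance, hi.2.2.1, fun T' _ j _ _ g hT' hg => ?_⟩
      haveI : Mono (j ≫ c) := mono_comp j c
      exact hi.2.2.2 T' (j ≫ c) g hT' (by rw [← Category.assoc, hg, htC])
    have htCself : Red.IsCentralizerOf tC tC := by
      refine ⟨inferInstance, inferInstance, fun X g => ⟨fun ⟨x, hx⟩ X' a h => ?_, fun hg => ?_⟩⟩
      · rw [← hx, ← Category.assoc, ← MonObj.mul_comp, ← MonObj.mul_comp, DS_comm]
      · obtain ⟨x, hx⟩ := (hself.2.2 X (g ≫ c)).2 fun X' a h => by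
          rw [← htC, ← Category.assoc, ← Category.assoc, ← MonObj.mul_comp, ← MonObj.mul_comp, hg]
        exact ⟨x, by rw [← cancel_mono c, Category.assoc, htC, hx]⟩
    -- the Borel subgroup through the positive part
    obtain ⟨D, _, dB, hD, hdBc, -⟩ := exists_centralizer_DS (G := B) inferInstance
      (isAffineHom_of_isAffine B.hom) (Red.DSmap S₀ π ≫ tB)
    haveI := hD.1; haveI := hD.2.1; haveI := hdBc
    obtain ⟨dC, hdC⟩ := (hc.2.2 _ (dB ≫ iB)).2 fun X' x h => by
      have := congrArg (· ≫ iB) ((hD.2.2 _ dB).1 ⟨𝟙 _, Category.id_comp _⟩ X' x h)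
      simp only [MonObj.mul_comp, Category.assoc, htB] at this
      exact this
    haveI : IsMonHom dC := MTSplit.isMonHom_of_comp_mono dC c (dB ≫ iB) hdC
    have hpb : IsPullback dC dB c iB := by
      have hlift : ∀ s : PullbackCone c iB, ∃ x, x ≫ dB = s.snd := fun s =>
        (hD.2.2 _ s.snd).2 fun X' x h => by
          rw [← cancel_mono iB]
          simp only [MonObj.mul_comp, Category.assoc, htB, ← s.condition]
          exact (hc.2.2 _ (s.fst ≫ c)).1 ⟨s.fst, rfl⟩ X' x h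
      refine ⟨⟨hdC⟩, ⟨PullbackCone.IsLimit.mk hdC (fun s => (hlift s).choose) (fun s => ?_)
        (fun s => (hlift s).choose_spec) fun s x _ hx => ?_⟩⟩
      · rw [← cancel_mono c, Category.assoc, hdC, ← Category.assoc, (hlift s).choose_spec, s.condition]
      · rw [← cancel_mono dB, hx, (hlift s).choose_spec]
    haveI : Mono iS := mono_comp _ i
    have hDb : Red.IsBorelOver k dC := Chev.Borel.isBorelOver_centralizer iS hSt iB hB (Red.DSmap S₀ π ≫ tB)
      (by rw [Category.assoc, htB]) c hc dC dB hpb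
    obtain ⟨-, hdCc, hDs, hDconn, -, -⟩ := id hDb
    haveI := hdCc; haveI := hDs; haveI := hDconn
    haveI : IsAffine D.left := isAffine_of_isAffineHom dB.left
    haveI : Mono dC := Over.mono_of_mono_left dC
    obtain ⟨tD, htD⟩ := (hD.2.2 _ tB).2 fun X' x h => by
      show (x ≫ tB) * (h ≫ Red.DSmap S₀ π ≫ tB) = (h ≫ Red.DSmap S₀ π ≫ tB) * (x ≫ tB)
      rw [← Category.assoc h, ← MonObj.mul_comp, ← MonObj.mul_comp, DS_comm]
    haveI : IsMonHom tD := MTSplit.isMonHom_of_comp_mono tD dB tB htD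
    have htDC : tD ≫ dC = tC := by
      rw [← cancel_mono c, Category.assoc, hdC, ← Category.assoc, htD, htB, htC]
    -- the tangent vector in the negative part of the Borel subgroup
    obtain ⟨wD, hwD⟩ := exists_centralizer_lift hD (tan_mem_ZSub tB hv hw π ((hπ0 m).2 hπm))
    have hwU : wD ∈ USub (fε k) (Red.DSmap S₀ (-mu) ≫ tD) := by
      rw [← mem_USub_comp_iff _ dB, hwD, Category.assoc, htD]
      exact tan_mem_USub tB hv hw (-mu) (by simpa using hm)
    obtain ⟨Q, _, q, hq⟩ := exists_isP (G := D) (Red.DSmap S₀ (-mu) ≫ tD)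
    obtain ⟨N, _, uN, huN⟩ := exists_isU (G := D) (Red.DSmap S₀ (-mu) ≫ tD)
    haveI := huN.1; haveI := huN.2.1
    haveI : IsAffineHom D.hom := isAffineHom_of_isAffine D.hom
    obtain ⟨Z, _, z, hz, -, -⟩ := exists_centralizer_DS (G := D) hDs inferInstance (Red.DSmap S₀ (-mu) ≫ tD)
    obtain ⟨hNs, -⟩ := smooth_isU hDs hq huN hz
    obtain ⟨-, hNc, hNn⟩ := field_fibre (Red.DSmap S₀ (-mu) ≫ tD) hq huN
    haveI := hNs; haveI := hNc
    haveI : IsAffine N.left := isAffine_of_isAffineHom uN.left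
    obtain ⟨y, hy⟩ := huN.exists_fac_iff.2 hwU
    haveI : IsClosedImmersion (uN ≫ dC).left := by rw [Over.comp_left]; infer_instance
    -- the Borel subgroup through the negative part
    have hregG : ∀ (B : Type u) [CommRing B] (f : Spec (CommRingCat.of B) ⟶ S₀) (g : pt B f ⟶ C),
        g ∈ ZSub f (Red.DSmap S₀ mu ≫ tC) → g ∈ ZSub f tC := fun B _ f g hg => by
      rw [← mem_ZSub_comp_iff _ c, htC]
      refine hreg B f _ ?_
      rw [← htC, ← Category.assoc, mem_ZSub_comp_iff]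
      exact hg
    obtain ⟨P₁, U₁, _, _, p₁, u₁, hp₁, -, hPs₁, hPc₁, hPa₁, hPsol₁, ⟨t₁, ht₁⟩, -, -, -, -⟩ :=
      exists_solvableData tC hi.2.2.1 htCself (-mu) (fun B _ f g hg => hregG B f g ((mem_ZSub_neg tC mu).1 hg))
    haveI := hPs₁; haveI := hPc₁; haveI := hPa₁; haveI := hPsol₁; haveI := hp₁.1; haveI := hp₁.2.1
    obtain ⟨B₁, _, b₁, f₁, hB₁, hf₁⟩ := Chev.Borel.exists_borel_containing p₁
    haveI := hB₁.1
    obtain ⟨g₁, hg₁⟩ : ∃ g : N ⟶ B₁, g ≫ b₁ = uN ≫ dC := by
      obtain ⟨z, hz⟩ := hp₁.exists_le (uN ≫ dC) fun B _ f x => by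
        have := comp_mem_PSub f (Red.DSmap S₀ (-mu) ≫ tD) dC
          (USub_le_PSub f _ (huN.exists_fac_iff.1 ⟨x, rfl⟩))
        rwa [Category.assoc, htDC, Category.assoc] at this
      exact ⟨z ≫ f₁, by rw [Category.assoc, hf₁, hz]⟩
    -- if the Borel subgroups agree the centraliser is the torus
    by_cases hsame : ∃ e : B₁ ⟶ D, e ≫ dC = b₁
    · obtain ⟨e, he⟩ := hsame
      have hpos : ∀ (B' : Type u) [CommRing B'] (f' : Spec (CommRingCat.of B') ⟶ S₀) (g : pt B' f' ⟶ C),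
          g ∈ PSub f' (Red.DSmap S₀ mu ≫ tC) → ∃ z, z ≫ dC = g := fun B' _ f' g hg => by
        have := comp_mem_PSub f' (Red.DSmap S₀ mu ≫ tC) c hg
        rw [Category.assoc, htC] at this
        obtain ⟨x, hx⟩ := hp'.exists_fac_iff.2 this
        obtain ⟨z, hz⟩ := (hD.2.2 _ (x ≫ f)).2 fun X' a h => by
          rw [← cancel_mono iB]
          simp only [MonObj.mul_comp, Category.assoc, htB, hf, hx]
          exact (hc.2.2 _ (g ≫ c)).1 ⟨g, rfl⟩ X' a h
        exact ⟨z, by rw [← cancel_mono c, Category.assoc, hdC, ← Category.assoc, hz, Category.assoc, hf, hx]⟩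
      have hnegC : Red.DSmap S₀ (-mu) ≫ tC = negC (Red.DSmap S₀ mu ≫ tC) := by
        rw [negC, ← Category.assoc, DSmap_comp_apply]
        congr 2
      haveI : IsIso dC := isIso_of_opposite dC (Red.DSmap S₀ mu ≫ tC) (Red.DSmap S₀ (-mu) ≫ tC) hnegC hpos
        fun B' _ f' g hg => by
          obtain ⟨x, hx⟩ := hp₁.exists_fac_iff.2 hg
          exact ⟨x ≫ f₁ ≫ e, by rw [Category.assoc, Category.assoc, he, hf₁, hx]⟩
      haveI : IsMonHom (inv dC) := MTSplit.isMonHom_of_comp_mono (inv dC) dC (𝟙 C) (IsIso.inv_hom_id dC)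
      haveI := Chev.Borel.isSolvable_rp (Chev.Borel.isSolvableGrp_of_mono (inv dC) hDb.2.2.2.2.1)
      have hCt : Red.IsTorus C := UniRad.isTorus_of_solvable fun U _ i _ h1 h2 h3 h4 h5 => hCred.2.2.2 U i h1 h2 h3 h4 h5
      haveI : IsIso tC := htCmax.2.2.2 C (𝟙 C) tC hCt (Category.comp_id _)
      have hwC : wD ≫ dC ∈ USub (fε k) (Red.DSmap S₀ (-mu) ≫ tC) := by
        have := comp_mem_USub (fε k) _ dC hwU
        rwa [Category.assoc, htDC] at this
      have hwZ : wD ≫ dC ∈ ZSub (fε k) (Red.DSmap S₀ (-mu) ≫ tC) :=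
        (mem_ZSub_iff_commute _ _).2 fun B'' _ f'' x h => by
          rw [show x ≫ wD ≫ dC = (x ≫ wD ≫ dC ≫ inv tC) ≫ tC by simp, ← Category.assoc h, ← MonObj.mul_comp,
            ← MonObj.mul_comp, DS_comm]
      haveI : IsAffineHom C.hom := isAffineHom_of_isAffine C.hom
      have h1 := (mem_USub_iff_lim).1 hwC
      rw [lim_of_mem_ZSub hwZ] at h1
      refine hw1 ?_
      rw [← hwD, show wD = 1 from (cancel_mono dC).1 (h1.2.trans ((IsMonHom.monoidHom dC _).map_one).symm)]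
      exact (IsMonHom.monoidHom dB _).map_one
    -- otherwise the negative part lies in every Borel subgroup through the torus
    have hN : ∀ (B₂ : Over S₀) [GrpObj B₂] (b₂ : B₂ ⟶ C) (t₂ : _ ⟶ B₂), Red.IsBorelOver k b₂ → t₂ ≫ b₂ = tC →
        ∃ g : N ⟶ B₂, g ≫ b₂ = uN ≫ dC := by
      intro B₂ _ b₂ t₂ hB₂ ht₂
      haveI := hB₂.1
      rcases two_borels tC htCmax htCself π m₁ hm₁ ((hπ0 m₁).2 hπm₁) (fun x hx => hker x ((hπ0 x).1 hx))
        (fun n X t => by
          rw [← cancel_mono c, MonObj.mul_comp, MonObj.mul_comp]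
          simp only [Category.assoc, htC]
          exact (hc.2.2 _ (n ≫ c)).1 ⟨n, rfl⟩ X (toUnit X) t)
        hDb hB₁ hB₂ htDC (show (t₁ ≫ f₁) ≫ b₁ = tC by rw [Category.assoc, hf₁, ht₁]) ht₂ with h | ⟨e, he⟩ | ⟨e, he⟩
      · exact absurd h hsame
      · haveI : IsIso e := by
          haveI := hB₂.2.1; haveI := hB₂.2.2.1; haveI := hB₂.2.2.2.1
          exact hB₂.2.2.2.2.2 D dC e hdCc hDs hDconn hDb.2.2.2.2.1 he
        exact ⟨uN ≫ inv e, by rw [Category.assoc, ← he, IsIso.inv_hom_id_assoc]⟩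
      · haveI : IsIso e := by
          exact hB₂.2.2.2.2.2 B₁ b₁ e hB₁.2.1 hB₁.2.2.1 hB₁.2.2.2.1 hB₁.2.2.2.2.1 he
        exact ⟨g₁ ≫ inv e, by rw [Category.assoc, ← he, IsIso.inv_hom_id_assoc, hg₁]⟩
    obtain ⟨g, hg⟩ := UniRad.exists_le_of_le_borels (RedCent.isUnipotentRadical_unit hCred) tC htCmax (uN ≫ dC)
      fun B₂ _ b₂ t₂ hB₂ ht₂ V _ v hV => by
        obtain ⟨g, hg⟩ := hN B₂ b₂ t₂ hB₂ ht₂
        haveI := hB₂.1; haveI := hB₂.2.1; haveI := hB₂.2.2.1; haveI := hB₂.2.2.2.1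
        haveI : Mono b₂ := Over.mono_of_mono_left b₂
        haveI : IsAffine B₂.left := isAffine_of_isAffineHom b₂.left
        haveI := Chev.Borel.isSolvable_rp hB₂.2.2.2.2.1
        haveI : IsMonHom g := MTSplit.isMonHom_of_comp_mono g b₂ (uN ≫ dC) hg
        haveI : IsClosedImmersion g.left := by
          haveI : IsClosedImmersion (g.left ≫ b₂.left) := by rw [← Over.comp_left, hg]; infer_instance
          exact IsClosedImmersion.of_comp g.left b₂.left
        obtain ⟨V₀, _, v₀, hv₀, hV₀a, hV₀c, hV₀n, huniv⟩ := UniRad.exists_radical_univ B₂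
        obtain ⟨h₀, hh₀⟩ := huniv N g inferInstance hNs hNc (hNn inferInstance)
        haveI := hv₀.1; haveI := hv₀.2.1; haveI := hv₀.2.2.2.1; haveI := hV₀a; haveI := hV₀c
        obtain ⟨h₁, hh₁⟩ := UniRad.exists_le_radical hV v₀ hv₀.2.2.1 hV₀n
        exact ⟨h₀ ≫ h₁, by rw [Category.assoc, reassoc_of% hh₁, reassoc_of% hh₀, hg]⟩
    refine hw1 ?_
    have e1 : wD ≫ dC = 1 := by
      rw [← hy, Category.assoc, ← hg, toUnit_unique g (toUnit N), ← Category.assoc,
        toUnit_unique (y ≫ toUnit N) (toUnit _), Hom.one_def]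
    rw [← hwD, show wD = 1 from (cancel_mono dC).1 (e1.trans ((IsMonHom.monoidHom dC _).map_one).symm)]
    exact (IsMonHom.monoidHom dB _).map_one
  -- the subgroup with a limit is the Borel subgroup
  obtain ⟨a, ha⟩ := hp'.exists_le p fun B' _ f' x => hp.exists_fac_iff.1 ⟨x, rfl⟩
  obtain ⟨b', hb'⟩ := hp.exists_le p' fun B' _ f' x => hp'.exists_fac_iff.1 ⟨x, rfl⟩
  haveI : Mono p' := Over.mono_of_mono_left p'
  let e : B ≅ P :=
    { hom := inv f ≫ b'
      inv := a ≫ f
      hom_inv_id := by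
        rw [← cancel_mono iB]
        simp only [Category.assoc, hf, ha, hb', Category.id_comp]
        rw [← hf, IsIso.inv_hom_id_assoc]
      inv_hom_id := by
        rw [← cancel_mono p]
        simp only [Category.assoc, IsIso.hom_inv_id_assoc, hb', ha, Category.id_comp] }
  exact Chev.Borel.isBorelOver_of_iso e iB p (by
    show (inv f ≫ b') ≫ p = iB
    rw [Category.assoc, hb', ← hf, IsIso.inv_hom_id_assoc]) hB

end Groth.Agent.DynPar
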