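import Groth.Agent.DynPar.Levi
import Groth.Agent.Dynamic.Sub
import Groth.Agent.Dynamic.CellIso

/-!
# One-parameter subgroups of affine groups as Hopf algebra maps
-/

set_option autoImplicit false
set_option linter.style.haveILetI false
set_option backward.isDefEq.respectTransparency false
set_option maxHeartbeats 1000000
set_option synthInstance.maxHeartbeats 400000

universe u

open CategoryTheory Limits MonoidalCategory CartesianMonoidalCategory MonObj AlgebraicGeometry LieS WithConv
open scoped CategoryTheory.Obj LaurentPolynomial TensorProduct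

noncomputable section

namespace Groth.Agent.DynPar

open Groth.Agent.HomDiag

variable {R : Type u} [CommRing R] {A : Type u} [CommRing A] [HopfAlgebra R A]
  {G : Over (Spec (CommRingCat.of R))} [GrpObj G]
  (e : (Spec (CommRingCat.of A)).asOver (Spec (CommRingCat.of R)) ≅ G) [IsMonHom e.hom]
  {B B' : Type u} [CommRing B] [Algebra R B] [CommRing B'] [Algebra R B']
  {f : Spec (CommRingCat.of B) ⟶ Spec (CommRingCat.of R)}
  {f' : Spec (CommRingCat.of B') ⟶ Spec (CommRingCat.of R)}

/-- The structure morphism of a test algebra. -/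
abbrev fR (R : Type u) [CommRing R] (B : Type u) [CommRing B] [Algebra R B] :
    Spec (CommRingCat.of B) ⟶ Spec (CommRingCat.of R) :=
  Spec.map (CommRingCat.ofHom (algebraMap R B))

/-- Change of the presentation of a test object. -/
def idPt (hf : fR R B = f) : pt B f ⟶ (Spec (CommRingCat.of B)).asOver (Spec (CommRingCat.of R)) :=
  Over.homMk (𝟙 _) (by
    show 𝟙 _ ≫ fR R B = f
    rw [Category.id_comp, hf])

/-- The inverse change of presentation. -/
def idPt' (hf : fR R B = f) : (Spec (CommRingCat.of B)).asOver (Spec (CommRingCat.of R)) ⟶ pt B f :=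
  Over.homMk (𝟙 _) (by
    show 𝟙 _ ≫ f = fR R B
    rw [Category.id_comp, hf])

/-- Points of the Hopf algebra are points of the group. -/
def ptE (hf : fR R B = f) : Dynamic.Pt R A B ≃* (pt B f ⟶ G) where
  toFun x := idPt hf ≫ (Spec.mapMulEquiv (R := R) (S := A) (T := B) x) ≫ e.hom
  invFun g := (Spec.mapMulEquiv (R := R) (S := A) (T := B)).symm (idPt' hf ≫ g ≫ e.inv)
  left_inv x := by
    dsimp only
    rw [Category.assoc, Category.assoc, e.hom_inv_id, Category.comp_id, ← Category.assoc,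
      show idPt' hf ≫ idPt hf = 𝟙 _ from Over.OverMorphism.ext (Category.comp_id _), Category.id_comp,
      MulEquiv.symm_apply_apply]
  right_inv g := by
    dsimp only
    rw [MulEquiv.apply_symm_apply, Category.assoc, Category.assoc, e.inv_hom_id, Category.comp_id,
      ← Category.assoc, show idPt hf ≫ idPt' hf = 𝟙 _ from Over.OverMorphism.ext (Category.comp_id _),
      Category.id_comp]
  map_mul' x y := by rw [map_mul, MonObj.mul_comp, MonObj.comp_mul]

theorem ptE_left (hf : fR R B = f) (x : Dynamic.Pt R A B) :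
    (ptE e hf x).left = Spec.map (CommRingCat.ofHom x.ofConv.toRingHom) ≫ e.hom.left :=
  Category.id_comp _

/-- The functions on the group as elements of the Hopf algebra. -/
def fnE : Γ(G.left, ⊤) →+* A :=
  (e.hom.left.appTop ≫ (Scheme.ΓSpecIso (CommRingCat.of A)).hom).hom

omit [IsMonHom e.hom] in
theorem fnE_surjective : Function.Surjective (fnE e) := by
  haveI : IsIso e.hom.left := inferInstanceAs (IsIso ((Over.forget _).map e.hom))
  exact (ConcreteCategory.bijective_of_isIso (e.hom.left.appTop ≫ (Scheme.ΓSpecIso (CommRingCat.of A)).hom)).2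

theorem rp_ptE (hf : fR R B = f) (x : Dynamic.Pt R A B) (a : Γ(G.left, ⊤)) :
    rp (ptE e hf x) a = x (fnE e a) := by
  show (Scheme.ΓSpecIso (CommRingCat.of B)).hom ((ptE e hf x).left.appTop a) = _
  rw [ptE_left, Scheme.Hom.comp_appTop, CommRingCat.comp_apply]
  exact ConcreteCategory.congr_hom (Scheme.ΓSpecIso_naturality (CommRingCat.ofHom x.ofConv.toRingHom)) _

theorem ptE_push (hf : fR R B = f) (hf' : fR R B' = f') (φ : B →ₐ[R] B')
    (hφ : Spec.map (CommRingCat.ofHom φ.toRingHom) ≫ f = f') (x : Dynamic.Pt R A B) :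
    ptE e hf' (Dynamic.push φ x) = qm φ.toRingHom hφ ≫ ptE e hf x := by
  refine Over.OverMorphism.ext ?_
  rw [Over.comp_left, ptE_left, ptE_left, qm_left, ← Category.assoc, LieS.specMap_comp]
  rfl

omit [Algebra R B'] in
theorem fR_alg [Algebra R B'] (φ : B →ₐ[R] B') :
    Spec.map (CommRingCat.ofHom φ.toRingHom) ≫ fR R B = fR R B' := by
  rw [fR, LieS.specMap_comp]
  congr 2
  exact φ.comp_algebraMap

theorem fR_laurent (B : Type u) [CommRing B] [Algebra R B] : fR R B[T;T⁻¹] = fL (fR R B) ℤ := by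
  rw [fL, fR, fR, LieS.specMap_comp]
  congr 2

variable (c : Red.DS (Spec (CommRingCat.of R)) ℤ ⟶ G) [IsMonHom c]

/-- The universal point of the multiplicative group as a point of the Hopf algebra. -/
def lamPt : Dynamic.Pt R A R[T;T⁻¹] := (ptE e (fR_laurent R)).symm (xu (fR R R) ℤ ≫ c)

theorem ptE_push_lamPt {E : Type u} [CommRing E] [Algebra R E] (φ : R[T;T⁻¹] →ₐ[R] E) :
    ptE e (rfl : fR R E = _) (Dynamic.push φ (lamPt e c)) =
      (qm φ.toRingHom (by rw [← fR_laurent, fR_alg φ]) ≫ xu (fR R R) ℤ) ≫ c := by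
  rw [ptE_push e (fR_laurent R) rfl φ (by rw [← fR_laurent, fR_alg φ]), lamPt, MulEquiv.apply_symm_apply,
    Category.assoc]

theorem chv_push {E : Type u} [CommRing E] [Algebra R E] (φ : R[T;T⁻¹] →ₐ[R] E)
    (hφ : Spec.map (CommRingCat.ofHom φ.toRingHom) ≫ fL (fR R R) ℤ = fR R E) (m : Multiplicative ℤ) :
    chv (qm φ.toRingHom hφ ≫ xu (fR R R) ℤ) m = φ (LaurentPolynomial.T m.toAdd) := by
  rw [chv_qm, chv_xu]
  rfl

theorem push_comul_lamPt :
    Dynamic.push (Bialgebra.comulAlgHom R R[T;T⁻¹]) (lamPt e c) =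
      Dynamic.push (Algebra.TensorProduct.includeLeft) (lamPt e c) *
        Dynamic.push (Algebra.TensorProduct.includeRight) (lamPt e c) := by
  apply (ptE e (rfl : fR R (R[T;T⁻¹] ⊗[R] R[T;T⁻¹]) = _)).injective
  rw [map_mul, ptE_push_lamPt, ptE_push_lamPt, ptE_push_lamPt, ← MonObj.mul_comp]
  congr 1
  refine chv_ext fun m => ?_
  rw [chv_mul, chv_push, chv_push, chv_push]
  simp

omit [Algebra R B] in
theorem eq_one_of_chv {S : Scheme.{u}} {M : Type} [AddCommGroup M] {g : Spec (CommRingCat.of B) ⟶ S}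
    (x : pt B g ⟶ Red.DS S M) (h : ∀ m, chv x m = 1) : x = 1 := by
  refine ch_ext fun m => ?_
  rw [ch_one]
  have := h m
  exact (ConcreteCategory.bijective_of_isIso (Scheme.ΓSpecIso (CommRingCat.of B)).hom).1 (this.trans (map_one _).symm)

theorem push_counit_lamPt : Dynamic.push (Bialgebra.counitAlgHom R R[T;T⁻¹]) (lamPt e c) = 1 := by
  apply (ptE e (rfl : fR R R = _)).injective
  rw [map_one, ptE_push_lamPt]
  rw [eq_one_of_chv (qm (Bialgebra.counitAlgHom R R[T;T⁻¹]).toRingHom _ ≫ xu (fR R R) ℤ) fun m => by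
    rw [chv_push]
    exact LaurentPolynomial.counit_T m.toAdd]
  exact (IsMonHom.monoidHom c _).map_one

/-- The Hopf algebra map of a one-parameter subgroup. -/
def lamHom : A →ₐc[R] R[T;T⁻¹] :=
  BialgHom.ofAlgHom (lamPt e c).ofConv
    (AlgHom.ext fun a => by
      have h := congr($(push_counit_lamPt e c) a)
      rw [Dynamic.push_apply, AlgHom.convOne_apply] at h
      exact h)
    (AlgHom.ext fun a => by
      have h := congr($(push_comul_lamPt e c) a)
      rw [Dynamic.push_apply, AlgHom.convMul_apply] at h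
      rw [AlgHom.comp_apply, AlgHom.comp_apply]
      refine Eq.trans ?_ h.symm
      rw [Bialgebra.comulAlgHom_apply]
      generalize Coalgebra.comul (R := R) a = t
      induction t using TensorProduct.induction_on with
      | zero => simp
      | add x y hx hy => simp only [map_add, hx, hy]
      | tmul x y => simp)

theorem ptE_L : ptE e (fR_laurent B) (Dynamic.L (lamHom e c) B) = xu (fR R B) ℤ ≫ c := by
  let φ : R[T;T⁻¹] →ₐ[R] B[T;T⁻¹] := AddMonoidAlgebra.mapAlgHom ℤ (Algebra.ofId R B)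
  have h1 : Dynamic.L (lamHom e c) B = Dynamic.push φ (lamPt e c) := rfl
  have hφ : Spec.map (CommRingCat.ofHom φ.toRingHom) ≫ fL (fR R R) ℤ = fL (fR R B) ℤ := by
    rw [← fR_laurent, ← fR_laurent, fR_alg φ]
  rw [h1, ptE_push e (fR_laurent R) (fR_laurent B) φ hφ, lamPt, MulEquiv.apply_symm_apply, ← Category.assoc]
  congr 1
  refine chv_ext fun m => ?_
  rw [chv_qm, chv_xu, chv_xu]
  show AddMonoidAlgebra.mapAlgHom ℤ (Algebra.ofId R B) (AddMonoidAlgebra.single m.toAdd 1) = _
  rw [AddMonoidAlgebra.mapAlgHom_single, map_one]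

theorem ptE_orb (x : Dynamic.Pt R A B) :
    ptE e (fR_laurent B) (Dynamic.orb (lamHom e c) B x) = orb (fR R B) c (ptE e rfl x) := by
  rw [Dynamic.orb_apply, orb_apply, map_mul, map_mul, map_inv, ptE_L,
    ptE_push e rfl (fR_laurent B) (Dynamic.Cc B) (f' := fL (fR R B) ℤ) (by
      show Spec.map _ ≫ fR R B = fL (fR R B) ℤ
      rw [fR_alg (Dynamic.Cc B), fR_laurent]) x]
  rfl

theorem coeff_rp_orb (x : Dynamic.Pt R A B) (a : Γ(G.left, ⊤)) (n : ℤ) :
    (rp (orb (fR R B) c (ptE e rfl x)) a).coeff n = x ((Dynamic.cA (lamHom e c) (fnE e a)).coeff n) := by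
  rw [← ptE_orb, rp_ptE]
  exact Dynamic.coeff_orb _ _ _ _

variable [IsAffine G.left]

theorem mem_PSub_iff_coeff {g : pt B f ⟶ G} :
    g ∈ PSub f c ↔ ∀ a, ∀ n : ℤ, n < 0 → (rp (orb f c g) a).coeff n = 0 := by
  classical
  rw [mem_PSub]
  constructor
  · rintro ⟨h, hh⟩ a n hn
    rw [← hh, qn, qd, rp_qm]
    exact coeff_qn_neg _ hn
  · intro h
    refine exists_pt_of_range (AddMonoidAlgebra.mapDomainRingHom B (NN ℤ).subtype) qn_injective
      (fC := fL f (NN ℤ)) (Over.w (qn f ℤ)) (orb f c g) fun a => ?_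
    rw [← AddMonoidAlgebra.sum_coeff_single (rp (orb f c g) a)]
    refine Subring.sum_mem _ fun n hn => ?_
    have h0 : 0 ≤ n := by
      by_contra hneg
      exact (Finsupp.mem_support_iff.1 hn) (h a n (lt_of_not_ge hneg))
    exact ⟨AddMonoidAlgebra.single ⟨n, h0⟩ ((rp (orb f c g) a).coeff n), AddMonoidAlgebra.mapDomain_single⟩

/-- **The points with a limit agree.** -/
theorem mem_P_iff (x : Dynamic.Pt R A B) : x ∈ Dynamic.P (lamHom e c) B ↔ ptE e rfl x ∈ PSub (fR R B) c := by
  rw [Dynamic.mem_P_iff_coeff, mem_PSub_iff_coeff]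
  simp only [coeff_rp_orb]
  exact ⟨fun h a => h _, fun h a => by obtain ⟨b, rfl⟩ := fnE_surjective e a; exact h b⟩

theorem coeff_zero_rp_orb [IsAffineHom G.hom] {g : pt B f ⟶ G} (hg : g ∈ PSub f c) (a : Γ(G.left, ⊤)) :
    (rp (orb f c g) a).coeff 0 = rp (lim c g) a := by
  obtain ⟨h, hh⟩ := (mem_PSub f c).1 hg
  rw [lim_eq hh, ← hh, qz, qn, qd, rp_qm, rp_qm, RingHom.comp_apply, RingHom.comp_apply]
  generalize rp h a = p
  induction p using AddMonoidAlgebra.induction_linear with
  | zero => simp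
  | add p q hp hq => simp only [map_add, AddMonoidAlgebra.coeff_add, Finsupp.add_apply, hp, hq]
  | single n b =>
    rw [z0_single]
    show (AddMonoidAlgebra.mapDomain _ _).coeff 0 = _
    rw [AddMonoidAlgebra.mapDomain_single, AddMonoidAlgebra.coeff_single, Finsupp.single_apply]
    rfl

/-- **The contracted points agree.** -/
theorem mem_U_iff [IsAffineHom G.hom] (x : Dynamic.Pt R A B) :
    x ∈ Dynamic.U (lamHom e c) B ↔ ptE e rfl x ∈ USub (fR R B) c := by
  rw [Dynamic.mem_U_iff_coeff, mem_USub_iff_lim, mem_P_iff]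
  refine and_congr_right fun hP => ?_
  have h1 : ∀ b, rp (1 : pt B (fR R B) ⟶ G) b = algebraMap R B (Coalgebra.counit (fnE e b)) := fun b => by
    rw [← map_one (ptE e (rfl : fR R B = _)), rp_ptE, AlgHom.convOne_apply]
  constructor
  · intro h
    refine rp_ext (RingHom.ext fun b => ?_)
    rw [← coeff_zero_rp_orb c hP, coeff_rp_orb, h, h1]
  · intro h a
    obtain ⟨b, rfl⟩ := fnE_surjective e a
    rw [← coeff_rp_orb, coeff_zero_rp_orb c hP, h, h1]

/-- The opposite one-parameter subgroup. -/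
abbrev negC : Red.DS (Spec (CommRingCat.of R)) ℤ ⟶ G :=
  Red.DSmap (Spec (CommRingCat.of R)) (-AddMonoidHom.id ℤ) ≫ c

omit [IsAffine G.left] in
theorem lamHom_neg [IsMonHom (negC c)] :
    ((lamHom e (negC c)) : A →ₐ[R] R[T;T⁻¹]) = Dyn.negParam R A (lamHom e c) := by
  let φ : R[T;T⁻¹] →ₐ[R] R[T;T⁻¹] := (LaurentPolynomial.invert (R := R)).toAlgHom
  suffices h : lamPt e (negC c) = Dynamic.push φ (lamPt e c) from congrArg WithConv.ofConv h
  apply (ptE e (fR_laurent R)).injective
  rw [ptE_push e (fR_laurent R) (fR_laurent R) φ (by rw [← fR_laurent, fR_alg φ]), lamPt, lamPt,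
    MulEquiv.apply_symm_apply, MulEquiv.apply_symm_apply, negC, ← Category.assoc, xu_DSmap, ← Category.assoc]
  congr 1

end Groth.Agent.DynPar
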