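import Groth.Agent.DynPar.Smooth
import Groth.Agent.Dynamic.Conn
import Groth.Agent.Dynamic.UnipField
import Groth.Agent.RedLR.Semi
import Groth.Agent.SchFinB.Schematic
import Groth.Agent.MTSplit.Basic
import Groth.Prelude.Def_SekSuwa

/-!
# The subgroups with a limit over a field
-/

set_option autoImplicit false
set_option linter.style.haveILetI false
set_option backward.isDefEq.respectTransparency false
set_option maxHeartbeats 1000000
set_option synthInstance.maxHeartbeats 400000

universe u

open CategoryTheory Limits MonoidalCategory CartesianMonoidalCategory MonObj AlgebraicGeometry LieS WithConv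
open scoped CategoryTheory.Obj LaurentPolynomial TensorProduct

noncomputable section

namespace Groth.Agent.DynPar

open Groth.Agent.HomDiag

variable {k : Type u} [Field k] {G : Over (Spec (CommRingCat.of k))} [GrpObj G] [IsAffine G.left]
  [LocallyOfFiniteType G.hom]

theorem finiteType_of_iso {A : Type u} [CommRing A] [HopfAlgebra k A]
    (e : (Spec (CommRingCat.of A)).asOver (Spec (CommRingCat.of k)) ≅ G) : Algebra.FiniteType k A := by
  haveI : IsIso e.hom.left := inferInstanceAs (IsIso ((Over.forget _).map e.hom))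
  have h : LocallyOfFiniteType (Spec.map (CommRingCat.ofHom (algebraMap k A))) := by
    have h := Over.w e.hom
    rw [show Spec.map (CommRingCat.ofHom (algebraMap k A)) = e.hom.left ≫ G.hom from h.symm]
    infer_instance
  exact RingHom.finiteType_algebraMap.1 ((HasRingHomProperty.Spec_iff (P := @LocallyOfFiniteType)).1 h)

theorem connectedSpace_of_iso_spec {R : Type u} [CommRing R] {X : Scheme.{u}} (φ : Spec (CommRingCat.of R) ⟶ X)
    [IsIso φ] [Nonempty X] (h : ∀ e : R, IsIdempotentElem e → e = 0 ∨ e = 1) : ConnectedSpace X := by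
  haveI : Nonempty (PrimeSpectrum R) := ⟨(inv φ).base (Classical.arbitrary _)⟩
  haveI : ConnectedSpace (PrimeSpectrum R) :=
    (Groth.Agent.SchFinB.connectedSpace_iff_idem R).2 ⟨PrimeSpectrum.nonempty_iff_nontrivial.1 ‹_›, h⟩
  haveI : ConnectedSpace ↥(Spec (CommRingCat.of R)) := ‹ConnectedSpace (PrimeSpectrum R)›
  exact φ.homeomorph.surjective.connectedSpace φ.continuous

theorem nonempty_left {K : Over (Spec (CommRingCat.of k))} [GrpObj K] : Nonempty K.left :=
  ⟨(η[K]).left.base (IsLocalRing.closedPoint k)⟩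

theorem int_fibre (c : Red.DS (Spec (CommRingCat.of k)) ℤ ⟶ G) [IsMonHom c]
    {P U : Over (Spec (CommRingCat.of k))} [GrpObj P] [GrpObj U] {p : P ⟶ G} {u : U ⟶ G}
    (hp : IsP c p) (hu : IsU c u) :
    (ConnectedSpace G.left → ConnectedSpace P.left) ∧ ConnectedSpace U.left ∧
      ((∀ _ : IsAlgClosed k, Red.HasNoSubtorus k U)) := by
  obtain ⟨A, _, e, he⟩ := Groth.Agent.FinHopf.exists_hopf (R := CommRingCat.of k) G
  haveI := he
  haveI : IsIso e.hom.left := inferInstanceAs (IsIso ((Over.forget _).map e.hom))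
  haveI := finiteType_of_iso e
  let lam := lamHom e c
  haveI := hp.2.1
  haveI := hu.2.1
  haveI := hu.1
  obtain ⟨φP, hφP, -⟩ := exists_left_iso e (K := PFam c) (PFam_stable c) (fun B _ _ => Dynamic.P lam B)
    (Dynamic.Jp lam) (fun B _ _ g => Dynamic.kill_Jp lam g) (fun B _ _ g => mem_P_iff e c g) hp.2.2
  obtain ⟨φU, hφU, hφU', hφUu⟩ := exists_left_iso e (K := UFam c) (UFam_stable c) (fun B _ _ => Dynamic.U lam B)
    (Dynamic.Ju lam) (fun B _ _ g => Dynamic.kill_Ju lam g) (fun B _ _ g => mem_U_iff e c g) hu.2.2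
  haveI : Nonempty P.left := nonempty_left
  haveI : Nonempty U.left := nonempty_left
  haveI hJu := Dynamic.isHopfIdeal_Ju lam
  refine ⟨fun hG => connectedSpace_of_iso_spec φP ?_, connectedSpace_of_iso_spec φU
    (fun x hx => Dynamic.isIdempotentElem_trivial lam (Dynamic.Ju lam) (fun B _ _ g => Dynamic.kill_Ju lam g) hx),
    fun _ => ?_⟩
  · haveI : ConnectedSpace G.left := hG
    haveI : ConnectedSpace (PrimeSpectrum A) :=
      (inv e.hom.left).homeomorph.surjective.connectedSpace (inv e.hom.left).continuous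
    exact fun x hx => Dynamic.idem_trivial_limExists
      ((Groth.Agent.SchFinB.connectedSpace_iff_idem A).1 ‹_›).2 lam (Dynamic.Jp lam)
      (fun B _ _ g => Dynamic.kill_Jp lam g) x hx
  · haveI := Dynamic.isHopfIdeal_Ju lam
    have hunip : HopfRep.IsUnipotent k (A ⧸ Dynamic.Ju lam) := fun V _ _ _ _ hV => by
      haveI := hV
      exact Dynamic.fixedPts_ne_bot lam _ (fun B _ _ g => Dynamic.kill_Ju lam g) V
    have hns := Groth.Agent.RedLR.hasNoSubtorus_of_unipotent hunip
    let iJ : (Spec (CommRingCat.of (A ⧸ Dynamic.Ju lam))).asOver (Spec (CommRingCat.of k)) ⟶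
        (Spec (CommRingCat.of A)).asOver (Spec (CommRingCat.of k)) :=
      SekSuwa.specHom (Bialgebra.Quotient.mkBialgHom (R := k) (Dynamic.Ju lam))
    haveI : IsClosedImmersion iJ.left :=
      IsClosedImmersion.spec_of_surjective _ Ideal.Quotient.mk_surjective
    haveI : Mono iJ := Over.mono_of_mono_left iJ
    intro T _ j _ _ hT
    haveI : Mono u := Over.mono_of_mono_left u
    let φ' : (Spec (CommRingCat.of (A ⧸ Dynamic.Ju lam))).asOver (Spec (CommRingCat.of k)) ⟶ U :=
      Over.homMk φU hφU'
    haveI : IsIso φ' := by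
      haveI : IsIso ((Over.forget _).map φ') := hφU
      exact isIso_of_reflects_iso φ' (Over.forget _)
    have hφ'u : φ' ≫ u = iJ ≫ e.hom := by
      exact Over.OverMorphism.ext hφUu
    let j' : T ⟶ (Spec (CommRingCat.of (A ⧸ Dynamic.Ju lam))).asOver (Spec (CommRingCat.of k)) := j ≫ inv φ'
    have hj' : j' ≫ iJ = (j ≫ u) ≫ e.inv := by
      rw [← cancel_mono e.hom]
      simp only [j', Category.assoc, ← hφ'u, IsIso.inv_hom_id_assoc, Iso.inv_hom_id, Category.comp_id]
    haveI : IsMonHom j' := MTSplit.isMonHom_of_comp_mono j' iJ ((j ≫ u) ≫ e.inv) hj'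
    exact hns T j' hT

/-- **Over a field the subgroup with a limit of a connected group is connected, and the contracted one is unipotent.** -/
theorem field_fibre {Γ : Type} [AddCommGroup Γ] [LinearOrder Γ] [IsOrderedAddMonoid Γ]
    (c : Red.DS (Spec (CommRingCat.of k)) Γ ⟶ G) [IsMonHom c]
    {P U : Over (Spec (CommRingCat.of k))} [GrpObj P] [GrpObj U] {p : P ⟶ G} {u : U ⟶ G}
    (hp : IsP c p) (hu : IsU c u) :
    (ConnectedSpace G.left → ConnectedSpace P.left) ∧ ConnectedSpace U.left ∧
      ((∀ _ : IsAlgClosed k, Red.HasNoSubtorus k U)) := by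
  obtain ⟨c', _, hc'⟩ := exists_int c
  exact int_fibre c' (hp.congr fun B _ f g => (hc' B f g).1) (hu.congr fun B _ f g => (hc' B f g).2.1)

omit [IsAffine G.left] [LocallyOfFiniteType G.hom] in
theorem connectedSpace_of_retract {P Z : Over (Spec (CommRingCat.of k))} [ConnectedSpace P.left] (i : Z ⟶ P)
    (r : P ⟶ Z) (h : i ≫ r = 𝟙 Z) : ConnectedSpace Z.left :=
  Function.Surjective.connectedSpace
    (f := r.left.base) (fun z => ⟨i.left.base z, by
      show (i.left ≫ r.left).base z = z
      rw [← Over.comp_left, h]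
      rfl⟩) r.left.continuous

end Groth.Agent.DynPar
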