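import Groth.Agent.DynPar.Orbit
import Groth.Agent.MTCentre.Grading

/-!
# Limits of orbits in terms of the weight decomposition of the functions
-/

set_option autoImplicit false
set_option linter.style.haveILetI false
set_option backward.isDefEq.respectTransparency false
set_option maxHeartbeats 1000000
set_option synthInstance.maxHeartbeats 400000

universe u

open CategoryTheory Limits MonoidalCategory CartesianMonoidalCategory MonObj AlgebraicGeometry LieS
open scoped CategoryTheory.Obj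

noncomputable section

namespace Groth.Agent.DynPar

open Groth.Agent.HomDiag Groth.Agent.MTCentre

variable {S : Scheme.{u}} {G : Over S} {B B' : Type u} [CommRing B] [CommRing B']
  {f : Spec (CommRingCat.of B) ⟶ S}

/-- A point as a map from the ring of functions. -/
def rp (t : pt B f ⟶ G) : Γ(G.left, ⊤) →+* B :=
  (t.left.appTop ≫ (Scheme.ΓSpecIso (CommRingCat.of B)).hom).hom

theorem rp_qm {f' : Spec (CommRingCat.of B') ⟶ S} (h : B →+* B')
    (hf : Spec.map (CommRingCat.ofHom h) ≫ f = f') (t : pt B f ⟶ G) :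
    rp (qm h hf ≫ t) = h.comp (rp t) := by
  have e : (qm h hf ≫ t).left.appTop ≫ (Scheme.ΓSpecIso (CommRingCat.of B')).hom =
      (t.left.appTop ≫ (Scheme.ΓSpecIso (CommRingCat.of B)).hom) ≫ CommRingCat.ofHom h := by
    rw [Over.comp_left, Scheme.Hom.comp_appTop, qm_left, Category.assoc, Category.assoc,
      Scheme.ΓSpecIso_naturality]
  exact congrArg CommRingCat.Hom.hom e

theorem rp_ext [IsAffine G.left] {s t : pt B f ⟶ G} (h : rp s = rp t) : s = t := by
  refine Over.OverMorphism.ext (ext_of_isAffine ?_)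
  rw [← cancel_mono (Scheme.ΓSpecIso (CommRingCat.of B)).hom]
  exact CommRingCat.hom_ext h

theorem rp_hom (t : pt B f ⟶ G) (r : Γ(S, ⊤)) :
    rp t (G.hom.appTop r) = (Scheme.ΓSpecIso (CommRingCat.of B)).hom (f.appTop r) := by
  show (Scheme.ΓSpecIso (CommRingCat.of B)).hom (t.left.appTop (G.hom.appTop r)) = _
  rw [← CommRingCat.comp_apply G.hom.appTop, ← Scheme.Hom.comp_appTop, Over.w t]
  rfl

theorem scalar_mem_range {C C' : Type u} [CommRing C] [CommRing C'] {fC : Spec (CommRingCat.of C) ⟶ S}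
    {fC' : Spec (CommRingCat.of C') ⟶ S} (jr : C →+* C') (hjr : Spec.map (CommRingCat.ofHom jr) ≫ fC = fC')
    (r : Γ(S, ⊤)) : (Scheme.ΓSpecIso (CommRingCat.of C')).hom (fC'.appTop r) =
      jr ((Scheme.ΓSpecIso (CommRingCat.of C)).hom (fC.appTop r)) := by
  rw [← hjr, Scheme.Hom.comp_appTop]
  exact ConcreteCategory.congr_hom (Scheme.ΓSpecIso_naturality (CommRingCat.ofHom jr)) (fC.appTop r)

/-- A point with values in a subring comes from that subring. -/
theorem exists_pt_of_range [IsAffine S] [IsAffine G.left] {C C' : Type u} [CommRing C] [CommRing C']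
    {fC : Spec (CommRingCat.of C) ⟶ S} {fC' : Spec (CommRingCat.of C') ⟶ S} (jr : C →+* C')
    (hinj : Function.Injective jr) (hjr : Spec.map (CommRingCat.ofHom jr) ≫ fC = fC') (t : pt C' fC' ⟶ G)
    (ht : ∀ a, rp t a ∈ jr.range) : ∃ h : pt C fC ⟶ G, qm jr hjr ≫ h = t := by
  choose l hl using ht
  let φ : Γ(G.left, ⊤) →+* C :=
    { toFun := l
      map_one' := hinj (by rw [hl, map_one, map_one])
      map_mul' := fun a b => hinj (by rw [hl, map_mul, map_mul, hl, hl])
      map_zero' := hinj (by rw [hl, map_zero, map_zero])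
      map_add' := fun a b => hinj (by rw [hl, map_add, map_add, hl, hl]) }
  let m : Spec (CommRingCat.of C) ⟶ G.left := Spec.map (CommRingCat.ofHom φ) ≫ G.left.isoSpec.inv
  have hm : ∀ a, (Scheme.ΓSpecIso (CommRingCat.of C)).hom (m.appTop a) = φ a := fun a => by
    rw [appTop_specMap_isoSpec_inv]
    exact ConcreteCategory.congr_hom (Scheme.ΓSpecIso (CommRingCat.of C)).inv_hom_id (φ a)
  have hw : m ≫ G.hom = fC := ext_of_isAffine (by
    ext r
    refine (ConcreteCategory.bijective_of_isIso (Scheme.ΓSpecIso (CommRingCat.of C)).hom).1 (hinj ?_)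
    rw [Scheme.Hom.comp_appTop, CommRingCat.comp_apply, hm, ← scalar_mem_range jr hjr r]
    exact (hl _).trans (rp_hom t r))
  refine ⟨Over.homMk m hw, rp_ext (RingHom.ext fun a => ?_)⟩
  rw [rp_qm, RingHom.comp_apply]
  exact (congrArg jr (hm a)).trans (hl a)

/-- Points agreeing after an injective change of test ring agree. -/
theorem pt_ext [IsAffine G.left] {C C' : Type u} [CommRing C] [CommRing C']
    {fC : Spec (CommRingCat.of C) ⟶ S} {fC' : Spec (CommRingCat.of C') ⟶ S} (jr : C →+* C')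
    (hinj : Function.Injective jr) (hjr : Spec.map (CommRingCat.ofHom jr) ≫ fC = fC') {a b : pt C fC ⟶ G}
    (h : qm jr hjr ≫ a = qm jr hjr ≫ b) : a = b :=
  rp_ext (RingHom.ext fun x => hinj (by
    have := congrArg (fun z => rp z x) h
    simpa [rp_qm] using this))

variable [GrpObj G] {M : Type} [AddCommGroup M] (i : Red.DS S M ⟶ G) [IsMonHom i]

section

variable [IsAffine G.left]

/-- The weight decomposition of the functions. -/
def gr : Γ(G.left, ⊤) →+* MonoidAlgebra Γ(G.left, ⊤) (Multiplicative M) := (exists_coaction i).choose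

/-- The component of a function of a given weight. -/
def wc (a : Γ(G.left, ⊤)) (m : M) : Γ(G.left, ⊤) := (gr i a).coeff (Multiplicative.ofAdd m)

theorem gr_wc (a : Γ(G.left, ⊤)) (m : M) :
    gr i (wc i a m) = MonoidAlgebra.single (Multiplicative.ofAdd m) (wc i a m) :=
  (exists_coaction i).choose_spec.2.2 a _

/-- The weights of a function. -/
def wts (a : Γ(G.left, ⊤)) : Finset M := (gr i a).coeff.support.map Multiplicative.toAdd.toEmbedding

theorem wc_eq_zero_of_notMem {a : Γ(G.left, ⊤)} {m : M} (h : m ∉ wts i a) : wc i a m = 0 := by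
  by_contra h0
  exact h (Finset.mem_map.2 ⟨Multiplicative.ofAdd m, Finsupp.mem_support_iff.2 h0, rfl⟩)

theorem gr_eq_sum (a : Γ(G.left, ⊤)) :
    gr i a = ∑ m ∈ wts i a, MonoidAlgebra.single (Multiplicative.ofAdd m) (wc i a m) := by
  rw [wts, Finset.sum_map]
  conv_lhs => rw [← MonoidAlgebra.sum_coeff_single (gr i a)]
  rfl

theorem sum_wc (a : Γ(G.left, ⊤)) : ∑ m ∈ wts i a, wc i a m = a := by
  conv_rhs => rw [← (exists_coaction i).choose_spec.2.1 a]
  rw [wts, Finset.sum_map]
  rfl

variable {Γ : Type} [AddCommGroup Γ] (θ : M →+ Γ)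

theorem rp_orb (g : pt B f ⟶ G) (a : Γ(G.left, ⊤)) :
    rp (orb f (Red.DSmap S θ ≫ i) g) a =
      ∑ m ∈ wts i a, AddMonoidAlgebra.single (θ m) (rp g (wc i a m)) := by
  have h := (exists_coaction i).choose_spec.1 (pt _ (fL f Γ)) (xu f Γ ≫ Red.DSmap S θ) (qc Γ f ≫ g)
  have e : orb f (Red.DSmap S θ ≫ i) g = conjPt i (xu f Γ ≫ Red.DSmap S θ) (qc Γ f ≫ g) := by
    rw [orb_apply, conjPt, Category.assoc]
  rw [e]
  show (Scheme.ΓSpecIso (CommRingCat.of (AddMonoidAlgebra B Γ))).hom
    ((conjPt i (xu f Γ ≫ Red.DSmap S θ) (qc Γ f ≫ g)).left.appTop a) = _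
  refine (congrArg (Scheme.ΓSpecIso (CommRingCat.of (AddMonoidAlgebra B Γ))).hom (RingHom.congr_fun h a)).trans ?_
  show (Scheme.ΓSpecIso (CommRingCat.of (AddMonoidAlgebra B Γ))).hom
    (ev (xu f Γ ≫ Red.DSmap S θ) (qc Γ f ≫ g) (gr i a)) = _
  rw [gr_eq_sum, map_sum, map_sum]
  refine Finset.sum_congr rfl fun m _ => ?_
  rw [ev_single, map_mul]
  show rp (qm (cC B Γ) rfl ≫ g) (wc i a m) * chv (xu f Γ ≫ Red.DSmap S θ) (Multiplicative.ofAdd m) = _
  rw [rp_qm, chv_DSmap, chv_xu]
  show AddMonoidAlgebra.single 0 _ * AddMonoidAlgebra.single (θ m) 1 = _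
  rw [AddMonoidAlgebra.single_mul_single, zero_add, _root_.mul_one]

theorem rp_orb_wc (g : pt B f ⟶ G) (a : Γ(G.left, ⊤)) (m : M) :
    rp (orb f (Red.DSmap S θ ≫ i) g) (wc i a m) = AddMonoidAlgebra.single (θ m) (rp g (wc i a m)) := by
  classical
  rw [rp_orb]
  have hw : ∀ n, wc i (wc i a m) n = if n = m then wc i a m else 0 := fun n => by
    show (gr i (wc i a m)).coeff (Multiplicative.ofAdd n) = _
    rw [gr_wc, MonoidAlgebra.coeff_single, Finsupp.single_apply]
    simp only [EmbeddingLike.apply_eq_iff_eq, eq_comm (a := n)]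
  rw [Finset.sum_eq_single m (fun n _ hn => by rw [hw, if_neg hn, map_zero, AddMonoidAlgebra.single_zero])
    (fun hm => by rw [wc_eq_zero_of_notMem i hm, map_zero, AddMonoidAlgebra.single_zero]), hw, if_pos rfl]

/-- A set of functions generating over the functions on the base. -/
def Gens (s : Set Γ(G.left, ⊤)) : Prop :=
  Subring.closure (Set.range G.hom.appTop ∪ s) = ⊤

omit [GrpObj G] [IsAffine G.left] in
theorem gens_univ : Gens (G := G) Set.univ := by
  rw [Gens, Set.union_univ, Subring.closure_univ]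

theorem mem_ZSub_iff {g : pt B f ⟶ G} {s : Set Γ(G.left, ⊤)} (hs : Gens (G := G) s) :
    g ∈ ZSub f (Red.DSmap S θ ≫ i) ↔ ∀ a ∈ s, ∀ m, θ m ≠ 0 → rp g (wc i a m) = 0 := by
  classical
  rw [mem_ZSub]
  constructor
  · intro h a _ m hm
    have e := congr(rp $h (wc i a m))
    rw [rp_orb_wc, qc, rp_qm, RingHom.comp_apply] at e
    replace e := congr(($e).coeff (θ m))
    rw [AddMonoidAlgebra.coeff_single, Finsupp.single_eq_same] at e
    rw [e]
    show (AddMonoidAlgebra.single 0 _).coeff (θ m) = 0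
    rw [AddMonoidAlgebra.coeff_single, Finsupp.single_eq_of_ne hm]
  · intro h
    refine rp_ext ?_
    suffices hle : Set.range G.hom.appTop ∪ s ⊆ (RingHom.eqLocus (rp (orb f (Red.DSmap S θ ≫ i) g))
        (rp (qc Γ f ≫ g)) : Set Γ(G.left, ⊤)) by
      refine RingHom.ext fun a => ?_
      have : a ∈ Subring.closure (Set.range G.hom.appTop ∪ s) := hs ▸ Subring.mem_top a
      exact Subring.closure_le.2 hle this
    rintro a (⟨r, rfl⟩ | ha)
    · show rp _ _ = rp _ _
      rw [rp_hom, rp_hom]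
    · show rp _ a = rp _ a
      rw [rp_orb, qc, rp_qm, RingHom.comp_apply]
      conv_rhs => rw [← sum_wc i a, map_sum, map_sum]
      refine Finset.sum_congr rfl fun m _ => ?_
      by_cases hm : θ m = 0
      · rw [hm]; rfl
      · rw [h a ha m hm, map_zero, AddMonoidAlgebra.single_zero]

theorem rp_one_wc (a : Γ(G.left, ⊤)) {m : M} (hm : m ≠ 0) : rp (1 : pt B f ⟶ G) (wc i a m) = 0 :=
  (mem_ZSub_iff i (AddMonoidHom.id M) gens_univ).1 (one_mem _) a (Set.mem_univ a) m hm

variable [LinearOrder Γ] [IsOrderedAddMonoid Γ]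

omit [GrpObj G] [IsAffine G.left] in
theorem coeff_qn_neg (p : AddMonoidAlgebra B (NN Γ)) {v : Γ} (hv : v < 0) :
    (AddMonoidAlgebra.mapDomainRingHom B (NN Γ).subtype p).coeff v = 0 := by
  show (AddMonoidAlgebra.mapDomain _ p).coeff v = 0
  rw [AddMonoidAlgebra.coeff_mapDomain]
  refine Finsupp.mapDomain_notin_range _ _ ?_
  rintro ⟨x, rfl⟩
  exact absurd x.2 (not_le.2 hv)

omit [GrpObj G] [IsAffine G.left] in
theorem qn_injective : Function.Injective (AddMonoidAlgebra.mapDomainRingHom B (NN Γ).subtype) :=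
  AddMonoidAlgebra.mapDomain_injective Subtype.val_injective

/-- **The criterion for the existence of the limit.** -/
theorem mem_PSub_iff [IsAffine S] {g : pt B f ⟶ G} {s : Set Γ(G.left, ⊤)} (hs : Gens (G := G) s) :
    g ∈ PSub f (Red.DSmap S θ ≫ i) ↔ ∀ a ∈ s, ∀ m, θ m < 0 → rp g (wc i a m) = 0 := by
  classical
  rw [mem_PSub]
  constructor
  · rintro ⟨h, hh⟩ a _ m hm
    have e := congr(rp $hh (wc i a m))
    rw [rp_orb_wc, qn, qd, rp_qm, RingHom.comp_apply] at e
    replace e := congr(($e).coeff (θ m))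
    rw [coeff_qn_neg _ hm, AddMonoidAlgebra.coeff_single, Finsupp.single_eq_same] at e
    exact e.symm
  · intro h
    refine exists_pt_of_range (AddMonoidAlgebra.mapDomainRingHom B (NN Γ).subtype) qn_injective
      (fC := fL f (NN Γ)) (Over.w (qn f Γ)) (orb f (Red.DSmap S θ ≫ i) g) fun a => ?_
    suffices hle : Set.range G.hom.appTop ∪ s ⊆
        (((AddMonoidAlgebra.mapDomainRingHom B (NN Γ).subtype).range).comap
          (rp (orb f (Red.DSmap S θ ≫ i) g)) : Set Γ(G.left, ⊤)) by
      have : a ∈ Subring.closure (Set.range G.hom.appTop ∪ s) := hs ▸ Subring.mem_top a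
      exact Subring.closure_le.2 hle this
    rintro a (⟨r, rfl⟩ | ha)
    · show rp _ _ ∈ RingHom.range _
      rw [rp_hom, scalar_mem_range (AddMonoidAlgebra.mapDomainRingHom B (NN Γ).subtype)
        (fC := fL f (NN Γ)) (fC' := fL f Γ) ?_ r]
      · exact ⟨_, rfl⟩
      · exact Over.w (qn f Γ)
    · show rp _ a ∈ RingHom.range _
      rw [rp_orb]
      refine Subring.sum_mem _ fun m _ => ?_
      rcases lt_or_ge (θ m) 0 with hm | hm
      · rw [h a ha m hm, AddMonoidAlgebra.single_zero]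
        exact Subring.zero_mem _
      · exact ⟨AddMonoidAlgebra.single ⟨θ m, hm⟩ (rp g (wc i a m)), AddMonoidAlgebra.mapDomain_single⟩

/-- **The criterion for the limit to be one.** -/
theorem mem_USub_iff [IsAffine S] {g : pt B f ⟶ G} {s : Set Γ(G.left, ⊤)} (hs : Gens (G := G) s) :
    g ∈ USub f (Red.DSmap S θ ≫ i) ↔ g ∈ PSub f (Red.DSmap S θ ≫ i) ∧
      ∀ a ∈ s, ∀ m, θ m = 0 → rp g (wc i a m) = rp (1 : pt B f ⟶ G) (wc i a m) := by
  classical
  have key : ∀ (h : pt (AddMonoidAlgebra B (NN Γ)) (fL f (NN Γ)) ⟶ G),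
      qn f Γ ≫ h = orb f (Red.DSmap S θ ≫ i) g → ∀ a, rp (qz f Γ ≫ h) a =
        ∑ m ∈ wts i a, if θ m = 0 then rp g (wc i a m) else 0 := by
    intro h hh a
    have e := congr(rp $hh a)
    rw [rp_orb, qn, qd, rp_qm, RingHom.comp_apply] at e
    have e0 := congr(($e).coeff 0)
    rw [AddMonoidAlgebra.coeff_sum, Finset.sum_apply'] at e0
    simp only [AddMonoidAlgebra.coeff_single, Finsupp.single_apply] at e0
    rw [← e0, qz, rp_qm, RingHom.comp_apply]
    generalize rp h a = p
    induction p using AddMonoidAlgebra.induction_linear with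
    | zero => simp
    | add p q hp hq => simp only [map_add, hp, hq, AddMonoidAlgebra.coeff_add, Finsupp.add_apply]
    | single n b =>
      rw [z0_single]
      show _ = (AddMonoidAlgebra.mapDomain _ _).coeff 0
      rw [AddMonoidAlgebra.mapDomain_single, AddMonoidAlgebra.coeff_single, Finsupp.single_apply]
      rfl
  constructor
  · intro hg
    obtain ⟨h, h0, hh⟩ := (mem_USub _ _).1 hg
    refine ⟨USub_le_PSub _ _ hg, fun a _ m hm => ?_⟩
    have hw : ∀ n, wc i (wc i a m) n = if n = m then wc i a m else 0 := fun n => by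
      show (gr i (wc i a m)).coeff (Multiplicative.ofAdd n) = _
      rw [gr_wc, MonoidAlgebra.coeff_single, Finsupp.single_apply]
      simp only [EmbeddingLike.apply_eq_iff_eq, eq_comm (a := n)]
    have e := key h hh (wc i a m)
    rw [h0, Finset.sum_eq_single m (fun n _ hn => by rw [hw, if_neg hn]; simp)
      (fun hm' => by rw [wc_eq_zero_of_notMem i hm']; simp), hw, if_pos rfl, if_pos hm] at e
    exact e.symm
  · rintro ⟨hP, h⟩
    obtain ⟨x, hx⟩ := (mem_PSub _ _).1 hP
    refine (mem_USub _ _).2 ⟨x, rp_ext ?_, hx⟩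
    suffices hle : Set.range G.hom.appTop ∪ s ⊆
        (RingHom.eqLocus (rp (qz f Γ ≫ x)) (rp (1 : pt B f ⟶ G)) : Set Γ(G.left, ⊤)) by
      refine RingHom.ext fun a => ?_
      have : a ∈ Subring.closure (Set.range G.hom.appTop ∪ s) := hs ▸ Subring.mem_top a
      exact Subring.closure_le.2 hle this
    rintro a (⟨r, rfl⟩ | ha)
    · show rp _ _ = rp _ _
      rw [rp_hom, rp_hom]
    · show rp _ a = rp _ a
      rw [key x hx a]
      conv_rhs => rw [← sum_wc i a, map_sum]
      refine Finset.sum_congr rfl fun m _ => ?_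
      by_cases hm : θ m = 0
      · rw [if_pos hm, h a ha m hm]
      · rw [if_neg hm, rp_one_wc i a (fun e => hm (by rw [e, map_zero]))]

theorem exists_finite_gens [IsAffine S] [LocallyOfFiniteType G.hom] :
    ∃ s : Finset Γ(G.left, ⊤), Gens (G := G) (s : Set Γ(G.left, ⊤)) := by
  have hft : (G.hom.appTop.hom).FiniteType :=
    (HasRingHomProperty.iff_of_isAffine (P := @LocallyOfFiniteType)).1 inferInstance
  letI : Algebra Γ(S, ⊤) Γ(G.left, ⊤) := G.hom.appTop.hom.toAlgebra
  obtain ⟨gens, hgens⟩ := (show Algebra.FiniteType Γ(S, ⊤) Γ(G.left, ⊤) from hft).out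
  refine ⟨gens, ?_⟩
  have h := congrArg Subalgebra.toSubring hgens
  rw [Algebra.top_toSubring, Algebra.adjoin_eq_ring_closure] at h
  exact h

end

end Groth.Agent.DynPar
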