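import Groth.Agent.DynPar.Sub
import Groth.Agent.InfLift.SchemeSmallExt
import Groth.Agent.MTBridge.Transporter
import Groth.Agent.LimDesc.FPCancel

/-!
# The subgroup with a limit is the semi-direct product of the centraliser and the contracted subgroup
-/

set_option autoImplicit false
set_option linter.style.haveILetI false
set_option backward.isDefEq.respectTransparency false
set_option maxHeartbeats 1000000
set_option synthInstance.maxHeartbeats 400000

universe u

open CategoryTheory Limits MonoidalCategory CartesianMonoidalCategory MonObj AlgebraicGeometry LieS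
open scoped CategoryTheory.Obj

noncomputable section

namespace Groth.Agent.DynPar

open Groth.Agent.HomDiag

/-- Morphisms agreeing on all affine points agree. -/
theorem hom_ext_pts {S : Scheme.{u}} {X Y : Over S} (a b : X ⟶ Y)
    (h : ∀ (B : Type u) [CommRing B] (f : Spec (CommRingCat.of B) ⟶ S) (y : pt B f ⟶ X), y ≫ a = y ≫ b) :
    a = b :=
  Over.OverMorphism.ext (X.left.affineOpenCover.openCover.hom_ext _ _ fun i =>
    congrArg CommaMorphism.left
      (h _ (X.left.affineOpenCover.f i ≫ X.hom) (Over.homMk (X.left.affineOpenCover.f i) rfl)))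

/-- A natural assignment on affine points is a morphism. -/
theorem exists_hom_of_pts {S : Scheme.{u}} {X Y : Over S}
    (F : ∀ (B : Type u) [CommRing B] (f : Spec (CommRingCat.of B) ⟶ S), (pt B f ⟶ X) → (pt B f ⟶ Y))
    (hF : ∀ (B B' : Type u) [CommRing B] [CommRing B'] (f : Spec (CommRingCat.of B) ⟶ S)
      (f' : Spec (CommRingCat.of B') ⟶ S) (h : B →+* B') (hf : Spec.map (CommRingCat.ofHom h) ≫ f = f')
      (y : pt B f ⟶ X), F B' f' (qm h hf ≫ y) = qm h hf ≫ F B f y) :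
    ∃ φ : X ⟶ Y, ∀ (B : Type u) [CommRing B] (f : Spec (CommRingCat.of B) ⟶ S) (y : pt B f ⟶ X),
      y ≫ φ = F B f y := by
  have hF' : ∀ (B B' : Type u) [CommRing B] [CommRing B'] (f : Spec (CommRingCat.of B) ⟶ S)
      (f' : Spec (CommRingCat.of B') ⟶ S) (q : pt B' f' ⟶ pt B f) (y : pt B f ⟶ X),
      F B' f' (q ≫ y) = q ≫ F B f y := by
    intro B B' _ _ f f' q y
    obtain ⟨h, hf, rfl⟩ := eq_qm q
    exact hF B B' f f' h hf y
  let 𝒰 := X.left.affineOpenCover
  let fi : ∀ i, Spec (𝒰.X i) ⟶ S := fun i => 𝒰.f i ≫ X.hom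
  let yi : ∀ i, pt (𝒰.X i) (fi i) ⟶ X := fun i => Over.homMk (𝒰.f i) rfl
  let zi : ∀ i, Spec (𝒰.X i) ⟶ Y.left := fun i => (F _ (fi i) (yi i)).left
  have hcompat : ∀ i k, pullback.fst (𝒰.f i) (𝒰.f k) ≫ zi i = pullback.snd (𝒰.f i) (𝒰.f k) ≫ zi k := by
    intro i k
    refine (pullback (𝒰.f i) (𝒰.f k)).affineOpenCover.openCover.hom_ext _ _ fun w => ?_
    let v := (pullback (𝒰.f i) (𝒰.f k)).affineOpenCover.f w
    let fw := (v ≫ pullback.fst (𝒰.f i) (𝒰.f k)) ≫ fi i
    let a : pt _ fw ⟶ pt _ (fi i) := Over.homMk (v ≫ pullback.fst (𝒰.f i) (𝒰.f k)) rfl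
    let b : pt _ fw ⟶ pt _ (fi k) := Over.homMk (v ≫ pullback.snd (𝒰.f i) (𝒰.f k)) (by
      show (v ≫ pullback.snd _ _) ≫ 𝒰.f k ≫ X.hom = (v ≫ pullback.fst _ _) ≫ 𝒰.f i ≫ X.hom
      rw [Category.assoc, Category.assoc, pullback.condition_assoc])
    have hab : a ≫ yi i = b ≫ yi k := Over.OverMorphism.ext (by
      show (v ≫ pullback.fst _ _) ≫ 𝒰.f i = (v ≫ pullback.snd _ _) ≫ 𝒰.f k
      rw [Category.assoc, Category.assoc, pullback.condition])
    have e : a ≫ F _ (fi i) (yi i) = b ≫ F _ (fi k) (yi k) := by rw [← hF', ← hF', hab]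
    exact (Category.assoc _ _ _).symm.trans ((congrArg CommaMorphism.left e).trans (Category.assoc _ _ _))
  let m : X.left ⟶ Y.left := 𝒰.openCover.glueMorphisms zi hcompat
  have hm : ∀ i, 𝒰.f i ≫ m = zi i := 𝒰.openCover.ι_glueMorphisms zi hcompat
  have hw : m ≫ Y.hom = X.hom := 𝒰.openCover.hom_ext _ _ fun i => by
    show 𝒰.f i ≫ m ≫ Y.hom = 𝒰.f i ≫ X.hom
    rw [reassoc_of% (hm i)]
    exact Over.w (F _ (fi i) (yi i))
  refine ⟨Over.homMk m hw, fun B _ f y => ?_⟩
  refine Over.OverMorphism.ext ?_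
  refine Scheme.Cover.hom_ext (𝒰.openCover.pullback₁ y.left) _ _ fun i => ?_
  refine (pullback y.left (𝒰.f i)).affineOpenCover.openCover.hom_ext _ _ fun w => ?_
  let v := (pullback y.left (𝒰.f i)).affineOpenCover.f w
  let fw := (v ≫ pullback.fst y.left (𝒰.f i)) ≫ f
  let a : pt _ fw ⟶ pt B f := Over.homMk (v ≫ pullback.fst y.left (𝒰.f i)) rfl
  let b : pt _ fw ⟶ pt _ (fi i) := Over.homMk (v ≫ pullback.snd y.left (𝒰.f i)) (by
    show (v ≫ pullback.snd _ _) ≫ 𝒰.f i ≫ X.hom = (v ≫ pullback.fst _ _) ≫ f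
    rw [Category.assoc, Category.assoc, ← pullback.condition_assoc]
    congr 2
    exact Over.w y)
  have hab : a ≫ y = b ≫ yi i := Over.OverMorphism.ext (by
    show (v ≫ pullback.fst _ _) ≫ y.left = (v ≫ pullback.snd _ _) ≫ 𝒰.f i
    rw [Category.assoc, Category.assoc, pullback.condition])
  have e : (a ≫ y) ≫ Over.homMk m hw = a ≫ F B f y := by
    rw [← hF', hab, hF', Category.assoc]
    congr 1
    exact Over.OverMorphism.ext (hm i)
  show v ≫ pullback.fst _ _ ≫ y.left ≫ m = v ≫ pullback.fst _ _ ≫ (F B f y).left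
  have e' := congrArg CommaMorphism.left e
  simp only [Over.comp_left, Over.homMk_left, Category.assoc] at e'
  exact e'

variable {S : Scheme.{u}} {G : Over S} [GrpObj G] [IsAffineHom G.hom] {Γ : Type} [AddCommGroup Γ]
  [LinearOrder Γ] [IsOrderedAddMonoid Γ] {c : Red.DS S Γ ⟶ G}
  {B B' : Type u} [CommRing B] [CommRing B'] {f : Spec (CommRingCat.of B) ⟶ S}

theorem qn_ext {a b : pt (AddMonoidAlgebra B (NN Γ)) (fL f (NN Γ)) ⟶ G} (h : qn f Γ ≫ a = qn f Γ ≫ b) :
    a = b := by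
  have e : (fL (𝟙 (Spec (CommRingCat.of B))) (NN Γ)) ≫ f = fL f (NN Γ) :=
    fL_comp f (Category.id_comp f) (NN Γ)
  refine (upEquiv f e).injective ?_
  show down f e a = down f e b
  refine pt_ext (AddMonoidAlgebra.mapDomainRingHom B (NN Γ).subtype) qn_injective
    (Over.w (qn (𝟙 (Spec (CommRingCat.of B))) Γ)) ?_
  show qn _ Γ ≫ _ = qn _ Γ ≫ _
  rw [← qn_down f (Category.id_comp f), ← qn_down f (Category.id_comp f), h]

open Classical in
/-- The limit of a point. -/
def lim (c : Red.DS S Γ ⟶ G) (g : pt B f ⟶ G) : pt B f ⟶ G :=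
  if hg : g ∈ PSub f c then qz f Γ ≫ ((mem_PSub f c).1 hg).choose else 1

theorem lim_eq {g : pt B f ⟶ G} {h : pt (AddMonoidAlgebra B (NN Γ)) (fL f (NN Γ)) ⟶ G}
    (hh : qn f Γ ≫ h = orb f c g) : lim c g = qz f Γ ≫ h := by
  have hg : g ∈ PSub f c := (mem_PSub f c).2 ⟨h, hh⟩
  rw [lim, dif_pos hg, qn_ext (((mem_PSub f c).1 hg).choose_spec.trans hh.symm)]

theorem lim_mul {g₁ g₂ : pt B f ⟶ G} (h₁ : g₁ ∈ PSub f c) (h₂ : g₂ ∈ PSub f c) :
    lim c (g₁ * g₂) = lim c g₁ * lim c g₂ := by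
  obtain ⟨a, ha⟩ := (mem_PSub f c).1 h₁
  obtain ⟨b, hb⟩ := (mem_PSub f c).1 h₂
  rw [lim_eq ha, lim_eq hb, lim_eq (h := a * b) (by rw [MonObj.comp_mul, ha, hb, map_mul]), MonObj.comp_mul]

theorem lim_one : lim c (1 : pt B f ⟶ G) = 1 := by
  rw [lim_eq (h := 1) (by rw [MonObj.comp_one, map_one]), MonObj.comp_one]

theorem lim_inv {g : pt B f ⟶ G} (hg : g ∈ PSub f c) : lim c g⁻¹ = (lim c g)⁻¹ := by
  refine eq_inv_of_mul_eq_one_left ?_
  rw [← lim_mul (inv_mem hg) hg, inv_mul_cancel, lim_one]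

theorem qm_lim {f' : Spec (CommRingCat.of B') ⟶ S} (h : B →+* B')
    (hf : Spec.map (CommRingCat.ofHom h) ≫ f = f') {g : pt B f ⟶ G} (hg : g ∈ PSub f c) :
    lim c (qm h hf ≫ g) = qm h hf ≫ lim c g := by
  obtain ⟨a, ha⟩ := (mem_PSub f c).1 hg
  rw [lim_eq ha, lim_eq (h := qr f (NN Γ) h hf ≫ a) (by
    rw [← qr_orb f c h hf, ← ha, ← Category.assoc, ← Category.assoc]
    exact congrArg (· ≫ a) (qr_qd f h _ hf).symm), ← Category.assoc, ← Category.assoc, qr_qz]

theorem lim_of_mem_ZSub {g : pt B f ⟶ G} (hg : g ∈ ZSub f c) : lim c g = g := by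
  rw [lim_eq (h := qc (NN Γ) f ≫ g) (by rw [← Category.assoc, qn_qc, (mem_ZSub f c).1 hg]),
    ← Category.assoc, qz_qc, Category.id_comp]

theorem mem_USub_iff_lim {g : pt B f ⟶ G} : g ∈ USub f c ↔ g ∈ PSub f c ∧ lim c g = 1 := by
  constructor
  · intro hg
    obtain ⟨h, h0, hh⟩ := (mem_USub f c).1 hg
    exact ⟨USub_le_PSub f c hg, by rw [lim_eq hh, h0]⟩
  · rintro ⟨hP, h1⟩
    obtain ⟨h, hh⟩ := (mem_PSub f c).1 hP
    exact (mem_USub f c).2 ⟨h, by rw [← lim_eq hh, h1], hh⟩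

omit [IsAffineHom G.hom] [LinearOrder Γ] [IsOrderedAddMonoid Γ] in
theorem wc_wc {M : Type} [AddCommGroup M] [IsAffine G.left] (i : Red.DS S M ⟶ G) [IsMonHom i]
    (a : Γ(G.left, ⊤)) (m n : M) [Decidable (n = m)] :
    wc i (wc i a m) n = if n = m then wc i a m else 0 := by
  classical
  show (gr i (wc i a m)).coeff (Multiplicative.ofAdd n) = _
  rw [gr_wc, MonoidAlgebra.coeff_single, Finsupp.single_apply]
  split_ifs with h1 h2 h2 <;> first | rfl | exact absurd (Multiplicative.ofAdd.injective h1).symm h2 | exact absurd (congrArg Multiplicative.ofAdd h2.symm) h1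

theorem rp_lim [IsMonHom c] [IsAffine S] [IsAffine G.left] {g : pt B f ⟶ G} (hg : g ∈ PSub f c)
    (a : Γ(G.left, ⊤)) : rp (lim c g) a = rp g (wc c a 0) := by
  classical
  obtain ⟨h, hh⟩ := (mem_PSub f c).1 hg
  rw [lim_eq hh, qz, rp_qm, RingHom.comp_apply]
  have e0 : (rp (orb f c g) a).coeff 0 = rp g (wc c a 0) := by
    conv_lhs => rw [← Category.id_comp c, ← DSmap_id]
    rw [rp_orb, AddMonoidAlgebra.coeff_sum, Finset.sum_apply']
    simp only [AddMonoidAlgebra.coeff_single, Finsupp.single_apply, AddMonoidHom.id_apply]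
    rw [Finset.sum_ite_eq']
    split_ifs with hm
    · rfl
    · rw [wc_eq_zero_of_notMem _ hm, map_zero]
  rw [← e0, ← hh, qn, qd, rp_qm, RingHom.comp_apply]
  generalize rp h a = p
  induction p using AddMonoidAlgebra.induction_linear with
  | zero => simp
  | add p q hp hq => simp only [map_add, hp, hq, AddMonoidAlgebra.coeff_add, Finsupp.add_apply]
  | single n b =>
    rw [z0_single]
    show _ = (AddMonoidAlgebra.mapDomain _ _).coeff 0
    rw [AddMonoidAlgebra.mapDomain_single, AddMonoidAlgebra.coeff_single, Finsupp.single_apply]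
    rfl

variable [IsMonHom c]

theorem down_lim {S' : Scheme.{u}} (j : S' ⟶ S) [IsAffineHom (Red.bc j G).hom]
    {fa : Spec (CommRingCat.of B) ⟶ S'} (e : fa ≫ j = f) {g : pt B f ⟶ G} (hg : g ∈ PSub f c) :
    down j e (lim c g) = lim (bcHom' j c) (down j e g) := by
  obtain ⟨h, hh⟩ := (mem_PSub f c).1 hg
  rw [lim_eq hh, qz_down j e, lim_eq (h := down j (fL_comp j e (NN Γ)) h)
    (by rw [← qn_down j e, hh, down_orb])]

theorem lim_mem_ZSub {g : pt B f ⟶ G} (hg : g ∈ PSub f c) : lim c g ∈ ZSub f c := by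
  classical
  haveI : IsAffineHom (Red.bc f G).hom := inferInstanceAs (IsAffineHom (pullback.snd G.hom f))
  rw [mem_ZSub_down f (Category.id_comp f) c, down_lim f (Category.id_comp f) hg]
  have hg' : down f (Category.id_comp f) g ∈ PSub (𝟙 _) (bcHom' f c) := (mem_PSub_down f _ c).1 hg
  have h := mem_ZSub_iff (bcHom' f c) (AddMonoidHom.id Γ)
    (g := lim (bcHom' f c) (down f (Category.id_comp f) g)) gens_univ
  rw [DSmap_id, Category.id_comp] at h
  refine h.2 fun a _ m hm => ?_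
  rw [rp_lim hg', wc_wc, if_neg (fun e : (0 : Γ) = m => hm e.symm), map_zero]

theorem decomp {g : pt B f ⟶ G} (hg : g ∈ PSub f c) : (lim c g)⁻¹ * g ∈ USub f c := by
  have hz := ZSub_le_PSub f c (lim_mem_ZSub hg)
  refine mem_USub_iff_lim.2 ⟨mul_mem (inv_mem hz) hg, ?_⟩
  rw [lim_mul (inv_mem hz) hg, lim_inv hz, lim_of_mem_ZSub (lim_mem_ZSub hg), inv_mul_cancel]

theorem lim_mul_of_mem {z u : pt B f ⟶ G} (hz : z ∈ ZSub f c) (hu : u ∈ USub f c) : lim c (z * u) = z := by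
  rw [lim_mul (ZSub_le_PSub f c hz) (USub_le_PSub f c hu), lim_of_mem_ZSub hz, (mem_USub_iff_lim.1 hu).2,
    _root_.mul_one]

/-- The family of fixed points. -/
def ZFam (c : Red.DS S Γ ⟶ G) : Fam G := fun B _ f => ZSub (B := B) f c

omit [IsAffineHom G.hom] [LinearOrder Γ] [IsOrderedAddMonoid Γ] [IsMonHom c] in
theorem inF_ZFam_iff {X : Over S} (g : X ⟶ G) :
    InF (ZFam c) g ↔ ∀ (X' : Over S) (x : X' ⟶ X) (h : X' ⟶ Red.DS S Γ),
      (x ≫ g) * (h ≫ c) = (h ≫ c) * (x ≫ g) := by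
  constructor
  · intro hg X' x h
    refine hom_ext_pts _ _ fun B _ f y => ?_
    have h1 := (mem_ZSub_iff_commute f c).1 (hg B f (y ≫ x)) B f (𝟙 _) (y ≫ h)
    simp only [Category.id_comp, Category.assoc] at h1
    rw [MonObj.comp_mul, MonObj.comp_mul]
    exact h1
  · intro hg B _ f y
    exact (mem_ZSub_iff_commute f c).2 fun B' _ f' x h => by
      rw [← Category.assoc]
      exact hg _ (x ≫ y) h

omit [IsAffineHom G.hom] [LinearOrder Γ] [IsOrderedAddMonoid Γ] [IsMonHom c] in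
theorem mem_ZSub_of_centralizer {Z : Over S} [GrpObj Z] {z : Z ⟶ G} (hz : Red.IsCentralizerOf c z)
    (y : pt B f ⟶ Z) : y ≫ z ∈ ZSub f c := by
  have h := (inF_ZFam_iff (c := c) (y ≫ z)).2 ((hz.2.2 _ _).1 ⟨y, rfl⟩) B f (𝟙 _)
  rwa [Category.id_comp] at h

omit [IsAffineHom G.hom] [LinearOrder Γ] [IsOrderedAddMonoid Γ] [IsMonHom c] in
theorem exists_centralizer_lift {Z : Over S} [GrpObj Z] {z : Z ⟶ G} (hz : Red.IsCentralizerOf c z)
    {g : pt B f ⟶ G} (hg : g ∈ ZSub f c) : ∃ y, y ≫ z = g := by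
  refine (hz.2.2 _ _).2 ((inF_ZFam_iff (c := c) g).1 fun B' _ f' y => ?_)
  obtain ⟨h, hf, rfl⟩ := eq_qm y
  exact (mem_ZSub_iff_commute f' c).2 fun B'' _ f'' x v => by
    rw [← Category.assoc]
    exact (mem_ZSub_iff_commute f c).1 hg B'' f'' (x ≫ qm h hf) v

/-- The maps of the Levi decomposition. -/
structure LeviData {P U Z : Over S} [GrpObj P] [GrpObj U] [GrpObj Z] (p : P ⟶ G) (u : U ⟶ G) (z : Z ⟶ G) where
  /-- the inclusion of the centraliser -/
  l : Z ⟶ P
  /-- the inclusion of the contracted subgroup -/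
  iu : U ⟶ P
  /-- the limit -/
  r : P ⟶ Z
  /-- the contracted part -/
  s : P ⟶ U
  l_p : l ≫ p = z
  iu_p : iu ≫ p = u
  l_hom : IsMonHom l
  iu_hom : IsMonHom iu
  r_hom : IsMonHom r
  l_r : l ≫ r = 𝟙 Z
  iu_r : iu ≫ r = 1
  iu_s : iu ≫ s = 𝟙 U
  rs : (r ≫ l) * (s ≫ iu) = 𝟙 P
  iso : IsIso ((l ⊗ₘ iu) ≫ μ)
  lim_spec : ∀ (B : Type u) [CommRing B] (f : Spec (CommRingCat.of B) ⟶ S) (y : pt B f ⟶ P),
    y ≫ r ≫ z = lim c (y ≫ p)

/-- **The Levi decomposition.** -/
theorem exists_leviData {P U Z : Over S} [GrpObj P] [GrpObj U] [GrpObj Z] {p : P ⟶ G} {u : U ⟶ G}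
    {z : Z ⟶ G} (hp : IsP c p) (hu : IsU c u) (hz : Red.IsCentralizerOf c z) :
    Nonempty (LeviData (c := c) p u z) := by
  obtain ⟨hpm, hpc, hpX⟩ := hp
  obtain ⟨hum, huc, huX⟩ := hu
  haveI := hz.1
  haveI := hz.2.1
  haveI := hpm
  haveI := hum
  haveI : Mono p := (Over.forget S).mono_of_mono_map (inferInstanceAs (Mono p.left))
  haveI : Mono u := (Over.forget S).mono_of_mono_map (inferInstanceAs (Mono u.left))
  obtain ⟨l, hl⟩ := (hpX _ z).2 fun B _ f y => ZSub_le_PSub f c (mem_ZSub_of_centralizer hz y)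
  obtain ⟨iu, hiu⟩ := (hpX _ u).2 fun B _ f y =>
    USub_le_PSub f c (((huX _ u).1 ⟨𝟙 _, Category.id_comp u⟩) B f y)
  have hP : ∀ (B : Type u) [CommRing B] (f : Spec (CommRingCat.of B) ⟶ S) (y : pt B f ⟶ P),
      y ≫ p ∈ PSub f c := fun B _ f y => ((hpX _ p).1 ⟨𝟙 _, Category.id_comp p⟩) B f y
  have hU : ∀ (B : Type u) [CommRing B] (f : Spec (CommRingCat.of B) ⟶ S) (y : pt B f ⟶ U),
      y ≫ u ∈ USub f c := fun B _ f y => ((huX _ u).1 ⟨𝟙 _, Category.id_comp u⟩) B f y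
  choose rf hrf using fun (B : Type u) [CommRing B] (f : Spec (CommRingCat.of B) ⟶ S) (y : pt B f ⟶ P) =>
    exists_centralizer_lift hz (lim_mem_ZSub (hP B f y))
  obtain ⟨r, hr⟩ := exists_hom_of_pts rf fun B B' _ _ f f' h hf y => by
    rw [← cancel_mono z, Category.assoc, hrf, hrf, Category.assoc, qm_lim h hf (hP B f y)]
  choose sf hsf using fun (B : Type u) [CommRing B] (f : Spec (CommRingCat.of B) ⟶ S) (y : pt B f ⟶ P) =>
    (huX _ ((lim c (y ≫ p))⁻¹ * (y ≫ p))).2 ((inF_pt (UFam_stable c) _).2 (decomp (hP B f y)))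
  obtain ⟨s, hs⟩ := exists_hom_of_pts sf fun B B' _ _ f f' h hf y => by
    rw [← cancel_mono u, Category.assoc, hsf, hsf, Category.assoc, qm_lim h hf (hP B f y), MonObj.comp_mul,
      GrpObj.comp_inv]
  have hlim : ∀ (B : Type u) [CommRing B] (f : Spec (CommRingCat.of B) ⟶ S) (y : pt B f ⟶ P),
      y ≫ r ≫ z = lim c (y ≫ p) := fun B _ f y => by rw [← Category.assoc, hr, hrf]
  have hsu : ∀ (B : Type u) [CommRing B] (f : Spec (CommRingCat.of B) ⟶ S) (y : pt B f ⟶ P),
      y ≫ s ≫ u = (lim c (y ≫ p))⁻¹ * (y ≫ p) := fun B _ f y => by rw [← Category.assoc, hs, hsf]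
  haveI hlh : IsMonHom l := isMonHom_of_mul l fun X a b => by
    rw [← cancel_mono p, Category.assoc, hl, MonObj.mul_comp, MonObj.mul_comp, Category.assoc, Category.assoc, hl]
  haveI hiuh : IsMonHom iu := isMonHom_of_mul iu fun X a b => by
    rw [← cancel_mono p, Category.assoc, hiu, MonObj.mul_comp, MonObj.mul_comp, Category.assoc, Category.assoc, hiu]
  haveI hrh : IsMonHom r := isMonHom_of_mul r fun X a b => by
    rw [← cancel_mono z]
    refine hom_ext_pts _ _ fun B _ f y => ?_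
    rw [Category.assoc (a * b), ← Category.assoc y (a * b), hlim, Category.assoc y (a * b) p,
      MonObj.mul_comp _ _ p, MonObj.comp_mul, lim_mul (by rw [← Category.assoc]; exact hP B f _)
        (by rw [← Category.assoc]; exact hP B f _), MonObj.mul_comp _ _ z, MonObj.comp_mul]
    rw [← Category.assoc y a p, ← Category.assoc y b p, ← hlim, ← hlim]
    simp only [Category.assoc]
  have hlr : l ≫ r = 𝟙 Z := by
    rw [← cancel_mono z, Category.assoc, Category.id_comp]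
    refine hom_ext_pts _ _ fun B _ f y => ?_
    rw [← Category.assoc, hlim, Category.assoc, hl, lim_of_mem_ZSub (mem_ZSub_of_centralizer hz y)]
  have hir : iu ≫ r = 1 := by
    rw [← cancel_mono z, Category.assoc, show (1 : U ⟶ Z) ≫ z = 1 from (IsMonHom.monoidHom z U).map_one]
    refine hom_ext_pts _ _ fun B _ f y => ?_
    rw [← Category.assoc, hlim, Category.assoc, hiu, (mem_USub_iff_lim.1 (hU B f y)).2, MonObj.comp_one]
  have his : iu ≫ s = 𝟙 U := by
    rw [← cancel_mono u, Category.assoc, Category.id_comp]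
    refine hom_ext_pts _ _ fun B _ f y => ?_
    rw [← Category.assoc, hsu, Category.assoc, hiu, (mem_USub_iff_lim.1 (hU B f y)).2, inv_one, _root_.one_mul]
  have hrs : (r ≫ l) * (s ≫ iu) = 𝟙 P := by
    rw [← cancel_mono p, MonObj.mul_comp, Category.assoc, Category.assoc, hl, hiu, Category.id_comp]
    refine hom_ext_pts _ _ fun B _ f y => ?_
    rw [MonObj.comp_mul, hlim, hsu, mul_inv_cancel_left]
  refine ⟨⟨l, iu, r, s, hl, hiu, hlh, hiuh, hrh, hlr, hir, his, hrs, ⟨⟨lift r s, ?_, ?_⟩⟩, hlim⟩⟩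
  · have hm : (l ⊗ₘ iu) ≫ μ = (fst Z U ≫ l) * (snd Z U ≫ iu) := by
      rw [Hom.mul_def]
      congr 1
    refine CartesianMonoidalCategory.hom_ext _ _ ?_ ?_
    · rw [Category.assoc, lift_fst, Category.id_comp, hm, MonObj.mul_comp, Category.assoc, Category.assoc,
        hlr, hir, Category.comp_id, MonObj.comp_one, _root_.mul_one]
    · rw [Category.assoc, lift_snd, Category.id_comp, ← cancel_mono u]
      refine hom_ext_pts _ _ fun B _ f y => ?_
      rw [Category.assoc, ← Category.assoc y, hsu, hm, MonObj.comp_mul, MonObj.mul_comp, Category.assoc,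
        Category.assoc, Category.assoc, Category.assoc, hl, hiu, ← Category.assoc y (fst _ _),
        ← Category.assoc y (snd _ _), lim_mul_of_mem (mem_ZSub_of_centralizer hz _) (hU B f _),
        inv_mul_cancel_left]
  · rw [lift_map_assoc, ← Hom.mul_def]
    exact hrs

omit [GrpObj G] [IsAffineHom G.hom] in
/-- A retract of a smooth object is smooth. -/
theorem smooth_of_retract {P Z : Over S} (hP : Smooth P.hom) (i : Z ⟶ P) (r : P ⟶ Z) (h : i ≫ r = 𝟙 Z) :
    Smooth Z.hom := by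
  haveI := hP
  haveI : LocallyOfFiniteType (r.left ≫ Z.hom) := by rw [Over.w r]; infer_instance
  haveI : LocallyOfFiniteType r.left := locallyOfFiniteType_of_comp r.left Z.hom
  haveI : LocallyOfFinitePresentation (i.left ≫ r.left) := by
    rw [← Over.comp_left, h, Over.id_left]
    infer_instance
  haveI : LocallyOfFinitePresentation i.left := LimDesc.lfp_of_comp i.left r.left
  haveI : LocallyOfFinitePresentation Z.hom := by rw [← Over.w i]; infer_instance
  refine InfLift.smooth_of_isFormallySmoothHom Z.hom fun A _ I hI a b hab => ?_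
  obtain ⟨v, hv1, hv2⟩ := InfLift.isFormallySmoothHom_of_smooth P.hom A I hI (a ≫ i.left) b
    (by rw [Category.assoc, Over.w i]; exact hab)
  refine ⟨v ≫ r.left, ?_, by rw [Category.assoc, Over.w r]; exact hv2⟩
  rw [← Category.assoc, hv1, Category.assoc, ← Over.comp_left, h, Over.id_left, Category.comp_id]

end Groth.Agent.DynPar
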