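import Groth.Agent.DynPar.Parabolic
import Groth.Agent.RedQuot.Radical
import Groth.Agent.Chev.Parabolic
import Groth.Agent.SubGen.CommGeom
import Groth.Agent.ParNorm.Global
import Mathlib.AlgebraicGeometry.IdealSheaf.Functorial

/-!
# Parabolic subgroups with a Levi subgroup from one-parameter subgroups, over any base
-/

set_option autoImplicit false
set_option linter.style.haveILetI false
set_option backward.isDefEq.respectTransparency false
set_option maxHeartbeats 1000000
set_option synthInstance.maxHeartbeats 400000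

universe u

open CategoryTheory Limits MonoidalCategory CartesianMonoidalCategory MonObj AlgebraicGeometry LieS
open scoped CategoryTheory.Obj

noncomputable section

namespace Groth.Agent.DynPar

open Groth.Agent.HomDiag Groth.Agent.MTBridge
open Groth.Agent.SubGen (rpt map_rpt exists_rpt)

/-! ### A unipotent normal subgroup maps trivially to a reductive retract -/

theorem eq_one_of_retract {k : Type u} [Field k] [IsAlgClosed k] {P Z U : Over (Spec (CommRingCat.of k))}
    [GrpObj P] [GrpObj Z] [GrpObj U] (hZ : Red.IsReductiveOver k Z) (l : Z ⟶ P) [IsMonHom l] (r : P ⟶ Z)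
    [IsMonHom r] (hlr : l ≫ r = 𝟙 Z) (u : U ⟶ P) [IsMonHom u] (hn : AlgGrp.IsNormalHom u) [IsAffine U.left]
    [Smooth U.hom] [ConnectedSpace U.left] (hU : Red.HasNoSubtorus k U) : u ≫ r = 1 := by
  obtain ⟨hZa, hZs, hZc, hrad⟩ := hZ
  haveI := hZa; haveI := hZs; haveI := hZc
  haveI : IsAffineHom U.hom := isAffineHom_of_isAffine U.hom
  obtain ⟨R, _, i, g, him, hgm, hic, hRs, hgs, hgi⟩ := Chev.Borel.exists_smooth_image (u ≫ r)
  haveI := him; haveI := hgm; haveI := hic; haveI := hRs; haveI := hgs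
  haveI : IsAffine R.left := isAffine_of_isAffineHom i.left
  haveI : ConnectedSpace R.left := g.left.surjective.connectedSpace g.left.continuous
  haveI : IsAffineHom R.hom := isAffineHom_of_isAffine R.hom
  haveI : IsAffineHom Z.hom := isAffineHom_of_isAffine Z.hom
  haveI : LocallyOfFiniteType R.hom := inferInstance
  haveI : QuasiCompact R.hom := inferInstance
  have hin : AlgGrp.IsNormalHom i := by
    obtain ⟨hc, hs, hred⟩ := UniRad.prod_conn Z R
    haveI := hs; haveI := hred
    let F : Z ⊗ R ⟶ Z := fst Z R * (snd Z R ≫ i) * (fst Z R)⁻¹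
    obtain ⟨m, hm⟩ := Chev.BorelFixed.exists_lift_rp F i fun z => by
      obtain ⟨b, hb⟩ := Chev.Borel.exists_rp_of_mem_range g (z ≫ snd Z R) (g.left.surjective _)
      obtain ⟨b', hb'⟩ := hn _ ((z ≫ fst Z R) ≫ l) b
      refine ⟨rpt (b' ≫ g), ?_⟩
      rw [map_rpt]
      congr 1
      simp only [F, MonObj.comp_mul, GrpObj.comp_inv]
      rw [← Category.assoc z (snd Z R) i, ← hb, Category.assoc, Category.assoc, hgi, ← Category.assoc b' u r, ← hb']
      simp only [MonObj.mul_comp, GrpObj.inv_comp, Category.assoc, hlr, Category.comp_id]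
    intro X a x
    refine ⟨lift a x ≫ m, ?_⟩
    rw [Category.assoc, hm, MonObj.comp_mul, MonObj.comp_mul, GrpObj.comp_inv,
      CartesianMonoidalCategory.lift_snd_assoc, CartesianMonoidalCategory.lift_fst]
  haveI : IsIso R.hom := hrad R i hic hRs inferInstance hin (RedQuot.image_noSubtorus hU g)
  have hg1 : g = toUnit U ≫ η[R] :=
    Over.OverMorphism.ext ((cancel_mono R.hom).1 (by rw [Over.w g, Over.w (toUnit U ≫ η[R])]))
  rw [← hgi, hg1, Category.assoc, IsMonHom.one_hom i, Hom.one_def]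

variable {S : Scheme.{u}} {G : Over S} [GrpObj G] [IsAffineHom G.hom] {Γ : Type} [AddCommGroup Γ] [LinearOrder Γ]
  [IsOrderedAddMonoid Γ] {c : Red.DS S Γ ⟶ G} [IsMonHom c]

omit [GrpObj G] [IsAffineHom G.hom] [IsMonHom c] in
theorem ker_qn_comp {B : Type u} [CommRing B] {f : Spec (CommRingCat.of B) ⟶ S}
    (h : pt (AddMonoidAlgebra B (NN Γ)) (fL f (NN Γ)) ⟶ G) : (qn f Γ ≫ h).left.ker = h.left.ker := by
  have hq : (qn f Γ).left.ker = ⊥ := by
    show (Spec.map (CommRingCat.ofHom (AddMonoidAlgebra.mapDomainRingHom B (NN Γ).subtype))).ker = ⊥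
    apply Scheme.IdealSheafData.ext_of_isAffine
    rw [Scheme.Hom.ker_apply, Scheme.IdealSheafData.ideal_bot, Pi.bot_apply]
    refine (RingHom.injective_iff_ker_eq_bot _).1 fun a b hab => ?_
    have hn := congr($(Scheme.ΓSpecIso_naturality
      (CommRingCat.ofHom (AddMonoidAlgebra.mapDomainRingHom B (NN Γ).subtype))).hom)
    apply (Scheme.ΓSpecIso _).commRingCatIsoToRingEquiv.injective
    apply qn_injective (B := B) (Γ := Γ)
    have ha := congr($hn a)
    have hb := congr($hn b)
    simp only [CommRingCat.hom_comp, RingHom.comp_apply] at ha hb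
    exact ha.symm.trans ((congrArg _ hab).trans hb)
  rw [Over.comp_left, Scheme.Hom.ker_comp, hq, Scheme.IdealSheafData.map_bot]

/-- The limit of a point of a normal closed subgroup stays in it. -/
theorem exists_lim_fac {P U Z U' : Over S} [GrpObj P] [GrpObj U] [GrpObj Z] [GrpObj U'] {p : P ⟶ G} {u : U ⟶ G}
    {z : Z ⟶ G} (hp : IsP c p) (hz : Red.IsCentralizerOf c z) (d : LeviData (c := c) p u z) (u' : U' ⟶ P)
    [IsClosedImmersion u'.left] (hn : AlgGrp.IsNormalHom u') {B : Type u} [CommRing B]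
    {f : Spec (CommRingCat.of B) ⟶ S} (y : pt B f ⟶ U') : ∃ y' : pt B f ⟶ U', y' ≫ u' = y ≫ u' ≫ d.r ≫ d.l := by
  haveI := hp.1; haveI := hp.2.1
  haveI : Mono p := Over.mono_of_mono_left p
  let q := y ≫ u'
  have hq : q ≫ p ∈ PSub f c := hp.exists_fac_iff.1 ⟨q, rfl⟩
  obtain ⟨h, hh⟩ := (mem_PSub f c).1 hq
  -- the orbit lies in the subgroup
  obtain ⟨cz, hcz⟩ := (hz.2.2 _ c).2 fun X' x a => by
    rw [← MonObj.mul_comp, ← MonObj.mul_comp,
      show x * a = a * x from ch_ext fun m => by rw [ch_mul, ch_mul, _root_.mul_comm]]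
  let cU : pt _ (fL f Γ) ⟶ P := xu f Γ ≫ cz ≫ d.l
  have hcU : cU ≫ p = xu f Γ ≫ c := by simp only [cU, Category.assoc, d.l_p, hcz]
  obtain ⟨n', hn'⟩ := hn _ cU (qc Γ f ≫ y)
  have horb : orb f c (q ≫ p) = n' ≫ u' ≫ p := by
    rw [← Category.assoc n', ← hn', orb_apply, MonObj.mul_comp, MonObj.mul_comp, GrpObj.inv_comp, hcU]
    simp only [q, Category.assoc]
  haveI : IsClosedImmersion (u' ≫ p).left := by rw [Over.comp_left]; infer_instance
  obtain ⟨z', hz'⟩ := (exists_fac_iff_ker_le (u' ≫ p).left h.left).2 (by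
    rw [← ker_qn_comp h, hh, horb, Over.comp_left]
    exact (exists_fac_iff_ker_le (u' ≫ p).left _).1 ⟨n'.left, rfl⟩)
  let h' : pt _ (fL f (NN Γ)) ⟶ U' := Over.homMk z' (by
    show z' ≫ U'.hom = _
    rw [← Over.w (u' ≫ p), ← Category.assoc, hz', Over.w h])
  have hh' : h' ≫ u' ≫ p = h := Over.OverMorphism.ext hz'
  refine ⟨qz f Γ ≫ h', ?_⟩
  rw [← cancel_mono p]
  simp only [Category.assoc, hh', d.l_p]
  rw [← Category.assoc y u']
  exact ((d.lim_spec B f q).trans (lim_eq hh)).symm

/-- **The main theorem**: parabolic, with the centraliser as a Levi subgroup. -/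
theorem isParabolic_isLevi (hG : Red.IsReductive G) {P Z : Over S} [GrpObj P] [GrpObj Z] {p : P ⟶ G} {z : Z ⟶ G}
    (hp : IsP c p) (hz : Red.IsCentralizerOf c z) :
    Red.IsParabolic p ∧ ∃ zP : Z ⟶ P, zP ≫ p = z ∧ Par.IsLevi zP := by
  haveI := hp.1; haveI := hp.2.1; haveI := hz.1
  obtain ⟨U, _, u, hu⟩ := exists_isU (G := G) c
  haveI := hu.1; haveI := hu.2.1
  obtain ⟨d⟩ := exists_leviData hp hu hz
  haveI := d.l_hom; haveI := d.iu_hom; haveI := d.r_hom
  have hPs := smooth_isP hG.2.1 c hp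
  obtain ⟨hUs, hZs⟩ := smooth_isU hG.2.1 hp hu hz
  haveI := hPs; haveI := hUs; haveI := hZs
  haveI : IsAffineHom P.hom := by rw [← Over.w p]; infer_instance
  haveI : IsAffineHom U.hom := by rw [← Over.w u]; infer_instance
  haveI : Mono p := Over.mono_of_mono_left p
  haveI : IsClosedImmersion d.iu.left := by
    haveI : IsClosedImmersion (d.iu.left ≫ p.left) := by rw [← Over.comp_left, d.iu_p]; infer_instance
    exact IsClosedImmersion.of_comp d.iu.left p.left
  haveI : Mono d.iu := Over.mono_of_mono_left _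
  haveI : Mono d.l := mono_of_mono_fac d.l_r
  haveI : IsClosedImmersion d.l.left := by
    haveI : IsSeparated (d.r.left ≫ Z.hom) := by rw [Over.w]; infer_instance
    haveI : IsSeparated d.r.left := IsSeparated.of_comp d.r.left Z.hom
    haveI : IsClosedImmersion (d.l.left ≫ d.r.left) := by
      rw [← Over.comp_left, d.l_r, Over.id_left]; infer_instance
    exact IsClosedImmersion.of_comp d.l.left d.r.left
  haveI : IsAffineHom Z.hom := by rw [← Over.w d.l]; infer_instance
  have hconn : ∀ s : S, ConnectedSpace (Red.geomFibre s G).left := fun s => (hG.2.2 s).2.2.1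
  have hfib : ∀ s : S,
      Red.IsParabolicOver (AlgebraicClosure (S.residueField s)) ((Over.pullback (Red.geomPt s)).map p) ∧
        Red.IsReductiveOver (AlgebraicClosure (S.residueField s)) (Red.geomFibre s Z) := fun s =>
    field_parabolic (hG.2.2 s) (bcHom' (Red.geomPt s) c) _ _ (hp.bc _) (centralizer_bc (Red.geomPt s) hz)
  have hZred : Red.IsReductive Z := ⟨inferInstance, inferInstance, fun s => (hfib s).2⟩
  refine ⟨⟨hp.1, hp.2.1, hPs, fun s => (hfib s).1⟩, d.l, d.l_p, inferInstance, inferInstance, hZred, U, inferInstance,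
    d.iu, ⟨inferInstance, inferInstance, ?_, hUs, inferInstance, fun s => ?_, ?_⟩, d.iso⟩
  · -- normality
    intro T g n
    refine ⟨(g * (n ≫ d.iu) * g⁻¹) ≫ d.s, ?_⟩
    have hr : (g * (n ≫ d.iu) * g⁻¹) ≫ d.r = 1 := by
      rw [MonObj.mul_comp, MonObj.mul_comp, GrpObj.inv_comp, Category.assoc, d.iu_r, MonObj.comp_one,
        _root_.mul_one, mul_inv_cancel]
    have h := congrArg ((g * (n ≫ d.iu) * g⁻¹) ≫ ·) d.rs
    rw [MonObj.comp_mul, Category.comp_id, ← Category.assoc _ d.r d.l, hr,
      show (1 : T ⟶ Z) ≫ d.l = 1 from (IsMonHom.monoidHom d.l T).map_one, _root_.one_mul] at h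
    rw [Category.assoc]
    exact h.symm
  · obtain ⟨-, hUc, -, hUn⟩ := geom_fibre hG.2.1 hconn hp hu hz s
    exact ⟨hUc, hUn⟩
  · -- maximality
    intro U' _ u' _ hcl hn hs hqc hfibU
    haveI := hcl; haveI := hs
    haveI : Mono u' := Over.mono_of_mono_left u'
    haveI : IsAffineHom U'.hom := by rw [← Over.w u']; infer_instance
    obtain ⟨ρ, hρ⟩ := exists_hom_of_pts (X := U') (Y := U')
      (fun B _ f y => (exists_lim_fac hp hz d u' hn y).choose) fun B B' _ _ f f' h hf y => by
        rw [← cancel_mono u']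
        refine (exists_lim_fac hp hz d u' hn (qm h hf ≫ y)).choose_spec.trans ?_
        rw [Category.assoc, Category.assoc, (exists_lim_fac hp hz d u' hn y).choose_spec]
    have hρu : ρ ≫ u' = u' ≫ d.r ≫ d.l := hom_ext_pts _ _ fun B _ f y => by
      rw [← Category.assoc y ρ, hρ, (exists_lim_fac hp hz d u' hn y).choose_spec]
    haveI : IsMonHom (u' ≫ d.r ≫ d.l) := inferInstance
    haveI : IsMonHom ρ := MTSplit.isMonHom_of_comp_mono ρ u' _ hρu
    have hρρ : ρ ≫ ρ = ρ := by
      rw [← cancel_mono u', Category.assoc, hρu, reassoc_of% hρu, ← Category.assoc d.l d.r d.l, d.l_r,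
        Category.id_comp]
    let φ : U' ⟶ U' := ρ⁻¹ * 𝟙 U'
    have hφρ : φ ≫ ρ = 1 := by
      rw [MonObj.mul_comp, GrpObj.inv_comp, hρρ, Category.id_comp, inv_mul_cancel]
    haveI : IsIso φ := by
      refine ParNorm.isIso_of_geomPts φ fun s => ?_
      let F := Over.pullback (Red.geomPt s)
      obtain ⟨hc', hn'⟩ := hfibU s
      haveI := hc'
      haveI : Smooth (Red.geomFibre s U').hom :=
        MorphismProperty.pullback_snd (P := @Smooth) U'.hom (Red.geomPt s) hs
      haveI : IsAffineHom (Red.geomFibre s U').hom :=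
        inferInstanceAs (IsAffineHom (pullback.snd U'.hom (Red.geomPt s)))
      haveI : IsAffine (Red.geomFibre s U').left := isAffine_of_isAffineHom (Red.geomFibre s U').hom
      have h1 : F.map u' ≫ F.map d.r = 1 :=
        eq_one_of_retract (hfib s).2 (F.map d.l) (F.map d.r)
          ((F.map_comp _ _).symm.trans (by rw [d.l_r, CategoryTheory.Functor.map_id])) (F.map u')
          (SubGen.isNormalHom_pullback (Red.geomPt s) P u' hn) hn'
      haveI : IsClosedImmersion (F.map u').left := MorphismProperty.overPullbackMap (P := @IsClosedImmersion) _ u' hcl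
      haveI : Mono (F.map u') := Over.mono_of_mono_left _
      have h2 : F.map ρ = 1 := by
        rw [← cancel_mono (F.map u'), ← F.map_comp, hρu, F.map_comp, F.map_comp, ← Category.assoc, h1,
          show (1 : F.obj U' ⟶ F.obj Z) ≫ F.map d.l = 1 from (IsMonHom.monoidHom (F.map d.l) _).map_one]
        exact ((IsMonHom.monoidHom (F.map u') _).map_one).symm
      have h3 : F.map φ = 𝟙 _ := by
        have h4 : ρ * φ = 𝟙 U' := mul_inv_cancel_left ρ _
        have h5 := (F.homMonoidHom (X := U') (M := U')).map_mul ρ φ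
        simp only [Functor.homMonoidHom_apply] at h5
        rw [h4, CategoryTheory.Functor.map_id, h2, _root_.one_mul] at h5
        exact h5.symm
      rw [h3]
      infer_instance
    have hρ1 : ρ = 1 := by
      rw [← cancel_epi φ, hφρ, MonObj.comp_one]
    refine ⟨u' ≫ d.s, ?_⟩
    have h := congrArg (u' ≫ ·) d.rs
    rw [MonObj.comp_mul, Category.comp_id, ← hρu, hρ1,
      show (1 : U' ⟶ U') ≫ u' = 1 from (IsMonHom.monoidHom u' _).map_one, _root_.one_mul] at h
    rw [Category.assoc]
    exact h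

/-- **Existence of the parabolic subgroup of a homomorphism from a diagonalisable group.** -/
theorem exists_parabolic (hG : Red.IsReductive G) {Z : Over S} [GrpObj Z] {z : Z ⟶ G}
    (hz : Red.IsCentralizerOf c z) :
    ∃ (P : Over S) (_ : GrpObj P) (p : P ⟶ G) (zP : Z ⟶ P),
      IsP c p ∧ Red.IsParabolic p ∧ zP ≫ p = z ∧ Par.IsLevi zP := by
  obtain ⟨P, _, p, hp⟩ := exists_isP (G := G) c
  obtain ⟨h1, zP, h2, h3⟩ := isParabolic_isLevi hG hp hz
  exact ⟨P, inferInstance, p, zP, hp, h1, h2, h3⟩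

end Groth.Agent.DynPar
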