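import Groth.Agent.DynPar.LieWt
import Groth.Agent.DynPar.Main

/-!
# Subgroups with the same tangent vectors; uniqueness of the parabolic subgroup of a cocharacter
-/

set_option autoImplicit false
set_option backward.isDefEq.respectTransparency false
set_option linter.style.haveILetI false
set_option maxHeartbeats 1000000
set_option synthInstance.maxHeartbeats 400000

universe u

open CategoryTheory Limits MonoidalCategory CartesianMonoidalCategory MonObj AlgebraicGeometry LieS
open scoped CategoryTheory.Obj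

noncomputable section

namespace Groth.Agent.DynPar

open Groth.Agent.HomDiag Groth.Agent.MTBridge

variable {R : Type u} [CommRing R]

/-- **A smooth closed subgroup of a smooth group with connected fibres and the same Lie algebra is everything.** -/
theorem isIso_of_lie {A H : Over (Spec (CommRingCat.of R))} [GrpObj A] [GrpObj H] (q : A ⟶ H) [IsMonHom q]
    [IsClosedImmersion q.left] (hA : Smooth A.hom) (hH : Smooth H.hom) (hHa : IsAffineHom H.hom)
    (hconn : ∀ s, ConnectedSpace (Red.geomFibre s H).left)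
    (h : ∀ (B : Type u) [CommRing B] [Algebra R B],
      Subgroup.map (LieS.map B (Spec.map (CommRingCat.ofHom (algebraMap R B))) q) ⊤ = ⊤) : IsIso q := by
  haveI := hA; haveI := hH
  have h' : ∀ (B : Type u) [CommRing B] (f : Spec (CommRingCat.of B) ⟶ Spec (CommRingCat.of R)) (a : Lie H B f),
      ∃ w : Lie A B f, LieS.map B f q w = a := by
    intro B _ f
    obtain ⟨φ, rfl⟩ := Spec.map_surjective f
    intro a
    letI : Algebra R B := φ.hom.toAlgebra
    obtain ⟨w, -, hw⟩ := (h B).ge (Subgroup.mem_top a)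
    exact ⟨w, hw⟩
  refine ParNorm.isIso_of_geomPts q fun s => ?_
  haveI := hHa
  haveI := hconn s
  let j := Red.geomPt s
  haveI : IsAffineHom (Red.bc j H).hom := inferInstanceAs (IsAffineHom (pullback.snd H.hom j))
  haveI : IsAffine (Red.bc j H).left := isAffine_of_isAffineHom (Red.bc j H).hom
  haveI : Smooth (Red.bc j H).hom := MorphismProperty.pullback_snd (P := @Smooth) H.hom j hH
  haveI : Smooth (Red.bc j A).hom := MorphismProperty.pullback_snd (P := @Smooth) A.hom j hA
  haveI : IsClosedImmersion ((Over.pullback j).map q).left :=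
    MorphismProperty.overPullbackMap (P := @IsClosedImmersion) j q inferInstance
  haveI : IsMonHom ((Over.pullback j).map q) := isMonHom_map' j q
  let K : Type u := AlgebraicClosure ((Spec (CommRingCat.of R)).residueField s)
  let f0 : Spec (CommRingCat.of K) ⟶ Spec (CommRingCat.of R) := fR K K ≫ j
  refine isIso_of_tan (k := K) (P := Red.bc j A) (H := Red.bc j H) ((Over.pullback j).map q) fun v hv => ?_
  have e : fε K ≫ j = fd f0 := Category.assoc _ _ _
  let a : pt (DualNumber K) (fd f0) ⟶ H := up j e v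
  have hb : Spec.map (CommRingCat.ofHom (TrivSqZeroExt.fstHom K K K).toRingHom) ≫ fd f0 = f0 := Over.w (zeroSec K f0)
  have ha : qm (TrivSqZeroExt.fstHom K K K).toRingHom hb ≫ a = 1 := by
    refine (upEquiv j (rfl : fR K K ≫ j = f0) (G := H)).injective ?_
    show down j _ _ = upEquiv j _ 1
    rw [map_one, qm_down j e rfl _ specMap_fst_fε hb, down_up]
    exact hv
  obtain ⟨w, hw⟩ := h' K f0 ⟨a, ha⟩
  let w' : pt (DualNumber K) (fd f0) ⟶ A := w.1
  refine ⟨down j e w', ?_⟩
  rw [← down_comp]
  show down j e (w' ≫ q) = v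
  rw [show w' ≫ q = a from congrArg Subtype.val hw, down_up]

variable {G : Over (Spec (CommRingCat.of R))} [GrpObj G] {Γ : Type} [AddCommGroup Γ] [LinearOrder Γ]
  [IsOrderedAddMonoid Γ] {c : Red.DS (Spec (CommRingCat.of R)) Γ ⟶ G} [IsMonHom c]

/-- **Uniqueness.** A parabolic subgroup through which the homomorphism factors, with Lie algebra the non-negative
weight spaces, is the group of points with a limit. -/
theorem exists_iso_of_lie (hG : Red.IsReductive G) {Z : Over (Spec (CommRingCat.of R))} [GrpObj Z] {z : Z ⟶ G}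
    (hz : Red.IsCentralizerOf c z) {P : Over (Spec (CommRingCat.of R))} [GrpObj P] {p : P ⟶ G} (hp : IsP c p)
    {Q : Over (Spec (CommRingCat.of R))} [GrpObj Q] {q : Q ⟶ G} [IsMonHom q] (hq : Red.IsParabolic q) (zQ : Z ⟶ Q)
    (hzQ : zQ ≫ q = z)
    (hlie : ∀ (B : Type u) [CommRing B] [Algebra R B],
      Subgroup.map (LieS.map B (Spec.map (CommRingCat.ofHom (algebraMap R B))) q) ⊤ =
        ⨆ d ∈ {d : Γ | 0 ≤ d}, LieWt.weightSpOf c (Red.chi (Spec (CommRingCat.of R)) d) B) :
    ∃ e : Q ≅ P, e.hom ≫ p = q := by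
  haveI := hG.1
  haveI := hG.2.1
  haveI := hp.1; haveI := hp.2.1; haveI := hz.1; haveI := hq.2.1
  haveI : Mono p := Over.mono_of_mono_left p
  haveI : Mono q := Over.mono_of_mono_left q
  haveI : IsAffine G.left := isAffine_of_isAffineHom G.hom
  haveI : IsAffine Q.left := isAffine_of_isAffineHom q.left
  haveI : IsAffineHom Q.hom := isAffineHom_of_isAffine Q.hom
  haveI : IsAffineHom P.hom := by rw [← Over.w p]; infer_instance
  obtain ⟨cz, hcz⟩ := (hz.2.2 _ c).2 fun X' x a => by
    rw [← MonObj.mul_comp, ← MonObj.mul_comp,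
      show x * a = a * x from ch_ext fun m => by rw [ch_mul, ch_mul, _root_.mul_comm]]
  let c₂ : Red.DS (Spec (CommRingCat.of R)) Γ ⟶ Q := cz ≫ zQ
  have hc₂ : c₂ ≫ q = c := by simp only [c₂, Category.assoc, hzQ, hcz]
  haveI : IsMonHom c₂ := MTSplit.isMonHom_of_comp_mono c₂ q c hc₂
  -- the points of the given subgroup have limits
  obtain ⟨P', _, p', hp'⟩ := exists_isP (G := Q) c₂
  haveI := hp'.1; haveI := hp'.2.1
  have hconnQ : ∀ s, ConnectedSpace (Red.geomFibre s Q).left := fun s => by
    haveI : IsAffineHom (Red.geomFibre s G).hom := inferInstanceAs (IsAffineHom (pullback.snd G.hom _))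
    haveI : IsAffine (Red.geomFibre s G).left := isAffine_of_isAffineHom (Red.geomFibre s G).hom
    haveI : Smooth (Red.geomFibre s G).hom := MorphismProperty.pullback_snd (P := @Smooth) G.hom _ hG.2.1
    haveI : ConnectedSpace (Red.geomFibre s G).left := (hG.2.2 s).2.2.1
    exact ParNorm.connectedSpace_parabolic (hq.2.2.2 s)
  haveI : IsIso p' := by
    refine isIso_of_lie p' (smooth_isP hq.2.2.1 c₂ hp') hq.2.2.1 inferInstance hconnQ fun B _ _ => ?_
    refine eq_top_iff.2 fun v _ => ?_
    let v' : pt (DualNumber B) (fd (Spec.map (CommRingCat.ofHom (algebraMap R B)))) ⟶ Q := v.1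
    have h1 : LieS.map B _ q v ∈ Subgroup.map (LieS.map B (Spec.map (CommRingCat.ofHom (algebraMap R B))) p) ⊤ := by
      rw [map_top_eq c hp, ← hlie B]
      exact ⟨v, trivial, rfl⟩
    obtain ⟨y, -, hy⟩ := h1
    have h2 : v' ≫ q ∈ PSub (fd _) c := hp.exists_fac_iff.1 ⟨y.1, congrArg Subtype.val hy⟩
    rw [← hc₂, mem_PSub_comp_iff] at h2
    obtain ⟨x, hx⟩ := hp'.exists_fac_iff.2 h2
    haveI : Mono p' := Over.mono_of_mono_left p'
    refine ⟨⟨x, ?_⟩, trivial, Subtype.ext hx⟩
    show zeroSec B _ ≫ (x : dpt B _ ⟶ P') = 1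
    rw [← cancel_mono p', Category.assoc, MonObj.one_comp]
    exact (congrArg (zeroSec B _ ≫ ·) hx).trans v.2
  obtain ⟨r, hr⟩ := hp.exists_le q fun B _ f y => by
    rw [← hc₂, mem_PSub_comp_iff]
    exact hp'.exists_fac_iff.1 ⟨y ≫ inv p', by rw [Category.assoc, IsIso.inv_hom_id, Category.comp_id]⟩
  haveI : IsMonHom r := MTSplit.isMonHom_of_comp_mono r p q hr
  haveI : IsClosedImmersion r.left := by
    haveI : IsClosedImmersion (r.left ≫ p.left) := by rw [← Over.comp_left, hr]; exact hq.2.1
    exact IsClosedImmersion.of_comp r.left p.left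
  obtain ⟨U, _, u, hu⟩ := exists_isU (G := G) c
  haveI : IsIso r := by
    refine isIso_of_lie r hq.2.2.1 (smooth_isP hG.2.1 c hp) inferInstance
      (fun s => (geom_fibre hG.2.1 (fun t => (hG.2.2 t).2.2.1) hp hu hz s).1) fun B _ _ => ?_
    refine eq_top_iff.2 fun v _ => ?_
    have h1 : LieS.map B _ p v ∈ Subgroup.map (LieS.map B (Spec.map (CommRingCat.ofHom (algebraMap R B))) q) ⊤ := by
      rw [hlie B, ← map_top_eq c hp]
      exact ⟨v, trivial, rfl⟩
    obtain ⟨y, -, hy⟩ := h1
    refine ⟨y, trivial, Subtype.ext ?_⟩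
    show y.1 ≫ r = v.1
    rw [← cancel_mono p, Category.assoc, hr]
    exact congrArg Subtype.val hy
  exact ⟨asIso r, hr⟩

end Groth.Agent.DynPar
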