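import Groth.Agent.DynPar.LieDer
import Groth.Agent.DynPar.Reflect
import Groth.Agent.RootIntrinsic.Tangent
import Groth.Prelude.Def_LieWt

/-!
# Weights of the adjoint action on tangent vectors
-/

set_option autoImplicit false
set_option backward.isDefEq.respectTransparency false
set_option linter.style.haveILetI false
set_option maxHeartbeats 1000000
set_option synthInstance.maxHeartbeats 400000

universe u

open CategoryTheory MonoidalCategory CartesianMonoidalCategory MonObj AlgebraicGeometry LieS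
open scoped CategoryTheory.Obj

noncomputable section

namespace Groth.Agent.DynPar

open Groth.Agent.HomDiag Groth.Agent.MTCentre
open Groth.Agent.DynPar.Der (dv uB pl sG)

variable {R : Type u} [CommRing R] {G : Over (Spec (CommRingCat.of R))} [GrpObj G] [IsAffine G.left]
variable {Γ : Type} [AddCommGroup Γ] (c : Red.DS (Spec (CommRingCat.of R)) Γ ⟶ G) [IsMonHom c]
variable {B B' : Type u} [CommRing B] [CommRing B'] {f : Spec (CommRingCat.of B) ⟶ Spec (CommRingCat.of R)}
  {f' : Spec (CommRingCat.of B') ⟶ Spec (CommRingCat.of R)}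

omit [GrpObj G] in
/-- The ring map of a point, in both notations. -/
theorem rep_left_eq_rp (t : pt B f ⟶ G) : Der.rep (X := G.left) t.left = rp t := by
  refine Der.rep_eq (ext_of_isAffine ?_)
  rw [appTop_specMap_isoSpec_inv, rp, CommRingCat.ofHom_hom, Category.assoc, Iso.hom_inv_id, Category.comp_id]

/-- The structure map of the dual numbers. -/
abbrev fd (f : Spec (CommRingCat.of B) ⟶ Spec (CommRingCat.of R)) :
    Spec (CommRingCat.of (DualNumber B)) ⟶ Spec (CommRingCat.of R) :=
  Spec.map (CommRingCat.ofHom (algebraMap B (DualNumber B))) ≫ f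

/-- The constants of the coordinate ring. -/
theorem sG_eq (x : R) :
    sG G x = G.hom.appTop ((Scheme.ΓSpecIso (CommRingCat.of R)).inv x) := by
  have e : Spec.map (CommRingCat.ofHom (sG G)) =
      Spec.map ((Scheme.ΓSpecIso (CommRingCat.of R)).inv ≫ G.hom.appTop) := by
    rw [Der.specMap_sG, Spec.map_comp, ← Scheme.isoSpec_Spec_inv, Scheme.isoSpec_inv_naturality]
  exact congr($(Spec.map_injective e).hom x)

theorem uB_eq (a : Γ(G.left, ⊤)) : uB G f a = rp (1 : pt B f ⟶ G) a := by
  rw [uB, rep_left_eq_rp]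

theorem rp_vec_fst (v : Lie G B f) (a : Γ(G.left, ⊤)) :
    (rp (v.1 : pt (DualNumber B) (fd f) ⟶ G) a).fst = rp (1 : pt B f ⟶ G) a := by
  rw [← rep_left_eq_rp, ← uB_eq]
  exact Der.rep_fst v a

theorem rp_vec_snd (v : Lie G B f) (a : Γ(G.left, ⊤)) :
    (rp (v.1 : pt (DualNumber B) (fd f) ⟶ G) a).snd = dv v a := by
  rw [← rep_left_eq_rp]
  rfl

theorem dv_zero (v : Lie G B f) : dv v (0 : Γ(G.left, ⊤)) = 0 := by
  have h := Der.dv_add v 0 0
  rw [add_zero] at h
  exact left_eq_add.1 h

theorem dv_sum {I : Type} (s : Finset I) (v : Lie G B f) (a : I → Γ(G.left, ⊤)) :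
    dv v (∑ x ∈ s, a x) = ∑ x ∈ s, dv v (a x) := by
  classical
  induction s using Finset.induction_on with
  | empty => rw [Finset.sum_empty, Finset.sum_empty, dv_zero]
  | insert i s hi ih => rw [Finset.sum_insert hi, Finset.sum_insert hi, Der.dv_add, ih]

/-- **The adjoint action of a point of the diagonalisable group.** -/
theorem dv_Ad (g : pt B f ⟶ Red.DS (Spec (CommRingCat.of R)) Γ) (v : Lie G B f) (a : Γ(G.left, ⊤)) :
    dv (Ad G B f (g ≫ c) v) a = ∑ m ∈ wts c a, chv g (Multiplicative.ofAdd m) * dv v (wc c a m) := by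
  let v' : pt (DualNumber B) (fd f) ⟶ G := v.1
  let x : pt (DualNumber B) (fd f) ⟶ Red.DS (Spec (CommRingCat.of R)) Γ :=
    qm (algebraMap B (DualNumber B)) rfl ≫ g
  have h := (exists_coaction c).choose_spec.1 (pt (DualNumber B) (fd f)) x v'
  have e : ((Ad G B f (g ≫ c) v).1 : pt (DualNumber B) (fd f) ⟶ G) = conjPt c x v' := by
    show ((proj B f ≫ g ≫ c) * v.1 * (proj B f ≫ g ≫ c)⁻¹ : dpt B f ⟶ G) = _
    rw [conjPt, Category.assoc]
    rfl
  rw [← rp_vec_snd, e]
  show ((Scheme.ΓSpecIso (CommRingCat.of (DualNumber B))).hom ((conjPt c x v').left.appTop a)).snd = _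
  rw [show (conjPt c x v').left.appTop a = ev x v' (gr c a) from RingHom.congr_fun h a, gr_eq_sum, map_sum, map_sum,
    TrivSqZeroExt.snd_sum]
  refine Finset.sum_congr rfl fun m _ => ?_
  rw [ev_single, map_mul]
  show (rp v' (wc c a m) * chv x (Multiplicative.ofAdd m)).snd = _
  rw [chv_qm, TrivSqZeroExt.algebraMap_eq_inl', DualNumber.snd_mul]
  simp only [Algebra.algebraMap_self_apply, TrivSqZeroExt.fst_inl, TrivSqZeroExt.snd_inl, mul_zero, zero_add]
  rw [rp_vec_snd, mul_comm]

theorem dv_Ad_wc (g : pt B f ⟶ Red.DS (Spec (CommRingCat.of R)) Γ) (v : Lie G B f) (a : Γ(G.left, ⊤)) (m : Γ) :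
    dv (Ad G B f (g ≫ c) v) (wc c a m) = chv g (Multiplicative.ofAdd m) * dv v (wc c a m) := by
  classical
  rw [dv_Ad, Finset.sum_eq_single m (fun n _ hn => by rw [wc_wc, if_neg hn, dv_zero, mul_zero])
    (fun hm => by rw [wc_eq_zero_of_notMem c hm, dv_zero, mul_zero]), wc_wc, if_pos rfl]

/-- A point of the monoid algebra with the tautological character. -/
theorem exists_taut (f : Spec (CommRingCat.of B) ⟶ Spec (CommRingCat.of R)) :
    ∃ g : pt (AddMonoidAlgebra B Γ) (fL f Γ) ⟶ Red.DS (Spec (CommRingCat.of R)) Γ,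
      ∀ m, chv g (Multiplicative.ofAdd m) = AddMonoidAlgebra.single m (1 : B) := by
  obtain ⟨g, hg⟩ := exists_chv (S := Spec (CommRingCat.of R)) (f := fL f Γ) (AddMonoidAlgebra.of B Γ)
  exact ⟨g, fun m => hg _⟩

/-- **The components of a tangent vector.** -/
theorem exists_comp (v : Lie G B f) (d : Γ) : ∃ u : Lie G B f, ∀ a, dv u a = dv v (wc c a d) := by
  classical
  obtain ⟨g, hg⟩ := exists_taut (Γ := Γ) f
  let h : B →+* AddMonoidAlgebra B Γ := cC B Γ
  let w : Lie G _ (fL f Γ) := Ad G _ (fL f Γ) (g ≫ c) (pl h rfl v)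
  have hu : ∀ a, uB G (fL f Γ) a = AddMonoidAlgebra.single 0 (uB G f a) := fun a => Der.uB_comp h rfl a
  have hw : ∀ a, (dv w a).coeff d = dv v (wc c a d) := fun a => by
    rw [dv_Ad, AddMonoidAlgebra.coeff_sum, Finset.sum_apply']
    have e : ∀ b, dv (pl h rfl v : Lie G _ (fL f Γ)) b = h (dv v b) := fun b => Der.dv_pl h rfl v b
    simp only [hg, e]
    show ∑ m ∈ wts c a, (AddMonoidAlgebra.single m 1 * AddMonoidAlgebra.single 0 (dv v (wc c a m))).coeff d = _
    simp only [AddMonoidAlgebra.single_mul_single, add_zero, _root_.one_mul, AddMonoidAlgebra.coeff_single]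
    rw [Finset.sum_eq_single d (fun n _ hn => by rw [Finsupp.single_eq_of_ne (Ne.symm hn)])
      (fun hd => by rw [wc_eq_zero_of_notMem c hd, dv_zero, Finsupp.single_zero, Finsupp.zero_apply]),
      Finsupp.single_eq_same]
  obtain ⟨u, hu'⟩ := Der.exists_of_der (f := f) (fun a => (dv w a).coeff d)
    (fun a b => by
      show (dv w (a + b)).coeff d = (dv w a).coeff d + (dv w b).coeff d
      rw [Der.dv_add, AddMonoidAlgebra.coeff_add, Finsupp.add_apply])
    (fun a b => by
      show (dv w (a * b)).coeff d = _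
      rw [Der.dv_leibniz, hu, hu, AddMonoidAlgebra.coeff_add, Finsupp.add_apply,
        AddMonoidAlgebra.coeff_single_zero_mul, AddMonoidAlgebra.coeff_mul_single_zero])
    (fun x => by
      show (dv w (sG G x)).coeff d = 0
      rw [Der.dv_sG]
      rfl)
  exact ⟨u, fun a => (hu' a).trans (hw a)⟩

/-- The components are eigenvectors. -/
theorem Ad_comp {v u : Lie G B f} {d : Γ} (hu : ∀ a, dv u a = dv v (wc c a d)) (h : B →+* B')
    (hf : Spec.map (CommRingCat.ofHom h) ≫ f = f') (g : pt B' f' ⟶ Red.DS (Spec (CommRingCat.of R)) Γ) :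
    Ad G B' f' (g ≫ c) (pl h hf u) = chv g (Multiplicative.ofAdd d) • pl h hf u := by
  classical
  refine Der.dv_injective (funext fun a => ?_)
  rw [Der.dv_smul, dv_Ad, Der.dv_pl, hu]
  simp only [Der.dv_pl, hu, wc_wc]
  rw [Finset.sum_eq_single d (fun n _ hn => by rw [if_neg (Ne.symm hn), dv_zero, map_zero, mul_zero])
    (fun hd => by rw [if_pos rfl, wc_eq_zero_of_notMem c hd, dv_zero, map_zero, mul_zero]), if_pos rfl]

/-- Finitely many components. -/
theorem exists_decomp [LocallyOfFiniteType G.hom] (v : Lie G B f) :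
    ∃ (F : Finset Γ) (u : Γ → Lie G B f), (∀ d a, dv (u d) a = dv v (wc c a d)) ∧ v = ∏ d ∈ F, u d := by
  classical
  obtain ⟨s, hs⟩ := exists_finite_gens (G := G)
  choose u hu using exists_comp c v
  let F : Finset Γ := s.biUnion (wts c)
  refine ⟨F, u, hu, Der.dv_injective (funext fun a => ?_)⟩
  rw [Der.dv_prod]
  simp only [hu]
  -- the components outside the finite set vanish
  have hout : ∀ d, d ∉ F → ∀ a, dv v (wc c a d) = 0 := fun d hd => by
    let K : Subring Γ(G.left, ⊤) :=
      { carrier := {a | dv (u d) a = 0}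
        zero_mem' := dv_zero _
        one_mem' := by
          show dv (u d) 1 = 0
          rw [← map_one (sG G), Der.dv_sG]
        add_mem' := fun {x y} (hx : dv (u d) x = 0) (hy : dv (u d) y = 0) => by
          show dv (u d) (x + y) = 0
          rw [Der.dv_add, hx, hy, add_zero]
        mul_mem' := fun {x y} (hx : dv (u d) x = 0) (hy : dv (u d) y = 0) => by
          show dv (u d) (x * y) = 0
          rw [Der.dv_leibniz, hx, hy, mul_zero, zero_mul, add_zero]
        neg_mem' := fun {x} (hx : dv (u d) x = 0) => by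
          show dv (u d) (-x) = 0
          have h := Der.dv_add (u d) x (-x)
          rw [add_neg_cancel, dv_zero, hx, zero_add] at h
          exact h.symm }
    have hK : Subring.closure (Set.range G.hom.appTop ∪ (s : Set Γ(G.left, ⊤))) ≤ K := by
      refine Subring.closure_le.2 ?_
      rintro a (⟨r, rfl⟩ | ha)
      · show dv (u d) _ = 0
        obtain ⟨x, rfl⟩ := (ConcreteCategory.bijective_of_isIso (Scheme.ΓSpecIso (CommRingCat.of R)).inv).2 r
        rw [← sG_eq, Der.dv_sG]
      · show dv (u d) a = 0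
        rw [hu, wc_eq_zero_of_notMem c fun h => hd (Finset.mem_biUnion.2 ⟨a, ha, h⟩), dv_zero]
    intro a
    rw [← hu]
    exact hK (hs ▸ Subring.mem_top a)
  conv_lhs => rw [← sum_wc c a, dv_sum]
  rw [Finset.sum_subset (Finset.subset_union_right (s₁ := F) (s₂ := wts c a))
      (fun d _ hd => by rw [wc_eq_zero_of_notMem c hd, dv_zero]),
    Finset.sum_subset (Finset.subset_union_left (s₁ := F) (s₂ := wts c a)) (fun d _ hd => hout d hd a)]

/-! ### The Lie algebra of the group of points with a limit -/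

variable [Algebra R B]

/-- The value of a character at a point. -/
theorem chiVal_chi (t : VecGrp.pt R B ⟶ Red.DS (Spec (CommRingCat.of R)) Γ) (d : Γ) :
    VecGrp.chiVal (Red.chi (Spec (CommRingCat.of R)) d) t = chv t (Multiplicative.ofAdd d) := by
  show (Scheme.ΓSpecIso (CommRingCat.of B)).hom (Red.gmFn (t ≫ Red.chi _ d)) = _
  rw [RootIntrinsic.gmFn_chi]
  rfl

theorem chv_ptIso [Algebra R B'] (φ : B →ₐ[R] B') (t : VecGrp.pt R B' ⟶ Red.DS (Spec (CommRingCat.of R)) Γ)
    (m : Multiplicative Γ) : chv ((VecGrp.ptIso φ).hom ≫ t) m = chv t m := by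
  have hf : Spec.map (CommRingCat.ofHom (RingHom.id B')) ≫ Spec.map (CommRingCat.ofHom (algebraMap R B')) =
      Spec.map (CommRingCat.ofHom φ.toRingHom) ≫ Spec.map (CommRingCat.ofHom (algebraMap R B)) := by
    rw [LieS.specMap_comp, LieS.specMap_comp]
    congr 2
    exact (RingHom.ext fun r => φ.commutes r).symm
  have e : (VecGrp.ptIso φ).hom = qm (RingHom.id B') hf := Over.OverMorphism.ext (by
    rw [qm_left, CommRingCat.ofHom_id, Spec.map_id, VecGrp.ptIso_hom_left]
    rfl)
  rw [e, chv_qm]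
  rfl

variable [LinearOrder Γ] [IsOrderedAddMonoid Γ] {P : Over (Spec (CommRingCat.of R))} [GrpObj P] {p : P ⟶ G} [IsMonHom p]

/-- **The Lie algebra of the group of points with a limit is the sum of the non-negative weight spaces.** -/
theorem map_top_eq [IsAffineHom G.hom] [LocallyOfFiniteType G.hom] (hp : IsP c p) :
    Subgroup.map (LieS.map B (Spec.map (CommRingCat.ofHom (algebraMap R B))) p) ⊤ =
      ⨆ d ∈ {d : Γ | 0 ≤ d}, LieWt.weightSpOf c (Red.chi (Spec (CommRingCat.of R)) d) B := by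
  classical
  haveI := hp.1; haveI := hp.2.1
  haveI : Mono p := Over.mono_of_mono_left p
  refine le_antisymm ?_ (iSup₂_le fun d hd x hx => ?_)
  · rintro v ⟨v₀, -, rfl⟩
    let v : LieR G B := LieS.map B (Spec.map (CommRingCat.ofHom (algebraMap R B))) p v₀
    show v ∈ _
    have hP : (v.1 : pt (DualNumber B) (fd _) ⟶ G) ∈ PSub (fd _) c := hp.exists_fac_iff.1 ⟨v₀.1, rfl⟩
    have hneg : ∀ a d, d < 0 → dv v (wc c a d) = 0 := fun a d hd => by
      rw [← rp_vec_snd, (mem_PSub_iff' c).1 hP a d hd, TrivSqZeroExt.snd_zero]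
    obtain ⟨F, u, hu, hv⟩ := exists_decomp c v
    rw [hv]
    refine Subgroup.prod_mem _ fun d _ => ?_
    by_cases hd : 0 ≤ d
    · refine le_iSup₂ (f := fun d (_ : d ∈ {d : Γ | 0 ≤ d}) =>
        LieWt.weightSpOf c (Red.chi (Spec (CommRingCat.of R)) d) B) d hd ?_
      intro B₁ _ _ φ t
      show Ad G B₁ _ ((VecGrp.ptIso φ).hom ≫ t ≫ c) _ = VecGrp.chiVal _ t • _
      rw [chiVal_chi, ← chv_ptIso φ, ← Category.assoc]
      exact Ad_comp c (hu d) φ.toRingHom rfl _
    · rw [show u d = 1 from Der.dv_injective (funext fun a => by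
        rw [hu, Der.dv_one, hneg a d (not_le.1 hd)])]
      exact one_mem _
  · obtain ⟨t, ht⟩ := exists_chv (S := Spec (CommRingCat.of R))
      (f := Spec.map (CommRingCat.ofHom (algebraMap R (AddMonoidAlgebra B Γ)))) (AddMonoidAlgebra.of B Γ)
    let φ : B →ₐ[R] AddMonoidAlgebra B Γ := AddMonoidAlgebra.singleZeroAlgHom
    have h1 := hx (AddMonoidAlgebra B Γ) φ t
    have hP : (x.1 : pt (DualNumber B) (fd _) ⟶ G) ∈ PSub (fd _) c := by
      rw [mem_PSub_iff' c]
      intro a m hm
      refine TrivSqZeroExt.ext ?_ ?_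
      · rw [rp_vec_fst, rp_one_wc c a hm.ne, TrivSqZeroExt.fst_zero]
      · rw [rp_vec_snd, TrivSqZeroExt.snd_zero]
        have h2 := congrArg (fun w => dv w (wc c a m)) h1
        simp only at h2
        rw [← Category.assoc, dv_Ad_wc, chv_ptIso, ht, Der.dv_smul, chiVal_chi, ht] at h2
        rw [show LieS.pull G (Spec.map (CommRingCat.ofHom (algebraMap R B))) φ.toRingHom x = pl φ.toRingHom rfl x
          from rfl, Der.dv_pl] at h2
        replace h2 : AddMonoidAlgebra.single m (1 : B) * AddMonoidAlgebra.single 0 (dv x (wc c a m)) =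
            AddMonoidAlgebra.single d (1 : B) * AddMonoidAlgebra.single 0 (dv x (wc c a m)) := h2
        simp only [AddMonoidAlgebra.single_mul_single, add_zero, _root_.one_mul] at h2
        have h3 := congr(($h2).coeff m)
        rw [AddMonoidAlgebra.coeff_single, AddMonoidAlgebra.coeff_single, Finsupp.single_eq_same,
          Finsupp.single_eq_of_ne (ne_of_lt (lt_of_lt_of_le hm hd))] at h3
        exact h3
    obtain ⟨y, hy⟩ := hp.exists_fac_iff.2 hP
    have hy' : zeroSec B (Spec.map (CommRingCat.ofHom (algebraMap R B))) ≫ (y : dpt B _ ⟶ P) = 1 := by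
      rw [← cancel_mono p, Category.assoc, MonObj.one_comp]
      exact (congrArg (zeroSec B _ ≫ ·) hy).trans x.2
    exact ⟨⟨y, hy'⟩, trivial, Subtype.ext hy⟩

end Groth.Agent.DynPar
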