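import Groth.Prelude.Def_LieS
import Groth.Agent.HomDiag.Points
import Mathlib.Algebra.MonoidAlgebra.MapDomain
import Mathlib.AlgebraicGeometry.Morphisms.ClosedImmersion
import Mathlib.Algebra.Order.Group.Defs

/-!
# Conjugated orbits of points under a homomorphism from a diagonalisable group with ordered characters
-/

set_option autoImplicit false
set_option linter.style.haveILetI false
set_option backward.isDefEq.respectTransparency false
set_option maxHeartbeats 1000000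
set_option synthInstance.maxHeartbeats 400000

universe u

open CategoryTheory Limits MonoidalCategory CartesianMonoidalCategory MonObj AlgebraicGeometry LieS
open scoped CategoryTheory.Obj

noncomputable section

namespace Groth.Agent.DynPar

open Groth.Agent.HomDiag

variable {S : Scheme.{u}} {B B' B'' : Type u} [CommRing B] [CommRing B'] [CommRing B'']

/-- The morphism of affine test schemes of a ring map. -/
def qm {f : Spec (CommRingCat.of B) ⟶ S} {f' : Spec (CommRingCat.of B') ⟶ S} (h : B →+* B')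
    (hf : Spec.map (CommRingCat.ofHom h) ≫ f = f') : pt B' f' ⟶ pt B f :=
  Over.homMk (Spec.map (CommRingCat.ofHom h)) hf

theorem qm_left {f : Spec (CommRingCat.of B) ⟶ S} {f' : Spec (CommRingCat.of B') ⟶ S} (h : B →+* B')
    (hf : Spec.map (CommRingCat.ofHom h) ≫ f = f') : (qm h hf).left = Spec.map (CommRingCat.ofHom h) := rfl

theorem qm_comp {f : Spec (CommRingCat.of B) ⟶ S} {f' : Spec (CommRingCat.of B') ⟶ S}
    {f'' : Spec (CommRingCat.of B'') ⟶ S} (h : B →+* B') (hf : Spec.map (CommRingCat.ofHom h) ≫ f = f')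
    (h' : B' →+* B'') (hf' : Spec.map (CommRingCat.ofHom h') ≫ f' = f'')
    (hh : Spec.map (CommRingCat.ofHom (h'.comp h)) ≫ f = f'') :
    qm h' hf' ≫ qm h hf = qm (h'.comp h) hh :=
  Over.OverMorphism.ext (LieS.specMap_comp h h')

theorem qm_congr {f : Spec (CommRingCat.of B) ⟶ S} {f' : Spec (CommRingCat.of B') ⟶ S} {h h' : B →+* B'}
    (e : h = h') (hf : Spec.map (CommRingCat.ofHom h) ≫ f = f')
    (hf' : Spec.map (CommRingCat.ofHom h') ≫ f = f') : qm h hf = qm h' hf' := by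
  subst e; rfl

theorem qm_id (f : Spec (CommRingCat.of B) ⟶ S) (hf : Spec.map (CommRingCat.ofHom (RingHom.id B)) ≫ f = f) :
    qm (RingHom.id B) hf = 𝟙 (pt B f) :=
  Over.OverMorphism.ext (Spec.map_id _)

/-- Restriction of points along a morphism of test objects, as a homomorphism of groups. -/
def pre {X Y : Over S} (q : Y ⟶ X) (G : Over S) [GrpObj G] : (X ⟶ G) →* (Y ⟶ G) where
  toFun g := q ≫ g
  map_one' := MonObj.comp_one _
  map_mul' a b := MonObj.comp_mul _ _ _

@[simp] theorem pre_apply {X Y : Over S} (q : Y ⟶ X) (G : Over S) [GrpObj G] (g : X ⟶ G) : pre q G g = q ≫ g := rfl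

/-! ### Values of characters at affine points -/

variable {M M' : Type} [AddCommGroup M] [AddCommGroup M']

/-- The value in the test ring of a character at an affine point. -/
def chv {f : Spec (CommRingCat.of B) ⟶ S} (x : pt B f ⟶ Red.DS S M) : Multiplicative M →* B :=
  (Scheme.ΓSpecIso (CommRingCat.of B)).hom.hom.toMonoidHom.comp (ch x)

theorem chv_ext {f : Spec (CommRingCat.of B) ⟶ S} {x y : pt B f ⟶ Red.DS S M}
    (h : ∀ m, chv x m = chv y m) : x = y :=
  ch_ext fun m => (ConcreteCategory.bijective_of_isIso (Scheme.ΓSpecIso (CommRingCat.of B)).hom).1 (h m)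

theorem exists_chv {f : Spec (CommRingCat.of B) ⟶ S} (χ : Multiplicative M →* B) :
    ∃ x : pt B f ⟶ Red.DS S M, ∀ m, chv x m = χ m := by
  obtain ⟨x, hx⟩ := exists_ch (S := S) (X := pt B f)
    ((Scheme.ΓSpecIso (CommRingCat.of B)).inv.hom.toMonoidHom.comp χ)
  refine ⟨x, fun m => ?_⟩
  show (Scheme.ΓSpecIso (CommRingCat.of B)).hom (ch x m) = χ m
  rw [hx]
  exact ConcreteCategory.congr_hom (Scheme.ΓSpecIso (CommRingCat.of B)).inv_hom_id (χ m)

theorem chv_qm {f : Spec (CommRingCat.of B) ⟶ S} {f' : Spec (CommRingCat.of B') ⟶ S} (h : B →+* B')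
    (hf : Spec.map (CommRingCat.ofHom h) ≫ f = f') (x : pt B f ⟶ Red.DS S M) (m : Multiplicative M) :
    chv (qm h hf ≫ x) m = h (chv x m) := by
  show (Scheme.ΓSpecIso (CommRingCat.of B')).hom (ch (qm h hf ≫ x) m) = h ((Scheme.ΓSpecIso (CommRingCat.of B)).hom (ch x m))
  rw [ch_comp]
  exact ConcreteCategory.congr_hom (Scheme.ΓSpecIso_naturality (CommRingCat.ofHom h)) (ch x m)

theorem chv_mul {f : Spec (CommRingCat.of B) ⟶ S} (x y : pt B f ⟶ Red.DS S M) (m : Multiplicative M) :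
    chv (x * y) m = chv x m * chv y m := by
  show (Scheme.ΓSpecIso (CommRingCat.of B)).hom (ch (x * y) m) = _
  rw [ch_mul, map_mul]
  rfl

theorem chv_DSmap {f : Spec (CommRingCat.of B) ⟶ S} (θ : M' →+ M) (x : pt B f ⟶ Red.DS S M)
    (m : Multiplicative M') :
    chv (x ≫ Red.DSmap S θ) m = chv x (Multiplicative.ofAdd (θ m.toAdd)) := by
  show (Scheme.ΓSpecIso (CommRingCat.of B)).hom (ch (x ≫ Red.DSmap S θ) m) = _
  rw [ch_DSmap]
  rfl

/-! ### Monoid algebras as test rings -/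

/-- The constants of a monoid algebra. -/
abbrev cC (B : Type u) [CommRing B] (Λ : Type) [AddCommMonoid Λ] : B →+* AddMonoidAlgebra B Λ :=
  AddMonoidAlgebra.singleZeroRingHom

/-- The structure map of the monoid algebra test scheme. -/
abbrev fL (f : Spec (CommRingCat.of B) ⟶ S) (Λ : Type) [AddCommMonoid Λ] :
    Spec (CommRingCat.of (AddMonoidAlgebra B Λ)) ⟶ S :=
  Spec.map (CommRingCat.ofHom (cC B Λ)) ≫ f

variable (Λ : Type) [AddCommMonoid Λ] (f : Spec (CommRingCat.of B) ⟶ S)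

/-- The projection of the monoid algebra test scheme. -/
def qc : pt (AddMonoidAlgebra B Λ) (fL f Λ) ⟶ pt B f := qm (cC B Λ) rfl

variable {Λ} {Λ' : Type} [AddCommMonoid Λ']

/-- The map of monoid algebra test schemes of a map of monoids. -/
def qd (θ : Λ →+ Λ') : pt (AddMonoidAlgebra B Λ') (fL f Λ') ⟶ pt (AddMonoidAlgebra B Λ) (fL f Λ) :=
  qm (AddMonoidAlgebra.mapDomainRingHom B θ) (by
    show Spec.map _ ≫ Spec.map _ ≫ f = Spec.map _ ≫ f
    rw [← Category.assoc, LieS.specMap_comp]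
    congr 3
    refine RingHom.ext fun b => ?_
    show AddMonoidAlgebra.mapDomain θ (AddMonoidAlgebra.single 0 b) = AddMonoidAlgebra.single 0 b
    rw [AddMonoidAlgebra.mapDomain_single, map_zero])

theorem qd_qc (θ : Λ →+ Λ') : qd f θ ≫ qc Λ f = qc Λ' f := by
  refine Over.OverMorphism.ext ?_
  show Spec.map _ ≫ Spec.map _ = Spec.map _
  rw [LieS.specMap_comp]
  congr 2
  refine RingHom.ext fun b => ?_
  show AddMonoidAlgebra.mapDomain θ (AddMonoidAlgebra.single 0 b) = AddMonoidAlgebra.single 0 b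
  rw [AddMonoidAlgebra.mapDomain_single, map_zero]

/-- The map of monoid algebra test schemes of a ring map. -/
def qr {f' : Spec (CommRingCat.of B') ⟶ S} (Λ : Type) [AddCommMonoid Λ] (h : B →+* B')
    (hf : Spec.map (CommRingCat.ofHom h) ≫ f = f') :
    pt (AddMonoidAlgebra B' Λ) (fL f' Λ) ⟶ pt (AddMonoidAlgebra B Λ) (fL f Λ) :=
  qm (AddMonoidAlgebra.mapRingHom Λ h) (by
    show Spec.map _ ≫ Spec.map _ ≫ f = Spec.map _ ≫ f'
    rw [← hf, ← Category.assoc, ← Category.assoc, LieS.specMap_comp, LieS.specMap_comp]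
    congr 3
    refine RingHom.ext fun b => ?_
    show AddMonoidAlgebra.mapRingHom _ h (AddMonoidAlgebra.single 0 b) = AddMonoidAlgebra.single 0 (h b)
    simp)

theorem qr_qc {f' : Spec (CommRingCat.of B') ⟶ S} (h : B →+* B')
    (hf : Spec.map (CommRingCat.ofHom h) ≫ f = f') :
    qr f Λ h hf ≫ qc Λ f = qc Λ f' ≫ qm h hf := by
  refine Over.OverMorphism.ext ?_
  show Spec.map _ ≫ Spec.map _ = Spec.map _ ≫ Spec.map _
  rw [LieS.specMap_comp, LieS.specMap_comp]
  congr 2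
  refine RingHom.ext fun b => ?_
  show AddMonoidAlgebra.mapRingHom _ h (AddMonoidAlgebra.single 0 b) = AddMonoidAlgebra.single 0 (h b)
  simp

theorem qr_qd {f' : Spec (CommRingCat.of B') ⟶ S} (h : B →+* B') (θ : Λ →+ Λ')
    (hf : Spec.map (CommRingCat.ofHom h) ≫ f = f') :
    qr f Λ' h hf ≫ qd f θ = qd f' θ ≫ qr f Λ h hf := by
  refine Over.OverMorphism.ext ?_
  show Spec.map _ ≫ Spec.map _ = Spec.map _ ≫ Spec.map _
  rw [LieS.specMap_comp, LieS.specMap_comp]
  congr 2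
  refine RingHom.ext fun p => ?_
  show AddMonoidAlgebra.mapRingHom _ h (AddMonoidAlgebra.mapDomain θ p) = AddMonoidAlgebra.mapDomain θ (AddMonoidAlgebra.mapRingHom _ h p)
  induction p using AddMonoidAlgebra.induction_linear with
  | zero => simp
  | add p q hp hq =>
    simp only [AddMonoidAlgebra.mapDomain_add, map_add, hp, hq]
  | single n b => simp

/-! ### The universal point and the orbit -/

variable (Γ : Type) [AddCommGroup Γ]

/-- The universal point of the diagonalisable group with values in the group algebra. -/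
def xu : pt (AddMonoidAlgebra B Γ) (fL f Γ) ⟶ Red.DS S Γ :=
  (exists_chv (f := fL f Γ) (AddMonoidAlgebra.of B Γ)).choose

theorem chv_xu (m : Multiplicative Γ) : chv (xu f Γ) m = AddMonoidAlgebra.single m.toAdd 1 :=
  (exists_chv (f := fL f Γ) (AddMonoidAlgebra.of B Γ)).choose_spec m

theorem qr_xu {f' : Spec (CommRingCat.of B') ⟶ S} (h : B →+* B')
    (hf : Spec.map (CommRingCat.ofHom h) ≫ f = f') : qr f Γ h hf ≫ xu f Γ = xu f' Γ :=
  chv_ext fun m => by
    show chv (qm _ _ ≫ xu f Γ) m = _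
    rw [chv_qm, chv_xu, chv_xu]
    show AddMonoidAlgebra.mapRingHom _ h (AddMonoidAlgebra.single _ 1) = _
    simp

variable {Γ} in
theorem xu_DSmap {Γ' : Type} [AddCommGroup Γ'] (θ : Γ' →+ Γ) :
    xu f Γ ≫ Red.DSmap S θ = qd f θ ≫ xu f Γ' :=
  chv_ext fun m => by
    rw [chv_DSmap, chv_xu]
    show _ = chv (qm _ _ ≫ xu f Γ') m
    rw [chv_qm, chv_xu]
    show AddMonoidAlgebra.single (θ m.toAdd) 1 = AddMonoidAlgebra.mapDomain θ (AddMonoidAlgebra.single _ 1)
    rw [AddMonoidAlgebra.mapDomain_single]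

/-- Every point of the diagonalisable group over a point of the base comes from the universal one. -/
theorem exists_qm_xu {f' : Spec (CommRingCat.of B') ⟶ S} (h : B →+* B')
    (hf : Spec.map (CommRingCat.ofHom h) ≫ f = f') (y : pt B' f' ⟶ Red.DS S Γ) :
    ∃ (θ : AddMonoidAlgebra B Γ →+* B') (hθ : Spec.map (CommRingCat.ofHom θ) ≫ fL f Γ = f'),
      qm θ hθ ≫ xu f Γ = y ∧ qm θ hθ ≫ qc Γ f = qm h hf := by
  let θ : AddMonoidAlgebra B Γ →+* B' := AddMonoidAlgebra.liftNCRingHom h (chv y) fun _ _ => Commute.all _ _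
  have h0 : θ.comp (cC B Γ) = h := RingHom.ext fun b => by
    show θ (AddMonoidAlgebra.single 0 b) = h b
    simp [θ]
  have hθ : Spec.map (CommRingCat.ofHom θ) ≫ fL f Γ = f' := by
    show Spec.map _ ≫ Spec.map _ ≫ f = f'
    rw [← Category.assoc, LieS.specMap_comp, h0, hf]
  refine ⟨θ, hθ, chv_ext fun m => ?_, ?_⟩
  · rw [chv_qm, chv_xu]
    simp [θ]
  · rw [qc, qm_comp (cC B Γ) rfl θ hθ (by rw [h0, hf])]
    exact qm_congr h0 _ _

variable {Γ} {G : Over S} [GrpObj G] (c : Red.DS S Γ ⟶ G)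

/-- The conjugated orbit of a point. -/
def orb : (pt B f ⟶ G) →* (pt (AddMonoidAlgebra B Γ) (fL f Γ) ⟶ G) :=
  (MulAut.conj (xu f Γ ≫ c)).toMonoidHom.comp (pre (qc Γ f) G)

theorem orb_apply (g : pt B f ⟶ G) :
    orb f c g = (xu f Γ ≫ c) * (qc Γ f ≫ g) * (xu f Γ ≫ c)⁻¹ := rfl

theorem qr_orb {f' : Spec (CommRingCat.of B') ⟶ S} (h : B →+* B')
    (hf : Spec.map (CommRingCat.ofHom h) ≫ f = f') (g : pt B f ⟶ G) :
    qr f Γ h hf ≫ orb f c g = orb f' c (qm h hf ≫ g) := by
  rw [orb_apply, orb_apply, MonObj.comp_mul, MonObj.comp_mul, GrpObj.comp_inv, ← Category.assoc,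
    ← Category.assoc, qr_xu, qr_qc, Category.assoc]

theorem orb_DSmap {Γ' : Type} [AddCommGroup Γ'] (θ : Γ' →+ Γ) (i : Red.DS S Γ' ⟶ G) (g : pt B f ⟶ G) :
    orb f (Red.DSmap S θ ≫ i) g = qd f θ ≫ orb f i g := by
  rw [orb_apply, orb_apply, MonObj.comp_mul, MonObj.comp_mul, GrpObj.comp_inv, ← Category.assoc,
    ← Category.assoc, ← Category.assoc (qd f θ) (qc Γ' f), xu_DSmap, qd_qc]

theorem orb_comp {H : Over S} [GrpObj H] (φ : G ⟶ H) [IsMonHom φ] (g : pt B f ⟶ G) :
    orb f (c ≫ φ) (g ≫ φ) = orb f c g ≫ φ := by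
  have e : ∀ a : pt (AddMonoidAlgebra B Γ) (fL f Γ) ⟶ G, a⁻¹ ≫ φ = (a ≫ φ)⁻¹ := fun a =>
    (IsMonHom.monoidHom φ _).map_inv a
  rw [orb_apply, orb_apply, MonObj.mul_comp, MonObj.mul_comp, e, Category.assoc, Category.assoc]

/-! ### Limits -/

variable (Γ) [LinearOrder Γ]

/-- The monoid of non-negative elements. -/
abbrev NN [IsOrderedAddMonoid Γ] : AddSubmonoid Γ := AddSubmonoid.nonneg Γ

variable [IsOrderedAddMonoid Γ]

/-- The character vanishing at positive elements. -/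
def chi0 (B : Type u) [CommRing B] : Multiplicative (NN Γ) →* B :=
  letI : DecidableEq Γ := inferInstance
  { toFun := fun m => if (m.toAdd : Γ) = 0 then 1 else 0
    map_one' := if_pos rfl
    map_mul' := fun a b => by
      have : ((a * b).toAdd : Γ) = (a.toAdd : Γ) + (b.toAdd : Γ) := rfl
      rw [this]
      have key : (a.toAdd : Γ) + (b.toAdd : Γ) = 0 ↔ (a.toAdd : Γ) = 0 ∧ (b.toAdd : Γ) = 0 :=
        add_eq_zero_iff_of_nonneg a.toAdd.2 b.toAdd.2
      by_cases h : (a.toAdd : Γ) = 0 ∧ (b.toAdd : Γ) = 0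
      · rw [if_pos (key.2 h), if_pos h.1, if_pos h.2, _root_.one_mul]
      · rw [if_neg (fun e => h (key.1 e))]
        rcases not_and_or.1 h with h' | h'
        · rw [if_neg h', MulZeroClass.zero_mul]
        · rw [if_neg h', MulZeroClass.mul_zero] }

/-- Evaluation at zero of the non-negative part. -/
def z0 (B : Type u) [CommRing B] : AddMonoidAlgebra B (NN Γ) →+* B :=
  AddMonoidAlgebra.liftNCRingHom (RingHom.id B) (chi0 Γ B) fun _ _ => Commute.all _ _

theorem z0_single (m : NN Γ) (b : B) :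
    z0 Γ B (AddMonoidAlgebra.single m b) = if (m : Γ) = 0 then b else 0 := by
  rw [z0, AddMonoidAlgebra.liftNCRingHom_single]
  show b * (if ((Multiplicative.ofAdd m).toAdd : Γ) = 0 then (1 : B) else 0) = _
  split_ifs with h <;> simp_all

/-- The section at zero. -/
def qz : pt B f ⟶ pt (AddMonoidAlgebra B (NN Γ)) (fL f (NN Γ)) :=
  qm (z0 Γ B) (by
    show Spec.map _ ≫ Spec.map _ ≫ f = f
    rw [← Category.assoc, LieS.specMap_comp,
      show (z0 Γ B).comp (cC B (NN Γ)) = RingHom.id B from RingHom.ext fun b => by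
        show z0 Γ B (AddMonoidAlgebra.single 0 b) = b
        rw [z0_single, if_pos]; rfl,
      CommRingCat.ofHom_id, Spec.map_id, Category.id_comp])

/-- The inclusion of the non-negative part. -/
def qn : pt (AddMonoidAlgebra B Γ) (fL f Γ) ⟶ pt (AddMonoidAlgebra B (NN Γ)) (fL f (NN Γ)) :=
  qd f (NN Γ).subtype

theorem qz_qc : qz f Γ ≫ qc (NN Γ) f = 𝟙 _ := by
  refine Over.OverMorphism.ext ?_
  show Spec.map _ ≫ Spec.map _ = 𝟙 _
  rw [LieS.specMap_comp,
    show (z0 Γ B).comp (cC B (NN Γ)) = RingHom.id B from RingHom.ext fun b => by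
      show z0 Γ B (AddMonoidAlgebra.single 0 b) = b
      rw [z0_single, if_pos]; rfl]
  exact Spec.map_id _

theorem qn_qc : qn f Γ ≫ qc (NN Γ) f = qc Γ f := qd_qc f _

theorem qr_qz {f' : Spec (CommRingCat.of B') ⟶ S} (h : B →+* B')
    (hf : Spec.map (CommRingCat.ofHom h) ≫ f = f') :
    qz f' Γ ≫ qr f (NN Γ) h hf = qm h hf ≫ qz f Γ := by
  refine Over.OverMorphism.ext ?_
  show Spec.map _ ≫ Spec.map _ = Spec.map _ ≫ Spec.map _
  rw [LieS.specMap_comp, LieS.specMap_comp]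
  congr 2
  refine RingHom.ext fun p => ?_
  show z0 Γ B' (AddMonoidAlgebra.mapRingHom _ h p) = h (z0 Γ B p)
  induction p using AddMonoidAlgebra.induction_linear with
  | zero => simp
  | add p q hp hq => simp only [map_add, hp, hq]
  | single n b =>
    simp only [AddMonoidAlgebra.mapRingHom_single, z0_single]
    split_ifs <;> simp

variable {Γ}

/-- The points whose orbit has a limit. -/
def PSub : Subgroup (pt B f ⟶ G) := (pre (qn f Γ) G).range.comap (orb f c)

/-- The points whose orbit tends to one. -/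
def USub : Subgroup (pt B f ⟶ G) := ((pre (qz f Γ) G).ker.map (pre (qn f Γ) G)).comap (orb f c)

omit [LinearOrder Γ] [IsOrderedAddMonoid Γ] in
/-- The points fixed by the action. -/
def ZSub : Subgroup (pt B f ⟶ G) := (orb f c).eqLocus (pre (qc Γ f) G)

theorem mem_PSub {g : pt B f ⟶ G} : g ∈ PSub f c ↔ ∃ h, qn f Γ ≫ h = orb f c g := Iff.rfl

theorem mem_USub {g : pt B f ⟶ G} :
    g ∈ USub f c ↔ ∃ h, qz f Γ ≫ h = 1 ∧ qn f Γ ≫ h = orb f c g := Iff.rfl

omit [LinearOrder Γ] [IsOrderedAddMonoid Γ] in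
theorem mem_ZSub {g : pt B f ⟶ G} : g ∈ ZSub f c ↔ orb f c g = qc Γ f ≫ g := Iff.rfl

theorem ZSub_le_PSub : ZSub f c ≤ PSub f c := fun g hg =>
  (mem_PSub f c).2 ⟨qc (NN Γ) f ≫ g, by rw [← Category.assoc, qn_qc, (mem_ZSub f c).1 hg]⟩

theorem USub_le_PSub : USub f c ≤ PSub f c := fun g hg => by
  obtain ⟨h, -, hh⟩ := (mem_USub f c).1 hg
  exact (mem_PSub f c).2 ⟨h, hh⟩

theorem qm_mem_PSub {f' : Spec (CommRingCat.of B') ⟶ S} (h : B →+* B')
    (hf : Spec.map (CommRingCat.ofHom h) ≫ f = f') {g : pt B f ⟶ G} (hg : g ∈ PSub f c) :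
    qm h hf ≫ g ∈ PSub f' c := by
  obtain ⟨a, ha⟩ := (mem_PSub f c).1 hg
  refine (mem_PSub f' c).2 ⟨qr f (NN Γ) h hf ≫ a, ?_⟩
  rw [← qr_orb f c h hf, ← ha, ← Category.assoc, ← Category.assoc]
  exact congrArg (· ≫ a) (qr_qd f h _ hf).symm

theorem qm_mem_USub {f' : Spec (CommRingCat.of B') ⟶ S} (h : B →+* B')
    (hf : Spec.map (CommRingCat.ofHom h) ≫ f = f') {g : pt B f ⟶ G} (hg : g ∈ USub f c) :
    qm h hf ≫ g ∈ USub f' c := by
  obtain ⟨a, ha0, ha⟩ := (mem_USub f c).1 hg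
  refine (mem_USub f' c).2 ⟨qr f (NN Γ) h hf ≫ a, ?_, ?_⟩
  · rw [← Category.assoc, qr_qz, Category.assoc, ha0, MonObj.comp_one]
  · rw [← qr_orb f c h hf, ← ha, ← Category.assoc, ← Category.assoc]
    exact congrArg (· ≫ a) (qr_qd f h _ hf).symm

theorem comp_mem_PSub {H : Over S} [GrpObj H] (φ : G ⟶ H) [IsMonHom φ] {g : pt B f ⟶ G}
    (hg : g ∈ PSub f c) : g ≫ φ ∈ PSub f (c ≫ φ) := by
  obtain ⟨a, ha⟩ := (mem_PSub f c).1 hg
  exact (mem_PSub f _).2 ⟨a ≫ φ, by rw [orb_comp, ← ha, Category.assoc]⟩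

theorem comp_mem_USub {H : Over S} [GrpObj H] (φ : G ⟶ H) [IsMonHom φ] {g : pt B f ⟶ G}
    (hg : g ∈ USub f c) : g ≫ φ ∈ USub f (c ≫ φ) := by
  obtain ⟨a, ha0, ha⟩ := (mem_USub f c).1 hg
  refine (mem_USub f _).2 ⟨a ≫ φ, ?_, by rw [orb_comp, ← ha, Category.assoc]⟩
  rw [← Category.assoc, ha0]
  exact (IsMonHom.monoidHom φ _).map_one

omit [LinearOrder Γ] [IsOrderedAddMonoid Γ] in
/-- A point is fixed exactly when it commutes with the action after every change of test ring. -/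
theorem mem_ZSub_iff_commute {g : pt B f ⟶ G} :
    g ∈ ZSub f c ↔ ∀ (B' : Type u) [CommRing B'] (f' : Spec (CommRingCat.of B') ⟶ S) (x : pt B' f' ⟶ pt B f)
      (h : pt B' f' ⟶ Red.DS S Γ), (x ≫ g) * (h ≫ c) = (h ≫ c) * (x ≫ g) := by
  rw [mem_ZSub, orb_apply, mul_inv_eq_iff_eq_mul]
  constructor
  · intro hg B' _ f' x h
    have hx : Spec.map (CommRingCat.ofHom (Spec.preimage x.left).hom) ≫ f = f' := by
      rw [CommRingCat.ofHom_hom, Spec.map_preimage]
      exact Over.w x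
    obtain ⟨θ, hθ, h1, h2⟩ := exists_qm_xu f Γ (Spec.preimage x.left).hom hx h
    have hxq : qm (Spec.preimage x.left).hom hx = x := Over.OverMorphism.ext (by
      show Spec.map (CommRingCat.ofHom _) = _
      rw [CommRingCat.ofHom_hom, Spec.map_preimage])
    rw [← h1, ← hxq, ← h2, Category.assoc, Category.assoc, ← MonObj.comp_mul, ← MonObj.comp_mul, hg]
  · intro hg
    exact (hg _ _ (qc Γ f) (xu f Γ)).symm

end Groth.Agent.DynPar
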