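import Groth.Agent.DynPar.Borel
import Groth.Agent.DynPar.Geom
import Groth.Agent.MTImage.Torus
import Groth.Agent.Chev.SolvTorus
import Groth.Agent.RedLR.Main

/-!
# The subgroup with a limit of a reductive group over an algebraically closed field is parabolic
-/

set_option autoImplicit false
set_option linter.style.haveILetI false
set_option backward.isDefEq.respectTransparency false
set_option maxHeartbeats 1000000
set_option synthInstance.maxHeartbeats 400000

universe u

open CategoryTheory Limits MonoidalCategory CartesianMonoidalCategory MonObj AlgebraicGeometry LieS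
open scoped CategoryTheory.Obj

noncomputable section

namespace Groth.Agent.DynPar

open Groth.Agent.HomDiag Groth.Agent.MTBridge

section Centralizer

variable {S : Scheme.{u}} {G : Over S} [GrpObj G] {Γ Γ' : Type} [AddCommGroup Γ] [AddCommGroup Γ']
  {c : Red.DS S Γ ⟶ G} {c' : Red.DS S Γ' ⟶ G}

theorem centralizer_congr {Z : Over S} [GrpObj Z] {z : Z ⟶ G} (hz : Red.IsCentralizerOf c z)
    (h : ∀ (B : Type u) [CommRing B] (f : Spec (CommRingCat.of B) ⟶ S) (g : pt B f ⟶ G),
      g ∈ ZSub f c ↔ g ∈ ZSub f c') : Red.IsCentralizerOf c' z := by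
  refine ⟨hz.1, hz.2.1, fun X g => (hz.2.2 X g).trans ?_⟩
  rw [← inF_ZFam_iff (c := c), ← inF_ZFam_iff (c := c')]
  exact forall_congr' fun B => forall_congr' fun _ => forall_congr' fun f => forall_congr' fun y => h B f (y ≫ g)

theorem centralizer_bc {S' : Scheme.{u}} (j : S' ⟶ S) {Z : Over S} [GrpObj Z] {z : Z ⟶ G}
    (hz : Red.IsCentralizerOf c z) : Red.IsCentralizerOf (bcHom' j c) ((Over.pullback j).map z) := by
  haveI := hz.1; haveI := hz.2.1
  haveI : PreservesLimitsOfShape WalkingCospan (Over.pullback j) :=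
    (Over.mapPullbackAdj j).rightAdjoint_preservesLimits.preservesLimitsOfShape
  refine ⟨inferInstance, inferInstance, fun X g => ?_⟩
  rw [exists_fac_bc_iff, hz.2.2, ← inF_ZFam_iff (c := c), ← inF_ZFam_iff (c := bcHom' j c)]
  exact (inF_fromB j (fun B _ fa fb e a => mem_ZSub_down j e c) g).symm

end Centralizer

variable {k : Type u} [Field k] [IsAlgClosed k] {G : Over (Spec (CommRingCat.of k))} [GrpObj G]

local notation "S₀" => Spec (CommRingCat.of k)

/-- A one-parameter subgroup lies in a split maximal torus. -/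
theorem exists_maxTorus_lambda [IsAffine G.left] [Smooth G.hom] [ConnectedSpace G.left]
    (c : Red.DS S₀ ℤ ⟶ G) [IsMonHom c] :
    ∃ (r : ℕ) (i : Red.DS S₀ (Fin r → ℤ) ⟶ G) (lam : (Fin r → ℤ) →+ ℤ),
      AGF.IsMaxTorus i ∧ c = Red.DSmap S₀ lam ≫ i := by
  haveI : IsAffineHom G.hom := isAffineHom_of_isAffine G.hom
  let e₁ : ℤ ≃+ (Fin 1 → ℤ) :=
    { toFun := fun x _ => x, invFun := fun f => f 0, left_inv := fun x => rfl,
      right_inv := fun f => funext fun i => by rw [Fin.fin_one_eq_zero i], map_add' := fun x y => rfl }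
  let w : Red.DS S₀ (Fin 1 → ℤ) ⟶ G := Red.DSmap S₀ e₁.toAddMonoidHom ≫ c
  haveI : IsMonHom w := inferInstanceAs (IsMonHom (Red.DSmap S₀ e₁.toAddMonoidHom ≫ c))
  obtain ⟨Q, _, q, m, hq, hm, hmm, hQ, -, -, hqm⟩ :=
    MTImage.exists_image_torus (Chev.CharQuot.isTorus_DS (k := k) 1) w
  haveI := hq; haveI := hm; haveI := hmm
  obtain ⟨T, _, iT, f, hT, hf⟩ := RedCent.exists_maxTorus_containing m hQ
  haveI := hT.1; haveI := hT.2.1
  haveI : IsMonHom f := MTSplit.isMonHom_of_comp_mono f iT m hf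
  obtain ⟨r, ⟨E⟩⟩ := Chev.Borel.split_of_isTorus hT.2.2.1
  let i : Red.DS S₀ (Fin r → ℤ) ⟶ G := E.inv.hom.hom ≫ iT
  haveI : IsMonHom i := inferInstanceAs (IsMonHom (E.inv.hom.hom ≫ iT))
  haveI : IsIso E.inv.hom.hom := inferInstanceAs (IsIso ((Grp.forget _).map E.inv))
  haveI : Mono i := mono_comp _ _
  haveI hψ : IsMonHom (Red.DSmap S₀ e₁.symm.toAddMonoidHom ≫ q ≫ f ≫ E.hom.hom.hom) := inferInstance
  obtain ⟨lam, hlam⟩ := Chev.CharQuot.exists_DSmap (k := k) (Red.DSmap S₀ e₁.symm.toAddMonoidHom ≫ q ≫ f ≫ E.hom.hom.hom)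
  refine ⟨r, i, lam, ⟨inferInstance, inferInstance, Chev.CharQuot.isTorus_DS r, fun T' _ j _ _ g hT' hg => ?_⟩, ?_⟩
  · have hE : E.hom.hom.hom ≫ E.inv.hom.hom = 𝟙 T := RootIntrinsic.hom_inv' E
    haveI : IsIso (E.hom.hom.hom ≫ g) := hT.2.2.2 T' j _ hT' (by
      rw [Category.assoc, hg]
      exact (Category.assoc _ _ _).symm.trans (by rw [hE, Category.id_comp]))
    haveI : IsIso E.hom.hom.hom := inferInstanceAs (IsIso ((Grp.forget _).map E.hom))
    exact IsIso.of_isIso_comp_left E.hom.hom.hom g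
  · rw [← hlam]
    simp only [i, Category.assoc, reassoc_of% (RootIntrinsic.hom_inv' E), hf, hqm]
    show c = Red.DSmap S₀ e₁.symm.toAddMonoidHom ≫ Red.DSmap S₀ e₁.toAddMonoidHom ≫ c
    rw [reassoc_of% (RootIntrinsic.DSmap_comp_apply (k := k) e₁.symm.toAddMonoidHom e₁.toAddMonoidHom),
      show e₁.symm.toAddMonoidHom.comp e₁.toAddMonoidHom = AddMonoidHom.id ℤ from
        AddMonoidHom.ext fun x => e₁.symm_apply_apply x, DSmap_id, Category.id_comp]

/-- A regular functional refining a given one. -/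
theorem exists_refine {S : Scheme.{u}} [IsAffine S] {G : Over S} [GrpObj G] [IsAffine G.left]
    [LocallyOfFiniteType G.hom] {M : Type} [AddCommGroup M] [Module.Free ℤ M] (i : Red.DS S M ⟶ G) [IsMonHom i]
    (lam : M →+ ℤ) :
    ∃ mu : M →+ ℤ, (∀ (B : Type u) [CommRing B] (f : Spec (CommRingCat.of B) ⟶ S) (g : pt B f ⟶ G),
        g ∈ ZSub f (Red.DSmap S mu ≫ i) → g ∈ ZSub f i) ∧
      ∀ (B : Type u) [CommRing B] (f : Spec (CommRingCat.of B) ⟶ S) (g : pt B f ⟶ G),
        g ∈ PSub f (Red.DSmap S mu ≫ i) → g ∈ PSub f (Red.DSmap S lam ≫ i) := by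
  classical
  obtain ⟨s, hs⟩ := exists_finite_gens (G := G)
  let F : Finset M := s.biUnion fun a => wts i a
  obtain ⟨nu, hnu⟩ := exists_hom_ne_zero F
  let N : ℤ := ∑ m ∈ F, |nu m| + 1
  have hN : ∀ m ∈ F, |nu m| < N := fun m hm => by
    have := Finset.single_le_sum (fun j _ => abs_nonneg (nu j)) hm
    omega
  refine ⟨N • lam + nu, fun B _ f g hg => ?_, fun B _ f g hg => ?_⟩
  · rw [show i = Red.DSmap S (AddMonoidHom.id M) ≫ i by rw [DSmap_id, Category.id_comp], mem_ZSub_iff i _ hs]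
    intro a ha m hm
    by_cases h : m ∈ wts i a
    · have hmF : m ∈ F := Finset.mem_biUnion.2 ⟨a, ha, h⟩
      refine (mem_ZSub_iff i _ hs).1 hg a ha m ?_
      show N • lam m + nu m ≠ 0
      intro he
      by_cases hl : lam m = 0
      · rw [hl, smul_zero, zero_add] at he
        exact hnu m hmF hm he
      · have h3 : N ≤ |N • lam m| := by
          rw [smul_eq_mul, abs_mul, abs_of_pos ((abs_nonneg _).trans_lt (hN m hmF))]
          exact le_mul_of_one_le_right ((abs_nonneg _).trans (hN m hmF).le) (Int.one_le_abs hl)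
        rw [eq_neg_of_add_eq_zero_left he, abs_neg] at h3
        have := hN m hmF
        omega
    · rw [wc_eq_zero_of_notMem i h, map_zero]
  · rw [mem_PSub_iff i _ hs] at hg ⊢
    intro a ha m hm
    by_cases h : m ∈ wts i a
    · refine hg a ha m ?_
      show N • lam m + nu m < 0
      have h1 := hN m (Finset.mem_biUnion.2 ⟨a, ha, h⟩)
      have h2 := le_abs_self (nu m)
      have h3 : N * lam m ≤ -N := by
        have hN0 : 0 ≤ N := ((abs_nonneg _).trans h1.le)
        calc N * lam m ≤ N * (-1) := mul_le_mul_of_nonneg_left (by omega) hN0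
          _ = -N := by ring
      rw [smul_eq_mul]
      omega
    · rw [wc_eq_zero_of_notMem i h, map_zero]

theorem exists_isCentralizerOf_self [IsAffine G.left] [Smooth G.hom] (hG : Red.IsReductiveOver k G)
    {M : Type} [AddCommGroup M] (i : Red.DS S₀ M ⟶ G) (hi : AGF.IsMaxTorus i) : Red.IsCentralizerOf i i := by
  haveI := hi.1; haveI := hi.2.1
  haveI : IsAffineHom G.hom := isAffineHom_of_isAffine G.hom
  obtain ⟨C, _, c, hc, -, -⟩ := exists_centralizer_DS (G := G) inferInstance inferInstance i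
  obtain ⟨t, ht, htc⟩ := RedCartan.isIso_to_centralizer hG i hi c hc
  exact RedCartan.isCentralizerOf_of_isIso hc t htc

/-- **Over an algebraically closed field**: parabolic, with reductive centraliser. -/
theorem field_parabolic (hG : Red.IsReductiveOver k G) {Γ : Type} [AddCommGroup Γ] [LinearOrder Γ]
    [IsOrderedAddMonoid Γ] (c : Red.DS S₀ Γ ⟶ G) [IsMonHom c] {P Z : Over S₀} [GrpObj P] [GrpObj Z] (p : P ⟶ G)
    (z : Z ⟶ G) (hp : IsP c p) (hz : Red.IsCentralizerOf c z) :
    Red.IsParabolicOver k p ∧ Red.IsReductiveOver k Z := by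
  haveI := hG.1; haveI := hG.2.1; haveI := hG.2.2.1
  haveI : IsAffineHom G.hom := isAffineHom_of_isAffine G.hom
  haveI := hp.1; haveI := hp.2.1
  obtain ⟨c', _, hc'⟩ := exists_int c
  obtain ⟨r, i, lam, hi, rfl⟩ := exists_maxTorus_lambda c'
  haveI := hi.1; haveI := hi.2.1
  have hp' : IsP (Red.DSmap S₀ lam ≫ i) p := hp.congr fun B _ f g => (hc' B f g).1
  have hz' : Red.IsCentralizerOf (Red.DSmap S₀ lam ≫ i) z := centralizer_congr hz fun B _ f g => (hc' B f g).2.2
  obtain ⟨mu, hreg, hle⟩ := exists_refine i lam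
  obtain ⟨B, _, iB, hiB⟩ := exists_isP (G := G) (Red.DSmap S₀ mu ≫ i)
  have hBor := isBorelOver_of_regular hG i hi (exists_isCentralizerOf_self hG i hi) mu hreg iB hiB
  obtain ⟨b, hb⟩ := hp'.exists_le iB fun B' _ f x => hle B' f _ (hiB.exists_fac_iff.1 ⟨x, rfl⟩)
  refine ⟨⟨hp.1, hp.2.1, smooth_isP inferInstance c hp, B, inferInstance, b, hb.symm ▸ hBor⟩, ?_⟩
  obtain ⟨d, hd⟩ := Int.subgroup_cyclic lam.range
  have hd' : ∀ x, ∃ l : ℤ, lam x = l * d := fun x => by
    obtain ⟨l, hl⟩ := AddSubgroup.mem_closure_singleton.1 (hd ▸ ⟨x, rfl⟩ : lam x ∈ AddSubgroup.closure {d})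
    exact ⟨l, by rw [← hl, smul_eq_mul]⟩
  by_cases hd0 : d = 0
  · -- the centraliser of a trivial subgroup
    have hlam : lam = 0 := AddMonoidHom.ext fun x => by
      obtain ⟨l, hl⟩ := hd' x
      simpa [hd0] using hl
    haveI := hz'.2.1
    obtain ⟨w, hw⟩ := (hz'.2.2 G (𝟙 G)).2 ((inF_ZFam_iff (c := Red.DSmap S₀ lam ≫ i) (𝟙 G)).1 fun B' _ f y =>
      (mem_ZSub_iff i lam gens_univ).2 fun a _ m hm => absurd (by rw [hlam]; rfl) hm)
    haveI := hz'.1
    haveI : IsIso z := ⟨w, by rw [← cancel_mono z, Category.assoc, hw, Category.comp_id, Category.id_comp], hw⟩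
    haveI : IsMonHom (inv z) := MTSplit.isMonHom_of_comp_mono (inv z) z (𝟙 G) (IsIso.inv_hom_id z)
    haveI : IsMonHom (asIso z).symm.hom := inferInstanceAs (IsMonHom (inv z))
    exact RedLR.isReductiveOver_of_iso (asIso z).symm hG
  · choose l hl using hd'
    let lam₀ : (Fin r → ℤ) →+ ℤ := AddMonoidHom.mk' l fun a b => mul_right_cancel₀ hd0 (by
      rw [add_mul, ← hl, ← hl, ← hl, map_add])
    have hsurj : Function.Surjective lam₀ := by
      obtain ⟨x, hx⟩ : d ∈ lam.range := hd ▸ AddSubgroup.mem_closure_singleton_self d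
      intro y
      refine ⟨y • x, ?_⟩
      refine mul_right_cancel₀ hd0 ?_
      show l (y • x) * d = y * d
      rw [← hl, map_zsmul, hx, smul_eq_mul]
    let e₁ : ℤ ≃+ (Fin 1 → ℤ) :=
      { toFun := fun x _ => x, invFun := fun f => f 0, left_inv := fun x => rfl,
        right_inv := fun f => funext fun j => by rw [Fin.fin_one_eq_zero j], map_add' := fun x y => rfl }
    let th : (Fin r → ℤ) →+ (Fin 1 → ℤ) := e₁.toAddMonoidHom.comp lam₀
    haveI : IsClosedImmersion (Red.DSmap S₀ th).left :=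
      MTPrime.isClosedImmersion_of_surjective th (e₁.surjective.comp hsurj)
    haveI : Mono (Red.DSmap S₀ th) := Over.mono_of_mono_left _
    haveI : Mono (Red.DSmap S₀ th ≫ i) := mono_comp _ _
    have hth : ∀ m, th m = 0 ↔ lam m = 0 := fun m => by
      show e₁ (lam₀ m) = 0 ↔ _
      rw [map_eq_zero_iff _ e₁.injective, hl m]
      exact (mul_eq_zero_iff_right hd0).symm
    have hz'' : Red.IsCentralizerOf (Red.DSmap S₀ th ≫ i) z := centralizer_congr hz' fun B' _ f g => by
      simp only [mem_ZSub_iff i _ gens_univ, ne_eq, hth]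
    exact RedCent.isReductiveOver_centralizer hG (Red.DSmap S₀ th ≫ i) (Chev.CharQuot.isTorus_DS 1) z hz''

end Groth.Agent.DynPar
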