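import Groth.Agent.DynPar.Levi

/-!
# Reduction to one-parameter subgroups, and change of base
-/

set_option autoImplicit false
set_option linter.style.haveILetI false
set_option backward.isDefEq.respectTransparency false
set_option maxHeartbeats 1000000
set_option synthInstance.maxHeartbeats 400000

universe u

open CategoryTheory Limits MonoidalCategory CartesianMonoidalCategory MonObj AlgebraicGeometry LieS
open scoped CategoryTheory.Obj

noncomputable section

namespace Groth.Agent.DynPar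

open Groth.Agent.HomDiag

section Same

variable {S : Scheme.{u}} {G : Over S} [GrpObj G] {Γ Γ' : Type} [AddCommGroup Γ] [LinearOrder Γ]
  [IsOrderedAddMonoid Γ] [AddCommGroup Γ'] [LinearOrder Γ'] [IsOrderedAddMonoid Γ']
  {c : Red.DS S Γ ⟶ G} {c' : Red.DS S Γ' ⟶ G}

theorem IsP.congr {P : Over S} [GrpObj P] {p : P ⟶ G} (hp : IsP c p)
    (h : ∀ (B : Type u) [CommRing B] (f : Spec (CommRingCat.of B) ⟶ S) (g : pt B f ⟶ G),
      g ∈ PSub f c ↔ g ∈ PSub f c') : IsP c' p :=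
  ⟨hp.1, hp.2.1, fun X g => (hp.2.2 X g).trans (forall_congr' fun B => forall_congr' fun _ =>
    forall_congr' fun f => forall_congr' fun y => h B f (y ≫ g))⟩

theorem IsU.congr {U : Over S} [GrpObj U] {u : U ⟶ G} (hu : IsU c u)
    (h : ∀ (B : Type u) [CommRing B] (f : Spec (CommRingCat.of B) ⟶ S) (g : pt B f ⟶ G),
      g ∈ USub f c ↔ g ∈ USub f c') : IsU c' u :=
  ⟨hu.1, hu.2.1, fun X g => (hu.2.2 X g).trans (forall_congr' fun B => forall_congr' fun _ =>
    forall_congr' fun f => forall_congr' fun y => h B f (y ≫ g))⟩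

end Same

section BaseChange

variable {S S' : Scheme.{u}} (j : S' ⟶ S) {G : Over S} [GrpObj G]

omit [GrpObj G] in
theorem exists_fac_bc_iff {P : Over S} (p : P ⟶ G) {X : Over S'} (g : X ⟶ Red.bc j G) :
    (∃ z : X ⟶ Red.bc j P, z ≫ (Over.pullback j).map p = g) ↔
      ∃ z : (Over.map j).obj X ⟶ P, z ≫ p = fromB j g := by
  let E := (Over.mapPullbackAdj j).homEquiv X
  constructor
  · rintro ⟨z, rfl⟩
    exact ⟨(E P).symm z, ((Over.mapPullbackAdj j).homEquiv_naturality_right_symm z p).symm⟩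
  · rintro ⟨z, hz⟩
    refine ⟨E P z, ?_⟩
    rw [← (Over.mapPullbackAdj j).homEquiv_naturality_right, hz]
    exact Equiv.apply_symm_apply _ _

variable {Γ : Type} [AddCommGroup Γ] [LinearOrder Γ] [IsOrderedAddMonoid Γ] {c : Red.DS S Γ ⟶ G}

theorem IsP.bc {P : Over S} [GrpObj P] {p : P ⟶ G} (hp : IsP c p) :
    IsP (bcHom' j c) ((Over.pullback j).map p) := by
  haveI := hp.1
  haveI := hp.2.1
  refine ⟨inferInstance, ?_, fun X g => ?_⟩
  · exact MorphismProperty.overPullbackMap (P := @IsClosedImmersion) j p hp.2.1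
  · rw [exists_fac_bc_iff, hp.2.2]
    exact (inF_fromB j (fun B _ fa fb e a => mem_PSub_down j e c) g).symm

theorem IsU.bc {U : Over S} [GrpObj U] {u : U ⟶ G} (hu : IsU c u) :
    IsU (bcHom' j c) ((Over.pullback j).map u) := by
  haveI := hu.1
  haveI := hu.2.1
  refine ⟨inferInstance, ?_, fun X g => ?_⟩
  · exact MorphismProperty.overPullbackMap (P := @IsClosedImmersion) j u hu.2.1
  · rw [exists_fac_bc_iff, hu.2.2]
    exact (inF_fromB j (fun B _ fa fb e a => mem_USub_down j e c) g).symm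

end BaseChange

/-! ### Positive functionals -/

theorem exists_hom_pos_of_ne_zero {Λ : Type} [AddCommGroup Λ] [Module.Free ℤ Λ] {p : Λ} (hp : p ≠ 0) :
    ∃ ψ : Λ →+ ℤ, 0 < ψ p := by
  obtain ⟨i, hi⟩ : ∃ i, (Module.Free.chooseBasis ℤ Λ).repr p i ≠ 0 := by
    by_contra! h
    exact hp ((Module.Free.chooseBasis ℤ Λ).repr.injective (Finsupp.ext fun i => by simp [h i]))
  rcases lt_or_gt_of_ne hi with h | h
  · exact ⟨-((Module.Free.chooseBasis ℤ Λ).coord i).toAddMonoidHom, by simpa using h⟩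
  · exact ⟨((Module.Free.chooseBasis ℤ Λ).coord i).toAddMonoidHom, by simpa using h⟩

/-- Finitely many positive elements are positive under a functional with integer values. -/
theorem exists_hom_pos {Λ : Type} [AddCommGroup Λ] [Module.Free ℤ Λ] [LinearOrder Λ] [IsOrderedAddMonoid Λ] :
    ∀ (n : ℕ) (p : Fin n → Λ), (∀ i, 0 < p i) → ∃ φ : Λ →+ ℤ, ∀ i, 0 < φ (p i) := by
  intro n
  induction n with
  | zero => exact fun p _ => ⟨0, fun i => i.elim0⟩
  | succ n ih =>
    intro p hp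
    obtain ⟨φ, hφ⟩ := ih (fun i => p i.castSucc) fun i => hp _
    rcases lt_trichotomy (φ (p (Fin.last n))) 0 with h | h | h
    · set q := p (Fin.last n) with hq
      let L : Λ →+ Λ :=
        { toFun := fun x => (-φ q) • x + φ x • q
          map_zero' := by simp
          map_add' := fun x y => by rw [smul_add, map_add, add_smul]; abel }
      have hLi : ∀ i : Fin n, 0 < L (p i.castSucc) := fun i =>
        add_pos (zsmul_pos (hp _) (neg_pos.2 h)) (zsmul_pos (hp _) (hφ i))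
      obtain ⟨ψ, hψ⟩ := ih (fun i => L (p i.castSucc)) hLi
      let N : ℤ := ∑ i : Fin n, φ (p i.castSucc) + 1
      refine ⟨N • ψ.comp L - φ, Fin.lastCases ?_ fun i => ?_⟩
      · have h0 : L q = 0 := by
          show (-φ q) • q + φ q • q = 0
          simp
        show 0 < N • ψ (L q) - φ q
        rw [h0, map_zero, smul_zero, zero_sub]
        exact neg_pos.2 h
      · show 0 < N • ψ (L (p i.castSucc)) - φ (p i.castSucc)
        have h1 : φ (p i.castSucc) < N := by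
          have := Finset.single_le_sum (fun j _ => (hφ j).le) (Finset.mem_univ i)
          omega
        have h2 : N ≤ N * ψ (L (p i.castSucc)) :=
          le_mul_of_one_le_right ((hφ i).trans h1).le (hψ i)
        rw [smul_eq_mul]
        omega
    · obtain ⟨ψ, hψ⟩ := exists_hom_pos_of_ne_zero (hp (Fin.last n)).ne'
      let N : ℤ := ∑ i : Fin n, |ψ (p i.castSucc)| + 1
      refine ⟨N • φ + ψ, Fin.lastCases ?_ fun i => ?_⟩
      · show 0 < N • φ _ + ψ _
        rw [h, smul_zero, zero_add]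
        exact hψ
      · show 0 < N • φ (p i.castSucc) + ψ (p i.castSucc)
        have h1 : |ψ (p i.castSucc)| < N := by
          have := Finset.single_le_sum (fun j _ => abs_nonneg (ψ (p (Fin.castSucc j)))) (Finset.mem_univ i)
          omega
        have h2 : N ≤ N * φ (p i.castSucc) :=
          le_mul_of_one_le_right ((abs_nonneg _).trans h1.le) (hφ i)
        have h3 := neg_abs_le (ψ (p i.castSucc))
        rw [smul_eq_mul]
        omega
    · exact ⟨φ, Fin.lastCases h fun i => hφ i⟩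

/-- Finitely many elements keep their signs under a suitable functional with integer values. -/
theorem exists_sign_hom {Λ : Type} [AddCommGroup Λ] [Module.Free ℤ Λ] [LinearOrder Λ] [IsOrderedAddMonoid Λ]
    (F : Finset Λ) : ∃ φ : Λ →+ ℤ, ∀ m ∈ F, (m < 0 ↔ φ m < 0) ∧ (m = 0 ↔ φ m = 0) := by
  classical
  let F' := (F.filter (0 < ·)) ∪ (F.filter (· < 0)).image (- ·)
  obtain ⟨φ, hφ⟩ := exists_hom_pos F'.card (fun i => (F'.equivFin.symm i : Λ)) fun i => by
    rcases Finset.mem_union.1 (F'.equivFin.symm i).2 with h | h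
    · exact (Finset.mem_filter.1 h).2
    · obtain ⟨m, hm, hmi⟩ := Finset.mem_image.1 h
      rw [← hmi]
      exact neg_pos.2 (Finset.mem_filter.1 hm).2
  have hφ' : ∀ m ∈ F', 0 < φ m := fun m hm => by simpa using hφ (F'.equivFin ⟨m, hm⟩)
  refine ⟨φ, fun m hm => ?_⟩
  rcases lt_trichotomy m 0 with h | h | h
  · have h1 := hφ' (-m) (Finset.mem_union_right _ (Finset.mem_image_of_mem _ (Finset.mem_filter.2 ⟨hm, h⟩)))
    rw [map_neg, neg_pos] at h1
    exact ⟨iff_of_true h h1, iff_of_false h.ne h1.ne⟩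
  · subst h
    simp
  · have h1 := hφ' m (Finset.mem_union_left _ (Finset.mem_filter.2 ⟨hm, h⟩))
    exact ⟨iff_of_false h.not_gt h1.not_gt, iff_of_false h.ne' h1.ne'⟩

/-! ### Homomorphisms through a smaller character group -/

section Factor

variable {S : Scheme.{u}} [IsAffine S] {G : Over S} [GrpObj G] [IsAffine G.left]
  {M Γ : Type} [AddCommGroup M] [AddCommGroup Γ]

/-- **A homomorphism using only some of the characters factors.** -/
theorem exists_factor (θ : M →+ Γ) (hθ : Function.Injective θ) (c : Red.DS S Γ ⟶ G) [IsMonHom c]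
    (hc : ∀ a, rp (xu S.isoSpec.inv Γ ≫ c) a ∈
      (AddMonoidAlgebra.mapDomainRingHom Γ(S, ⊤) θ).range) :
    ∃ (c₀ : Red.DS S M ⟶ G) (_ : IsMonHom c₀), Red.DSmap S θ ≫ c₀ = c := by
  let f₀ : Spec (CommRingCat.of Γ(S, ⊤)) ⟶ S := S.isoSpec.inv
  obtain ⟨h₀, hh₀⟩ := exists_pt_of_range (AddMonoidAlgebra.mapDomainRingHom Γ(S, ⊤) θ)
    (AddMonoidAlgebra.mapDomain_injective hθ) (Over.w (qd f₀ θ)) (xu f₀ Γ ≫ c) hc
  have hstr : ∀ (B : Type u) [CommRing B] (f : Spec (CommRingCat.of B) ⟶ S),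
      ∃ h : Γ(S, ⊤) →+* B, Spec.map (CommRingCat.ofHom h) ≫ f₀ = f := fun B _ f => by
    obtain ⟨h, hh⟩ := Spec.map_surjective (f ≫ S.isoSpec.hom)
    exact ⟨h.hom, by rw [CommRingCat.ofHom_hom, hh, Category.assoc, Iso.hom_inv_id, Category.comp_id]⟩
  have huniq : ∀ (B : Type u) [CommRing B] (f : Spec (CommRingCat.of B) ⟶ S)
      (θ₁ θ₂ : AddMonoidAlgebra Γ(S, ⊤) M →+* B) (e₁ : Spec.map (CommRingCat.ofHom θ₁) ≫ fL f₀ M = f)
      (e₂ : Spec.map (CommRingCat.ofHom θ₂) ≫ fL f₀ M = f),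
      qm θ₁ e₁ ≫ xu f₀ M = qm θ₂ e₂ ≫ xu f₀ M → θ₁ = θ₂ := by
    intro B _ f θ₁ θ₂ e₁ e₂ he
    refine AddMonoidAlgebra.ringHom_ext' ?_ (MonoidHom.ext fun m => ?_)
    · have h1 : Spec.map (CommRingCat.ofHom (θ₁.comp (cC Γ(S, ⊤) M))) =
          Spec.map (CommRingCat.ofHom (θ₂.comp (cC Γ(S, ⊤) M))) := by
        rw [← cancel_mono f₀, ← LieS.specMap_comp, ← LieS.specMap_comp, Category.assoc, Category.assoc]
        exact e₁.trans e₂.symm
      exact congrArg CommRingCat.Hom.hom (Spec.map_injective h1)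
    · have := congr(chv $he m)
      rw [chv_qm, chv_qm, chv_xu] at this
      exact this
  choose θy hθy hy using fun (B : Type u) (_ : CommRing B) (f : Spec (CommRingCat.of B) ⟶ S)
      (y : pt B f ⟶ Red.DS S M) =>
    show ∃ (θ' : AddMonoidAlgebra Γ(S, ⊤) M →+* B) (e : Spec.map (CommRingCat.ofHom θ') ≫ fL f₀ M = f),
        qm θ' e ≫ xu f₀ M = y by
      obtain ⟨h, hh⟩ := hstr B f
      obtain ⟨θ', e, h1, -⟩ := exists_qm_xu f₀ M h hh y
      exact ⟨θ', e, h1⟩
  obtain ⟨c₀, hc₀⟩ := exists_hom_of_pts (X := Red.DS S M) (Y := G)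
    (fun B _ f y => qm (θy B _ f y) (hθy B _ f y) ≫ h₀) (fun B B' _ _ f f' h hf y => by
      have e : Spec.map (CommRingCat.ofHom (h.comp (θy B _ f y))) ≫ fL f₀ M = f' := by
        rw [← LieS.specMap_comp, Category.assoc, hθy B _ f y, hf]
      have := huniq B' f' (θy B' _ f' (qm h hf ≫ y)) (h.comp (θy B _ f y)) (hθy B' _ f' _) e (by
        rw [hy, ← qm_comp _ (hθy B _ f y) h hf, Category.assoc, hy])
      rw [← Category.assoc, qm_comp _ (hθy B _ f y) h hf e]
      exact congrArg (· ≫ h₀) (qm_congr this _ _))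
  have key : ∀ (B : Type u) [CommRing B] (f : Spec (CommRingCat.of B) ⟶ S)
      (θ' : AddMonoidAlgebra Γ(S, ⊤) M →+* B) (e : Spec.map (CommRingCat.ofHom θ') ≫ fL f₀ M = f),
      (qm θ' e ≫ xu f₀ M) ≫ c₀ = qm θ' e ≫ h₀ := fun B _ f θ' e => by
    rw [hc₀]
    exact congrArg (· ≫ h₀) (qm_congr (huniq B f _ θ' (hθy B _ f _) e (hy B _ f _)) _ _)
  have hfac : Red.DSmap S θ ≫ c₀ = c := by
    refine hom_ext_pts _ _ fun B _ f w => ?_
    obtain ⟨h, hh⟩ := hstr B f
    obtain ⟨θ', e, h1, -⟩ := exists_qm_xu f₀ Γ h hh w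
    rw [← h1, Category.assoc, Category.assoc]
    rw [reassoc_of% (xu_DSmap f₀ θ)]
    have e2 : Spec.map (CommRingCat.ofHom (θ'.comp (AddMonoidAlgebra.mapDomainRingHom Γ(S, ⊤) θ))) ≫ fL f₀ M = f :=
      (congrArg (· ≫ fL f₀ M) (LieS.specMap_comp _ _).symm).trans ((Category.assoc _ _ _).trans
        ((congrArg (Spec.map (CommRingCat.ofHom θ') ≫ ·) (Over.w (qd f₀ θ))).trans e))
    show qm θ' e ≫ qm (AddMonoidAlgebra.mapDomainRingHom Γ(S, ⊤) θ) _ ≫ xu f₀ M ≫ c₀ = _
    rw [← Category.assoc (qm θ' e), qm_comp _ _ θ' e e2, ← Category.assoc, key, ← hh₀, ← Category.assoc,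
      qm_comp _ _ θ' e e2]
  refine ⟨c₀, isMonHom_of_mul c₀ fun X x y => ?_, hfac⟩
  refine hom_ext_pts _ _ fun B _ f z => ?_
  rw [← Category.assoc, MonObj.comp_mul, MonObj.comp_mul, ← Category.assoc, ← Category.assoc]
  generalize z ≫ x = a
  generalize z ≫ y = b
  obtain ⟨h, hh⟩ := hstr B f
  -- the universal pair of points
  obtain ⟨a₀, ha₀⟩ := exists_chv (f := fL f₀ (M × M))
    ((AddMonoidAlgebra.of Γ(S, ⊤) (M × M)).comp (AddMonoidHom.inl M M).toMultiplicative)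
  obtain ⟨b₀, hb₀⟩ := exists_chv (f := fL f₀ (M × M))
    ((AddMonoidAlgebra.of Γ(S, ⊤) (M × M)).comp (AddMonoidHom.inr M M).toMultiplicative)
  obtain ⟨w₁, hw₁⟩ := exists_chv (f := fL f₀ (Γ × Γ))
    ((AddMonoidAlgebra.of Γ(S, ⊤) (Γ × Γ)).comp (AddMonoidHom.inl Γ Γ).toMultiplicative)
  obtain ⟨w₂, hw₂⟩ := exists_chv (f := fL f₀ (Γ × Γ))
    ((AddMonoidAlgebra.of Γ(S, ⊤) (Γ × Γ)).comp (AddMonoidHom.inr Γ Γ).toMultiplicative)
  have e₁ : qd f₀ (θ.prodMap θ) ≫ a₀ = w₁ ≫ Red.DSmap S θ := chv_ext fun m => by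
    rw [qd, chv_qm, chv_DSmap, ha₀, hw₁]
    show AddMonoidAlgebra.mapDomain _ (AddMonoidAlgebra.single (m.toAdd, 0) 1) =
      AddMonoidAlgebra.single (θ m.toAdd, 0) 1
    rw [AddMonoidAlgebra.mapDomain_single]
    simp
  have e₂ : qd f₀ (θ.prodMap θ) ≫ b₀ = w₂ ≫ Red.DSmap S θ := chv_ext fun m => by
    rw [qd, chv_qm, chv_DSmap, hb₀, hw₂]
    show AddMonoidAlgebra.mapDomain _ (AddMonoidAlgebra.single (0, m.toAdd) 1) =
      AddMonoidAlgebra.single (0, θ m.toAdd) 1
    rw [AddMonoidAlgebra.mapDomain_single]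
    simp
  have huniv : (a₀ * b₀) ≫ c₀ = (a₀ ≫ c₀) * (b₀ ≫ c₀) := by
    refine pt_ext (AddMonoidAlgebra.mapDomainRingHom Γ(S, ⊤) (θ.prodMap θ))
      (AddMonoidAlgebra.mapDomain_injective fun u v huv =>
        Prod.ext (hθ (congrArg Prod.fst huv)) (hθ (congrArg Prod.snd huv)))
      (Over.w (qd f₀ (θ.prodMap θ))) ?_
    show qd f₀ (θ.prodMap θ) ≫ _ = qd f₀ (θ.prodMap θ) ≫ _
    rw [MonObj.comp_mul, ← Category.assoc, ← Category.assoc, ← Category.assoc, MonObj.comp_mul, e₁, e₂,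
      ← MonObj.mul_comp, Category.assoc, Category.assoc, Category.assoc, hfac, MonObj.mul_comp]
  let χ : Multiplicative (M × M) →* B :=
    { toFun := fun m => chv a (Multiplicative.ofAdd m.toAdd.1) * chv b (Multiplicative.ofAdd m.toAdd.2)
      map_one' := by simp
      map_mul' := fun u v => by simp [_root_.mul_mul_mul_comm] }
  let θ' : AddMonoidAlgebra Γ(S, ⊤) (M × M) →+* B :=
    AddMonoidAlgebra.liftNCRingHom h χ fun _ _ => Commute.all _ _
  have hθ' : Spec.map (CommRingCat.ofHom θ') ≫ fL f₀ (M × M) = f := by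
    show Spec.map _ ≫ Spec.map _ ≫ f₀ = f
    rw [← Category.assoc, LieS.specMap_comp, show θ'.comp (cC Γ(S, ⊤) (M × M)) = h from RingHom.ext fun r => by
      show θ' (AddMonoidAlgebra.single 0 r) = h r
      simp [θ', χ], hh]
  have ea : qm θ' hθ' ≫ a₀ = a := chv_ext fun m => by
    rw [chv_qm, ha₀]
    simp [θ', χ]
  have eb : qm θ' hθ' ≫ b₀ = b := chv_ext fun m => by
    rw [chv_qm, hb₀]
    simp [θ', χ]
  rw [← ea, ← eb, ← MonObj.comp_mul, Category.assoc, huniv, MonObj.comp_mul, Category.assoc, Category.assoc]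

end Factor

/-- **Over an affine base the signs of the weights can be realised by a one-parameter subgroup.** -/
theorem exists_int {S : Scheme.{u}} [IsAffine S] {G : Over S} [GrpObj G] [IsAffine G.left]
    [LocallyOfFiniteType G.hom] {Γ : Type} [AddCommGroup Γ] [LinearOrder Γ] [IsOrderedAddMonoid Γ]
    (c : Red.DS S Γ ⟶ G) [IsMonHom c] :
    ∃ (c' : Red.DS S ℤ ⟶ G) (_ : IsMonHom c'), ∀ (B : Type u) [CommRing B]
      (f : Spec (CommRingCat.of B) ⟶ S) (g : pt B f ⟶ G),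
      (g ∈ PSub f c ↔ g ∈ PSub f c') ∧ (g ∈ USub f c ↔ g ∈ USub f c') ∧ (g ∈ ZSub f c ↔ g ∈ ZSub f c') := by
  classical
  obtain ⟨s, hs⟩ := exists_finite_gens (G := G)
  let supp : Finset Γ := s.biUnion fun a => (rp (xu S.isoSpec.inv Γ ≫ c) a).coeff.support
  let Λ : AddSubgroup Γ := AddSubgroup.closure (supp : Set Γ)
  haveI : Module.Finite ℤ Λ :=
    Module.Finite.iff_addGroup_fg.2 ((AddGroup.fg_iff_addSubgroup_fg Λ).2 ⟨supp, rfl⟩)
  haveI : Module.Free ℤ Λ := Module.free_of_finite_type_torsion_free'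
  obtain ⟨c₀, _, hc₀⟩ := exists_factor Λ.subtype Subtype.val_injective c fun a => by
    suffices hle : Set.range G.hom.appTop ∪ (s : Set Γ(G.left, ⊤)) ⊆
        (((AddMonoidAlgebra.mapDomainRingHom Γ(S, ⊤) Λ.subtype).range).comap
          (rp (xu S.isoSpec.inv Γ ≫ c)) : Set Γ(G.left, ⊤)) by
      have : a ∈ Subring.closure (Set.range G.hom.appTop ∪ (s : Set Γ(G.left, ⊤))) := hs ▸ Subring.mem_top a
      exact Subring.closure_le.2 hle this
    rintro a (⟨r, rfl⟩ | ha)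
    · show rp _ _ ∈ RingHom.range _
      rw [rp_hom, scalar_mem_range (AddMonoidAlgebra.mapDomainRingHom Γ(S, ⊤) Λ.subtype)
        (fC := fL S.isoSpec.inv Λ) (fC' := fL S.isoSpec.inv Γ) (Over.w (qd S.isoSpec.inv Λ.subtype)) r]
      exact ⟨_, rfl⟩
    · show rp _ a ∈ RingHom.range _
      rw [← AddMonoidAlgebra.sum_coeff_single (rp (xu S.isoSpec.inv Γ ≫ c) a)]
      refine Subring.sum_mem _ fun n hn => ?_
      exact ⟨AddMonoidAlgebra.single ⟨n, AddSubgroup.subset_closure (Finset.mem_biUnion.2 ⟨a, ha, hn⟩)⟩ _,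
        AddMonoidAlgebra.mapDomain_single⟩
  obtain ⟨φ, hφ⟩ := exists_sign_hom (s.biUnion fun a => wts c₀ a)
  have hw : ∀ a ∈ s, ∀ m, ((Λ.subtype m < 0 ↔ φ m < 0) ∧ (Λ.subtype m = 0 ↔ φ m = 0)) ∨ wc c₀ a m = 0 :=
    fun a ha m => by
      by_cases h : m ∈ wts c₀ a
      · obtain ⟨h1, h2⟩ := hφ m (Finset.mem_biUnion.2 ⟨a, ha, h⟩)
        exact Or.inl ⟨h1, ZeroMemClass.coe_eq_zero.trans h2⟩
      · exact Or.inr (wc_eq_zero_of_notMem c₀ h)
  refine ⟨Red.DSmap S φ ≫ c₀, inferInstance, fun B _ f g => ?_⟩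
  have hP : g ∈ PSub f c ↔ g ∈ PSub f (Red.DSmap S φ ≫ c₀) := by
    rw [← hc₀, mem_PSub_iff c₀ _ hs, mem_PSub_iff c₀ _ hs]
    refine forall₂_congr fun a ha => forall_congr' fun m => ?_
    rcases hw a ha m with h | h
    · rw [h.1]
    · simp [h]
  refine ⟨hP, ?_, ?_⟩
  · rw [← hc₀, mem_USub_iff c₀ _ hs, mem_USub_iff c₀ _ hs]
    refine and_congr ((iff_of_eq (by rw [hc₀])).trans hP) (forall₂_congr fun a ha => forall_congr' fun m => ?_)
    rcases hw a ha m with h | h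
    · rw [h.2]
    · simp [h]
  · rw [← hc₀, mem_ZSub_iff c₀ _ hs, mem_ZSub_iff c₀ _ hs]
    refine forall₂_congr fun a ha => forall_congr' fun m => ?_
    rcases hw a ha m with h | h
    · rw [Ne, Ne, h.2]
    · simp [h]

end Groth.Agent.DynPar
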