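import Groth.Agent.DynPar.BaseChange
import Groth.Agent.FpqcDescent.IdealGlue
import Groth.Agent.MTBridge.Centralizer
import Mathlib.AlgebraicGeometry.Sites.Fpqc
import Mathlib.AlgebraicGeometry.IdealSheaf.Functorial

/-!
# Conditions on affine points which are representable by closed subschemes
-/

set_option autoImplicit false
set_option linter.style.haveILetI false
set_option backward.isDefEq.respectTransparency false
set_option maxHeartbeats 1000000
set_option synthInstance.maxHeartbeats 400000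

universe u

open CategoryTheory Limits MonoidalCategory CartesianMonoidalCategory MonObj AlgebraicGeometry LieS
open scoped CategoryTheory.Obj

noncomputable section

namespace Groth.Agent.DynPar

variable {S : Scheme.{u}} {G : Over S} [GrpObj G]

/-- A condition on affine points which is a subgroup. -/
abbrev Fam (G : Over S) [GrpObj G] := ∀ (B : Type u) [CommRing B] (f : Spec (CommRingCat.of B) ⟶ S), Subgroup (pt B f ⟶ G)

/-- Stability under change of test ring. -/
def Fam.Stable (K : Fam G) : Prop :=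
  ∀ (B B' : Type u) [CommRing B] [CommRing B'] (f : Spec (CommRingCat.of B) ⟶ S)
    (f' : Spec (CommRingCat.of B') ⟶ S) (h : B →+* B') (hf : Spec.map (CommRingCat.ofHom h) ≫ f = f')
    (g : pt B f ⟶ G), g ∈ K B f → qm h hf ≫ g ∈ K B' f'

/-- Locality for the Zariski topology of the test ring. -/
def Fam.Local (K : Fam G) : Prop :=
  ∀ (B : Type u) [CommRing B] (f : Spec (CommRingCat.of B) ⟶ S) (g : pt B f ⟶ G) (s : Set B),
    Ideal.span s = ⊤ → (∀ r ∈ s, ∀ (B' : Type u) [CommRing B'] [Algebra B B'] [IsLocalization.Away r B']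
      (f' : Spec (CommRingCat.of B') ⟶ S) (hf : Spec.map (CommRingCat.ofHom (algebraMap B B')) ≫ f = f'),
      qm (algebraMap B B') hf ≫ g ∈ K B' f') → g ∈ K B f

/-- The condition on all points. -/
def InF (K : Fam G) {X : Over S} (g : X ⟶ G) : Prop :=
  ∀ (B : Type u) [CommRing B] (f : Spec (CommRingCat.of B) ⟶ S) (y : pt B f ⟶ X), y ≫ g ∈ K B f

theorem InF.comp {K : Fam G} {X Y : Over S} (a : Y ⟶ X) {g : X ⟶ G} (h : InF K g) : InF K (a ≫ g) :=
  fun B _ f y => by rw [← Category.assoc]; exact h B f (y ≫ a)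

theorem inF_one (K : Fam G) (X : Over S) : InF K (1 : X ⟶ G) := fun B _ f y => by
  rw [MonObj.comp_one]; exact one_mem _

theorem inF_div {K : Fam G} {X : Over S} {a b : X ⟶ G} (ha : InF K a) (hb : InF K b) : InF K (a⁻¹ * b) :=
  fun B _ f y => by
    rw [MonObj.comp_mul, GrpObj.comp_inv]
    exact mul_mem (inv_mem (ha B f y)) (hb B f y)

theorem eq_qm {B B' : Type u} [CommRing B] [CommRing B'] {f : Spec (CommRingCat.of B) ⟶ S}
    {f' : Spec (CommRingCat.of B') ⟶ S} (y : pt B' f' ⟶ pt B f) :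
    ∃ (h : B →+* B') (hf : Spec.map (CommRingCat.ofHom h) ≫ f = f'), y = qm h hf := by
  have hy : Spec.map (CommRingCat.ofHom (Spec.preimage y.left).hom) = y.left := by
    rw [CommRingCat.ofHom_hom, Spec.map_preimage]
  exact ⟨(Spec.preimage y.left).hom, by rw [hy]; exact Over.w y, Over.OverMorphism.ext hy.symm⟩

theorem inF_pt {K : Fam G} (hK : K.Stable) {B : Type u} [CommRing B] {f : Spec (CommRingCat.of B) ⟶ S}
    (g : pt B f ⟶ G) : InF K g ↔ g ∈ K B f := by
  constructor
  · intro h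
    simpa using h B f (𝟙 _)
  · intro hg B' _ f' y
    obtain ⟨h, hf, rfl⟩ := eq_qm y
    exact hK B B' f f' h hf g hg

/-- The condition is local on the source. -/
theorem inF_of_cover {K : Fam G} (hK : K.Stable) (hL : K.Local) {X : Over S} (g : X ⟶ G) (𝒰 : X.left.OpenCover)
    (h : ∀ i, InF K ((Over.homMk (𝒰.f i) rfl : Over.mk (𝒰.f i ≫ X.hom) ⟶ X) ≫ g)) : InF K g := by
  intro B _ f y
  let 𝒱 := 𝒰.pullback₁ y.left
  let T : Set B := {r | ∃ i, (PrimeSpectrum.basicOpen r : Set (PrimeSpectrum B)) ⊆ Set.range (𝒱.f i)}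
  have hT : Ideal.span T = ⊤ := by
    rw [← PrimeSpectrum.iSup_basicOpen_eq_top_iff']
    refine top_le_iff.1 fun p _ => ?_
    obtain ⟨i, q, hq⟩ := Scheme.Cover.exists_eq 𝒱 p
    obtain ⟨_, ⟨r, rfl⟩, hpr, hsub⟩ := PrimeSpectrum.isTopologicalBasis_basic_opens.exists_subset_of_mem_open
      (show p ∈ Set.range (𝒱.f i) from ⟨q, hq⟩) (𝒱.f i).opensRange.2
    exact TopologicalSpace.Opens.mem_iSup.2 ⟨r, TopologicalSpace.Opens.mem_iSup.2 ⟨⟨i, hsub⟩, hpr⟩⟩
  refine hL B f (y ≫ g) T hT fun r hr B' _ _ _ f' hf => ?_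
  obtain ⟨i, hi⟩ := hr
  have hrange : Set.range (Spec.map (CommRingCat.ofHom (algebraMap B B'))) ⊆ Set.range (𝒱.f i) := by
    refine subset_trans ?_ hi
    rintro _ ⟨p, rfl⟩
    exact fun hp => (p.2.ne_top) (Ideal.eq_top_of_isUnit_mem _ hp (IsLocalization.Away.algebraMap_isUnit r))
  let l : Spec (CommRingCat.of B') ⟶ 𝒱.X i := IsOpenImmersion.lift (𝒱.f i) _ hrange
  have hl : l ≫ 𝒱.f i = Spec.map (CommRingCat.ofHom (algebraMap B B')) := IsOpenImmersion.lift_fac _ _ _
  let z : pt B' f' ⟶ Over.mk (𝒰.f i ≫ X.hom) := Over.homMk (l ≫ pullback.snd y.left (𝒰.f i)) (by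
    show (l ≫ pullback.snd _ _) ≫ 𝒰.f i ≫ X.hom = f'
    rw [← hf, ← hl, Category.assoc, ← pullback.condition_assoc, Category.assoc]
    congr 2
    exact Over.w y)
  have e : qm (algebraMap B B') hf ≫ y = z ≫ (Over.homMk (𝒰.f i) rfl : Over.mk (𝒰.f i ≫ X.hom) ⟶ X) := by
    refine Over.OverMorphism.ext ?_
    show Spec.map _ ≫ y.left = (l ≫ pullback.snd _ _) ≫ 𝒰.f i
    rw [Category.assoc, ← pullback.condition, ← Category.assoc]
    exact congrArg (· ≫ y.left) hl.symm
  rw [← Category.assoc, e, Category.assoc]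
  exact h i B' f' z

variable {S' : Scheme.{u}} (j : S' ⟶ S)

/-- A point of a base change as a point. -/
def fromB {X : Over S'} (g : X ⟶ Red.bc j G) : (Over.map j).obj X ⟶ G :=
  ((Over.mapPullbackAdj j).homEquiv X G).symm g

omit [GrpObj G] in
theorem fromB_left {X : Over S'} (g : X ⟶ Red.bc j G) : (fromB j g).left = g.left ≫ pullback.fst _ _ := by
  simp [fromB, Over.mapPullbackAdj]

omit [GrpObj G] in
theorem down_comp_toBC {X : Over S'} {B : Type u} [CommRing B] {fa : Spec (CommRingCat.of B) ⟶ S'}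
    {fb : Spec (CommRingCat.of B) ⟶ S} (e : fa ≫ j = fb) (g : X ⟶ Red.bc j G) (y : pt B fa ⟶ X) :
    down j e (upId j e ≫ (Over.map j).map y ≫ fromB j g) = y ≫ g := by
  rw [down, ← Category.assoc (upId' j e), upId'_upId, Category.id_comp, fromB,
    ← Adjunction.homEquiv_naturality_left_symm]
  exact Equiv.apply_symm_apply _ _

/-- Transfer of a condition to a base change. -/
theorem inF_fromB {K : Fam G} {K' : Fam (Red.bc j G)}
    (hKK : ∀ (B : Type u) [CommRing B] (fa : Spec (CommRingCat.of B) ⟶ S') (fb : Spec (CommRingCat.of B) ⟶ S)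
      (e : fa ≫ j = fb) (a : pt B fb ⟶ G), a ∈ K B fb ↔ down j e a ∈ K' B fa)
    {X : Over S'} (g : X ⟶ Red.bc j G) : InF K' g ↔ InF K (fromB j g) := by
  constructor
  · intro h B _ f y
    have hw : y.left ≫ X.hom ≫ j = f := Over.w y
    let y' : pt B (y.left ≫ X.hom) ⟶ X := Over.homMk y.left rfl
    have e : (y.left ≫ X.hom) ≫ j = f := by rw [Category.assoc]; exact hw
    have hy : y = upId j e ≫ (Over.map j).map y' := Over.OverMorphism.ext (Category.id_comp _).symm
    rw [hy, Category.assoc, hKK B _ f e, down_comp_toBC]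
    exact h B _ y'
  · intro h B _ f y
    have h1 := h B (f ≫ j) (upId j rfl ≫ (Over.map j).map y)
    rw [Category.assoc, hKK B f _ rfl, down_comp_toBC] at h1
    exact h1

omit [GrpObj G] in
/-- Factorisation through a closed immersion in terms of kernels. -/
theorem exists_fac_iff_ker_le {X Y Z : Scheme.{u}} (k : Z ⟶ Y) [IsClosedImmersion k] (t : X ⟶ Y) :
    (∃ z, z ≫ k = t) ↔ k.ker ≤ t.ker :=
  ⟨fun ⟨z, hz⟩ => hz ▸ Scheme.Hom.le_ker_comp z k, fun h => ⟨_, IsClosedImmersion.lift_fac k t h⟩⟩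

/-- **Gluing**: a local condition which is representable by closed subschemes over the affine opens of the base is
representable by a closed subscheme. -/
theorem exists_rep_of_local (K : Fam G) (hK : K.Stable) (hL : K.Local)
    (hloc : ∀ U : S.affineOpens, ∃ (P : Over U.1.toScheme) (k : P ⟶ Red.bc U.1.ι G),
      IsClosedImmersion k.left ∧ ∀ (X : Over U.1.toScheme) (g : X ⟶ Red.bc U.1.ι G),
        (∃ z : X ⟶ P, z ≫ k = g) ↔ InF K (fromB U.1.ι g)) :
    ∃ (P : Over S) (_ : GrpObj P) (p : P ⟶ G), IsMonHom p ∧ IsClosedImmersion p.left ∧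
      ∀ (X : Over S) (g : X ⟶ G), (∃ z : X ⟶ P, z ≫ p = g) ↔ InF K g := by
  choose PU k hk hkX using hloc
  let 𝒰 : S.OpenCover := S.openCoverOfIsOpenCover (fun U : S.affineOpens => U.1) (iSup_affineOpens_eq_top S)
  let 𝒱 : G.left.OpenCover := 𝒰.pullback₁ G.hom
  let Q : S.affineOpens → Scheme.{u} := fun U => (Red.bc U.1.ι G).left
  let q : ∀ U, Q U ⟶ G.left := fun U => pullback.fst G.hom U.1.ι
  have hg : Presieve.ofArrows Q q ∈ Scheme.fpqcPrecoverage G.left :=
    Scheme.zariskiPrecoverage_le_fpqcPrecoverage _ 𝒱.mem₀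
  let PS : ∀ {X : Scheme.{u}}, (X ⟶ G.left) → Prop := fun {X} t =>
    InF K (Over.homMk t rfl : Over.mk (t ≫ G.hom) ⟶ G)
  have hPS : ∀ (X : Over S) (g : X ⟶ G), InF K g ↔ PS g.left := by
    intro X g
    let a : Over.mk (g.left ≫ G.hom) ⟶ X := Over.homMk (𝟙 _) (by simp)
    let b : X ⟶ Over.mk (g.left ≫ G.hom) := Over.homMk (𝟙 _) (by simp)
    constructor
    · intro h
      have h1 := h.comp a
      have e : a ≫ g = (Over.homMk g.left rfl : Over.mk (g.left ≫ G.hom) ⟶ G) :=
        Over.OverMorphism.ext (Category.id_comp _)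
      rwa [e] at h1
    · intro h
      have h1 := InF.comp b h
      have e : b ≫ (Over.homMk g.left rfl : Over.mk (g.left ≫ G.hom) ⟶ G) = g :=
        Over.OverMorphism.ext (Category.id_comp _)
      rwa [e] at h1
  have hU : ∀ (U : S.affineOpens) {X : Scheme.{u}} (t : X ⟶ Q U),
      (k U).left.ker ≤ t.ker ↔ PS (t ≫ q U) := by
    intro U X t
    let g' : Over.mk (t ≫ (Red.bc U.1.ι G).hom) ⟶ Red.bc U.1.ι G := Over.homMk t rfl
    haveI := hk U
    have h1 : (∃ z, z ≫ k U = g') ↔ (k U).left.ker ≤ t.ker := by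
      rw [← exists_fac_iff_ker_le]
      refine ⟨fun ⟨z, hz⟩ => ⟨z.left, congrArg CommaMorphism.left hz⟩, fun ⟨z, hz⟩ => ?_⟩
      refine ⟨Over.homMk z (show z ≫ (PU U).hom = t ≫ _ from ?_), Over.OverMorphism.ext hz⟩
      rw [← hz, Category.assoc, Over.w (k U)]
    rw [← h1, hkX U, hPS, fromB_left]
    rfl
  let I : ∀ U, (Q U).IdealSheafData := fun U => (k U).left.ker
  have hcompat : ∀ U V, (I U).comap (pullback.fst (q U) (q V)) = (I V).comap (pullback.snd (q U) (q V)) := by
    intro U V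
    have key : ∀ {X : Scheme.{u}} (t : X ⟶ pullback (q U) (q V)),
        (I U).comap (pullback.fst (q U) (q V)) ≤ t.ker ↔ (I V).comap (pullback.snd (q U) (q V)) ≤ t.ker := by
      intro X t
      rw [← Scheme.IdealSheafData.le_map_iff_comap_le, ← Scheme.IdealSheafData.le_map_iff_comap_le,
        Scheme.IdealSheafData.map_ker, Scheme.IdealSheafData.map_ker, hU, hU, Category.assoc, Category.assoc,
        pullback.condition]
    refine le_antisymm ?_ ?_
    · have h := (key ((I V).comap (pullback.snd (q U) (q V))).subschemeι).2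
      rw [Scheme.IdealSheafData.ker_subschemeι] at h
      exact h le_rfl
    · have h := (key ((I U).comap (pullback.fst (q U) (q V))).subschemeι).1
      rw [Scheme.IdealSheafData.ker_subschemeι] at h
      exact h le_rfl
  obtain ⟨J, hJ, -⟩ := FpqcDescent.existsUnique_descent hg I hcompat
  let P : Over S := Over.mk (J.subschemeι ≫ G.hom)
  let p : P ⟶ G := Over.homMk J.subschemeι rfl
  haveI hp : IsClosedImmersion p.left := inferInstanceAs (IsClosedImmersion J.subschemeι)
  haveI : Mono p := (Over.forget S).mono_of_mono_map (inferInstanceAs (Mono J.subschemeι))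
  have hJq : ∀ (U : S.affineOpens) {X : Scheme.{u}} (t : X ⟶ Q U), J ≤ (t ≫ q U).ker ↔ PS (t ≫ q U) := by
    intro U X t
    rw [← hU, show (k U).left.ker = J.comap (q U) from (hJ U).symm, ← Scheme.IdealSheafData.le_map_iff_comap_le,
      Scheme.IdealSheafData.map_ker]
  have hrep : ∀ (X : Over S) (g : X ⟶ G), (∃ z : X ⟶ P, z ≫ p = g) ↔ InF K g := by
    intro X g
    let 𝒲 : X.left.OpenCover := 𝒱.pullback₁ g.left
    have hw : ∀ U, 𝒲.f U ≫ g.left = pullback.snd g.left (q U) ≫ q U := fun U => pullback.condition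
    constructor
    · rintro ⟨z, hz⟩
      refine inF_of_cover hK hL g 𝒲 fun U => (hPS _ _).2 ?_
      show PS (𝒲.f U ≫ g.left)
      rw [hw, ← hJq, ← hw]
      have e : (𝒲.f U ≫ z.left) ≫ J.subschemeι = 𝒲.f U ≫ g.left := by
        rw [Category.assoc]
        exact congrArg (𝒲.f U ≫ ·) (congrArg CommaMorphism.left hz)
      exact le_of_le_of_eq (le_of_eq_of_le (Scheme.IdealSheafData.ker_subschemeι J).symm
        (Scheme.Hom.le_ker_comp (𝒲.f U ≫ z.left) J.subschemeι)) (congrArg (fun v => Scheme.Hom.ker v) e)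
    · intro hg'
      have hl : ∀ U, ∃ z, z ≫ J.subschemeι = 𝒲.f U ≫ g.left := fun U => by
        have h1 : PS (𝒲.f U ≫ g.left) :=
          (hPS _ _).1 (hg'.comp (Over.homMk (𝒲.f U) rfl : Over.mk (𝒲.f U ≫ X.hom) ⟶ X))
        rw [exists_fac_iff_ker_le, Scheme.IdealSheafData.ker_subschemeι, hw, hJq, ← hw]
        exact h1
      choose z hz using hl
      let zz : X.left ⟶ J.subscheme := 𝒲.glueMorphisms z fun U V => by
        rw [← cancel_mono J.subschemeι, Category.assoc, Category.assoc, hz, hz, ← Category.assoc,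
          ← Category.assoc, pullback.condition]
      have hzz : zz ≫ J.subschemeι = g.left := 𝒲.hom_ext _ _ fun U => by
        rw [Scheme.Cover.ι_glueMorphisms_assoc, hz]
      exact ⟨Over.homMk zz (show zz ≫ J.subschemeι ≫ G.hom = X.hom by rw [reassoc_of% hzz, Over.w g]),
        Over.OverMorphism.ext hzz⟩
  obtain ⟨hPg, hpm⟩ := MTBridge.exists_grpObj_of_div p ((hrep _ _).2 (by
      have h1 : (1 : 𝟙_ (Over S) ⟶ G) = η[G] := by
        rw [Hom.one_def, toUnit_unique (toUnit _) (𝟙 _), Category.id_comp]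
      rw [← h1]
      exact inF_one K _))
    (fun X a b => (hrep _ _).2 (inF_div ((hrep _ _).1 ⟨a, rfl⟩) ((hrep _ _).1 ⟨b, rfl⟩)))
  exact ⟨P, hPg, p, hpm, hp, hrep⟩

end Groth.Agent.DynPar
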