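import Groth.Agent.DynPar.Reduce
import Groth.Agent.DynPar.Bridge
import Groth.Agent.FinHopf.GrpScheme
import Groth.Agent.Dynamic.SmoothCase
import Mathlib.RingTheory.Smooth.Flat

/-!
# The subgroups with a limit of a smooth group are smooth
-/

set_option autoImplicit false
set_option linter.style.haveILetI false
set_option backward.isDefEq.respectTransparency false
set_option maxHeartbeats 1000000
set_option synthInstance.maxHeartbeats 400000

universe u

open CategoryTheory Limits MonoidalCategory CartesianMonoidalCategory MonObj AlgebraicGeometry LieS WithConv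
open scoped CategoryTheory.Obj LaurentPolynomial TensorProduct

noncomputable section

namespace Groth.Agent.DynPar

open Groth.Agent.HomDiag

/-- A closed subgroup given by points of a Hopf algebra is the spectrum of the quotient. -/
theorem exists_left_iso {R : Type u} [CommRing R] {A : Type u} [CommRing A] [HopfAlgebra R A]
    {G : Over (Spec (CommRingCat.of R))} [GrpObj G]
    (e : (Spec (CommRingCat.of A)).asOver (Spec (CommRingCat.of R)) ≅ G) [IsMonHom e.hom]
    {K : Fam G} (hK : K.Stable) (H : ∀ (B : Type u) [CommRing B] [Algebra R B], Subgroup (Dynamic.Pt R A B))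
    (J : Ideal A) (hJ : ∀ (B : Type u) [CommRing B] [Algebra R B] (g : Dynamic.Pt R A B),
      (∀ a ∈ J, g a = 0) ↔ g ∈ H B)
    (hH : ∀ (B : Type u) [CommRing B] [Algebra R B] (g : Dynamic.Pt R A B),
      g ∈ H B ↔ ptE e rfl g ∈ K B (fR R B))
    {P : Over (Spec (CommRingCat.of R))} {p : P ⟶ G} [IsClosedImmersion p.left]
    (hp : ∀ (X : Over (Spec (CommRingCat.of R))) (g : X ⟶ G), (∃ z : X ⟶ P, z ≫ p = g) ↔ InF K g) :
    ∃ φ : Spec (CommRingCat.of (A ⧸ J)) ⟶ P.left, IsIso φ ∧
      φ ≫ P.hom = Spec.map (CommRingCat.ofHom (algebraMap R (A ⧸ J))) ∧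
      φ ≫ p.left = Spec.map (CommRingCat.ofHom (Ideal.Quotient.mkₐ R J).toRingHom) ≫ e.hom.left := by
  haveI : IsIso e.hom.left := inferInstanceAs (IsIso ((Over.forget _).map e.hom))
  haveI : IsAffine G.left := @IsAffine.of_isIso _ _ (inv e.hom.left) _ (isAffine_Spec (CommRingCat.of A))
  haveI : IsAffine P.left := isAffine_of_isAffineHom p.left
  let q : Dynamic.Pt R A (A ⧸ J) := toConv (Ideal.Quotient.mkₐ R J)
  obtain ⟨z, hz⟩ : ∃ z : pt (A ⧸ J) (fR R (A ⧸ J)) ⟶ P, z ≫ p = ptE e rfl q :=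
    (hp _ _).2 ((inF_pt hK _).2 ((hH _ q).1 ((hJ _ q).1 fun a ha => Ideal.Quotient.eq_zero_iff_mem.2 ha)))
  -- the point given by the subgroup itself
  let C : Type u := Γ(P.left, ⊤)
  obtain ⟨g, hg⟩ := Spec.map_surjective (P.left.isoSpec.inv ≫ P.hom)
  letI : Algebra R C := g.hom.toAlgebra
  have hf : fR R C = P.left.isoSpec.inv ≫ P.hom := hg
  let t : pt C (fR R C) ⟶ P := Over.homMk P.left.isoSpec.inv hf.symm
  have ht : t ≫ p ∈ K C (fR R C) := (inF_pt hK _).1 ((hp _ _).1 ⟨t, rfl⟩)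
  obtain ⟨x, hx⟩ := (ptE e (rfl : fR R C = _)).surjective (t ≫ p)
  have hxJ : ∀ a ∈ J, x a = 0 := (hJ C x).2 ((hH C x).2 (hx ▸ ht))
  let xb : A ⧸ J →ₐ[R] C := Ideal.Quotient.liftₐ J x.ofConv hxJ
  let ψ : P.left ⟶ Spec (CommRingCat.of (A ⧸ J)) :=
    P.left.isoSpec.hom ≫ Spec.map (CommRingCat.ofHom xb.toRingHom)
  have hz' : z.left ≫ p.left = Spec.map (CommRingCat.ofHom (Ideal.Quotient.mkₐ R J).toRingHom) ≫ e.hom.left :=
    (congrArg CommaMorphism.left hz).trans (ptE_left e rfl q)
  refine ⟨z.left, ⟨ψ, ?_, ?_⟩, Over.w z, hz'⟩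
  · haveI : IsClosedImmersion (Spec.map (CommRingCat.ofHom (Ideal.Quotient.mkₐ R J).toRingHom)) :=
      IsClosedImmersion.spec_of_surjective _ Ideal.Quotient.mk_surjective
    rw [← cancel_mono (Spec.map (CommRingCat.ofHom (Ideal.Quotient.mkₐ R J).toRingHom) ≫ e.hom.left), ← hz',
      Category.assoc, Category.id_comp]
    have h1 : ψ ≫ z.left ≫ p.left = p.left := by
      rw [hz', show ψ ≫ Spec.map (CommRingCat.ofHom (Ideal.Quotient.mkₐ R J).toRingHom) ≫ e.hom.left =
        P.left.isoSpec.hom ≫ (Spec.map (CommRingCat.ofHom x.ofConv.toRingHom) ≫ e.hom.left) by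
          simp only [ψ, Category.assoc]
          rw [← Category.assoc (Spec.map _) (Spec.map _), LieS.specMap_comp]
          rfl, ← ptE_left e rfl x, hx]
      show P.left.isoSpec.hom ≫ P.left.isoSpec.inv ≫ p.left = p.left
      rw [Iso.hom_inv_id_assoc]
    rw [h1]
  · rw [← cancel_mono p.left, Category.assoc, hz', Category.id_comp]
    show (P.left.isoSpec.hom ≫ Spec.map (CommRingCat.ofHom xb.toRingHom)) ≫ _ = _
    rw [Category.assoc, ← Category.assoc (Spec.map _) (Spec.map _), LieS.specMap_comp,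
      show xb.toRingHom.comp (Ideal.Quotient.mkₐ R J).toRingHom = x.ofConv.toRingHom from rfl,
      ← ptE_left e rfl x, hx]
    show P.left.isoSpec.hom ≫ P.left.isoSpec.inv ≫ p.left = p.left
    rw [Iso.hom_inv_id_assoc]

theorem smooth_isP_int {R : Type u} [CommRing R] {G : Over (Spec (CommRingCat.of R))} [GrpObj G]
    [IsAffine G.left] (hG : Smooth G.hom) (c : Red.DS (Spec (CommRingCat.of R)) ℤ ⟶ G) [IsMonHom c]
    {P : Over (Spec (CommRingCat.of R))} [GrpObj P] {p : P ⟶ G} (hp : IsP c p) : Smooth P.hom := by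
  obtain ⟨A, _, e, he⟩ := Groth.Agent.FinHopf.exists_hopf (R := CommRingCat.of R) G
  haveI := he
  haveI : IsIso e.hom.left := inferInstanceAs (IsIso ((Over.forget _).map e.hom))
  have hA : Smooth (Spec.map (CommRingCat.ofHom (algebraMap R A))) := by
    have h := Over.w e.hom
    rw [show Spec.map (CommRingCat.ofHom (algebraMap R A)) = e.hom.left ≫ G.hom from h.symm]
    infer_instance
  have hA' : (algebraMap R A).Smooth := (HasRingHomProperty.Spec_iff (P := @Smooth)).1 hA
  haveI : Algebra.Smooth R A := RingHom.smooth_algebraMap.1 hA'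
  haveI : Algebra.FormallySmooth R A := Algebra.Smooth.formallySmooth
  haveI : Algebra.FinitePresentation R A := Algebra.Smooth.finitePresentation
  haveI : Algebra.FiniteType R A := inferInstance
  let lam := lamHom e c
  obtain ⟨F, hF⟩ := Dynamic.exists_finset_P lam
  haveI : Algebra.FinitePresentation R (A ⧸ Dynamic.Jp lam) := Algebra.FinitePresentation.quotient
    (Dynamic.fg_of_finset _ (fun B _ _ => Dynamic.P lam B) F (fun B _ _ g => Dynamic.kill_Jp lam g) hF)
  haveI := Dynamic.formallySmooth_quot_P lam (Dynamic.Jp lam) fun B _ _ g => Dynamic.kill_Jp lam g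
  haveI : Algebra.Smooth R (A ⧸ Dynamic.Jp lam) := ⟨inferInstance, inferInstance⟩
  haveI : IsClosedImmersion p.left := hp.2.1
  obtain ⟨φ, hφ, hφ', -⟩ := exists_left_iso e (K := PFam c) (PFam_stable c) (fun B _ _ => Dynamic.P lam B)
    (Dynamic.Jp lam) (fun B _ _ g => Dynamic.kill_Jp lam g) (fun B _ _ g => mem_P_iff e c g) hp.2.2
  haveI : Smooth (Spec.map (CommRingCat.ofHom (algebraMap R (A ⧸ Dynamic.Jp lam)))) :=
    (HasRingHomProperty.Spec_iff (P := @Smooth)).2 (RingHom.smooth_algebraMap.2 inferInstance)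
  rw [show P.hom = inv φ ≫ Spec.map (CommRingCat.ofHom (algebraMap R (A ⧸ Dynamic.Jp lam))) by
    rw [← hφ', IsIso.inv_hom_id_assoc]]
  infer_instance

/-- **The subgroup with a limit of a smooth group is smooth.** -/
theorem smooth_isP {S : Scheme.{u}} {G : Over S} [GrpObj G] [IsAffineHom G.hom] (hG : Smooth G.hom)
    {Γ : Type} [AddCommGroup Γ] [LinearOrder Γ] [IsOrderedAddMonoid Γ] (c : Red.DS S Γ ⟶ G) [IsMonHom c]
    {P : Over S} [GrpObj P] {p : P ⟶ G} (hp : IsP c p) : Smooth P.hom := by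
  refine IsZariskiLocalAtTarget.of_openCover (P := @Smooth) S.affineCover fun i => ?_
  let j := S.affineCover.f i
  haveI : IsAffineHom (Red.bc j G).hom := inferInstanceAs (IsAffineHom (pullback.snd G.hom j))
  haveI : IsAffine (Red.bc j G).left := isAffine_of_isAffineHom (Red.bc j G).hom
  have hG' : Smooth (Red.bc j G).hom :=
    MorphismProperty.pullback_snd (P := @Smooth) G.hom j hG
  obtain ⟨c', _, hc'⟩ := exists_int (bcHom' j c)
  exact smooth_isP_int hG' c' ((hp.bc j).congr fun B _ f g => (hc' B f g).1)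

/-- **The contracted subgroup of a smooth group is smooth.** -/
theorem smooth_isU {S : Scheme.{u}} {G : Over S} [GrpObj G] [IsAffineHom G.hom] (hG : Smooth G.hom)
    {Γ : Type} [AddCommGroup Γ] [LinearOrder Γ] [IsOrderedAddMonoid Γ] {c : Red.DS S Γ ⟶ G} [IsMonHom c]
    {P U Z : Over S} [GrpObj P] [GrpObj U] [GrpObj Z] {p : P ⟶ G} {u : U ⟶ G} {z : Z ⟶ G}
    (hp : IsP c p) (hu : IsU c u) (hz : Red.IsCentralizerOf c z) : Smooth U.hom ∧ Smooth Z.hom := by
  obtain ⟨d⟩ := exists_leviData hp hu hz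
  exact ⟨smooth_of_retract (smooth_isP hG c hp) d.iu d.s d.iu_s,
    smooth_of_retract (smooth_isP hG c hp) d.l d.r d.l_r⟩

end Groth.Agent.DynPar
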