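import Groth.Agent.DynPar.Grade
import Groth.Agent.DynPar.Rep

/-!
# The subgroups with a limit, the subgroups contracted to one, and centralisers
-/

set_option autoImplicit false
set_option linter.style.haveILetI false
set_option backward.isDefEq.respectTransparency false
set_option maxHeartbeats 1000000
set_option synthInstance.maxHeartbeats 400000

universe u

open CategoryTheory Limits MonoidalCategory CartesianMonoidalCategory MonObj AlgebraicGeometry LieS
open scoped CategoryTheory.Obj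

noncomputable section

namespace Groth.Agent.DynPar

open Groth.Agent.HomDiag

theorem DSmap_id (S : Scheme.{u}) (M : Type) [AddCommGroup M] :
    Red.DSmap S (AddMonoidHom.id M) = 𝟙 (Red.DS S M) := by
  refine ch_ext fun m => ?_
  conv_lhs => rw [← Category.id_comp (Red.DSmap S _), ch_DSmap]
  rfl

variable {S : Scheme.{u}} {G : Over S} [GrpObj G] {Γ : Type} [AddCommGroup Γ] [LinearOrder Γ]
  [IsOrderedAddMonoid Γ] (c : Red.DS S Γ ⟶ G)

/-- The family of points with a limit. -/
def PFam : Fam G := fun B _ f => PSub (B := B) f c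

/-- The family of points contracted to one. -/
def UFam : Fam G := fun B _ f => USub (B := B) f c

theorem PFam_stable : (PFam c).Stable := fun _ _ _ _ f _ h hf _ hg => qm_mem_PSub f c h hf hg

theorem UFam_stable : (UFam c).Stable := fun _ _ _ _ f _ h hf _ hg => qm_mem_USub f c h hf hg

theorem eq_zero_of_span {B : Type u} [CommRing B] {s : Set B} (hs : Ideal.span s = ⊤) {x : B}
    (h : ∀ r ∈ s, algebraMap B (Localization.Away r) x = 0) : x = 0 := by
  have key : (⊥ : Ideal B).colon {x} = ⊤ := by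
    rw [← Ideal.radical_eq_top, eq_top_iff, ← hs, Ideal.span_le]
    intro r hr
    obtain ⟨⟨_, n, rfl⟩, hn⟩ :=
      (IsLocalization.map_eq_zero_iff (Submonoid.powers r) (Localization.Away r) x).1 (h r hr)
    exact ⟨n, Submodule.mem_colon_singleton.2 hn⟩
  have h1 : (1 : B) ∈ (⊥ : Ideal B).colon {x} := key ▸ Submodule.mem_top
  have h2 := Submodule.mem_colon_singleton.1 h1
  rwa [one_smul, Submodule.mem_bot] at h2

theorem mem_PSub_iff' [IsMonHom c] [IsAffine S] [IsAffine G.left] {B : Type u} [CommRing B]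
    {f : Spec (CommRingCat.of B) ⟶ S} {g : pt B f ⟶ G} :
    g ∈ PSub f c ↔ ∀ a m, m < 0 → rp g (wc c a m) = 0 := by
  have h := mem_PSub_iff c (AddMonoidHom.id Γ) (g := g) gens_univ
  rw [DSmap_id, Category.id_comp] at h
  exact h.trans ⟨fun h a m hm => h a (Set.mem_univ a) m hm, fun h a _ m hm => h a m hm⟩

theorem mem_USub_iff' [IsMonHom c] [IsAffine S] [IsAffine G.left] {B : Type u} [CommRing B]
    {f : Spec (CommRingCat.of B) ⟶ S} {g : pt B f ⟶ G} :
    g ∈ USub f c ↔ g ∈ PSub f c ∧ ∀ a, rp g (wc c a 0) = rp (1 : pt B f ⟶ G) (wc c a 0) := by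
  have h := mem_USub_iff c (AddMonoidHom.id Γ) (g := g) gens_univ
  rw [DSmap_id, Category.id_comp] at h
  refine h.trans (and_congr Iff.rfl ⟨fun h a => h a (Set.mem_univ a) 0 rfl, fun h a _ m hm => ?_⟩)
  obtain rfl : m = 0 := hm
  exact h a

variable [IsAffineHom G.hom]

instance isAffine_bc_spec {B : Type u} [CommRing B] (f : Spec (CommRingCat.of B) ⟶ S) :
    IsAffine (Red.bc f G).left := by
  haveI : IsAffineHom (Red.bc f G).hom := inferInstanceAs (IsAffineHom (pullback.snd G.hom f))
  exact isAffine_of_isAffineHom (Red.bc f G).hom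

omit [IsAffineHom G.hom] [LinearOrder Γ] [IsOrderedAddMonoid Γ] in
theorem rp_local {B : Type u} [CommRing B] {f : Spec (CommRingCat.of B) ⟶ S} (g : pt B f ⟶ G)
    {s : Set B} (hs : Ideal.span s = ⊤) (x : Γ((Red.bc f G).left, ⊤))
    (h : ∀ r ∈ s, rp (down f (rfl :
        Spec.map (CommRingCat.ofHom (algebraMap B (Localization.Away r))) ≫ f = _)
      (qm (algebraMap B (Localization.Away r)) rfl ≫ g)) x = 0) :
    rp (down f (Category.id_comp f) g) x = 0 := by
  refine eq_zero_of_span hs fun r hr => ?_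
  have e := h r hr
  rw [qm_down f (Category.id_comp f) _ (algebraMap B (Localization.Away r)) (Category.comp_id _) rfl,
    rp_qm, RingHom.comp_apply] at e
  exact e

theorem PFam_local [IsMonHom c] : (PFam c).Local := by
  intro B _ f g s hs h
  let fr : ∀ r : B, Spec (CommRingCat.of (Localization.Away r)) ⟶ Spec (CommRingCat.of B) :=
    fun r => Spec.map (CommRingCat.ofHom (algebraMap B (Localization.Away r)))
  show g ∈ PSub f c
  rw [mem_PSub_down f (Category.id_comp f) c, mem_PSub_iff']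
  intro a m hm
  refine rp_local g hs _ fun r hr => ?_
  have h1 : qm (algebraMap B (Localization.Away r)) rfl ≫ g ∈ PSub (fr r ≫ f) c :=
    h r hr (Localization.Away r) _ rfl
  rw [mem_PSub_down f (rfl : fr r ≫ f = _) c, mem_PSub_iff'] at h1
  exact h1 a m hm

theorem UFam_local [IsMonHom c] : (UFam c).Local := by
  intro B _ f g s hs h
  let fr : ∀ r : B, Spec (CommRingCat.of (Localization.Away r)) ⟶ Spec (CommRingCat.of B) :=
    fun r => Spec.map (CommRingCat.ofHom (algebraMap B (Localization.Away r)))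
  show g ∈ USub f c
  have hr : ∀ r ∈ s, qm (algebraMap B (Localization.Away r)) rfl ≫ g ∈ USub (fr r ≫ f) c :=
    fun r hr => h r hr (Localization.Away r) _ rfl
  rw [mem_USub_down f (Category.id_comp f) c, mem_USub_iff']
  refine ⟨?_, fun a => ?_⟩
  · rw [← mem_PSub_down f (Category.id_comp f) c]
    exact PFam_local c B f g s hs fun r hr' B' _ _ _ f' hf => USub_le_PSub _ _ (h r hr' B' f' hf)
  · have key : ∀ r ∈ s, rp (down f (rfl : fr r ≫ f = _) (qm (algebraMap B (Localization.Away r)) rfl ≫ g))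
        (wc (bcHom' f c) a 0) = rp (1 : pt _ (fr r) ⟶ Red.bc f G) (wc (bcHom' f c) a 0) := by
      intro r hr'
      have h1 := hr r hr'
      rw [mem_USub_down f (rfl : fr r ≫ f = _) c, mem_USub_iff'] at h1
      exact h1.2 a
    refine sub_eq_zero.1 (eq_zero_of_span hs fun r hr' => ?_)
    have e := key r hr'
    have h2 : (1 : pt (Localization.Away r) (fr r) ⟶ Red.bc f G) =
        qm (algebraMap B (Localization.Away r)) (Category.comp_id _) ≫ 1 := (MonObj.comp_one _).symm
    rw [qm_down f (Category.id_comp f) _ (algebraMap B (Localization.Away r)) (Category.comp_id _) rfl, h2,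
      rp_qm, rp_qm, RingHom.comp_apply, RingHom.comp_apply] at e
    rw [map_sub, e, sub_self]

omit [GrpObj G] [IsAffineHom G.hom] in
/-- A condition cut out by the vanishing of functions is representable. -/
theorem exists_rep_of_vanishing [GrpObj G] [IsAffine G.left] [IsAffine S] (K : Fam G) (hK : K.Stable)
    (hL : K.Local) (V : Set Γ(G.left, ⊤))
    (hV : ∀ (B : Type u) [CommRing B] (f : Spec (CommRingCat.of B) ⟶ S) (g : pt B f ⟶ G),
      g ∈ K B f ↔ ∀ v ∈ V, rp g v = 0) :
    ∃ (P : Over S) (k : P ⟶ G), IsClosedImmersion k.left ∧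
      ∀ (X : Over S) (g : X ⟶ G), (∃ z : X ⟶ P, z ≫ k = g) ↔ InF K g := by
  let J : Ideal Γ(G.left, ⊤) := Ideal.span V
  let km : Spec (CommRingCat.of (Γ(G.left, ⊤) ⧸ J)) ⟶ G.left :=
    Spec.map (CommRingCat.ofHom (Ideal.Quotient.mk J)) ≫ G.left.isoSpec.inv
  haveI : IsClosedImmersion km := by
    haveI : IsClosedImmersion (Spec.map (CommRingCat.ofHom (Ideal.Quotient.mk J))) :=
      IsClosedImmersion.spec_of_surjective _ Ideal.Quotient.mk_surjective
    infer_instance
  let P : Over S := Over.mk (km ≫ G.hom)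
  let k : P ⟶ G := Over.homMk km rfl
  haveI : Mono k := (Over.forget S).mono_of_mono_map (inferInstanceAs (Mono km))
  have hkm : ∀ a, (Scheme.ΓSpecIso (CommRingCat.of (Γ(G.left, ⊤) ⧸ J))).hom (km.appTop a) =
      Ideal.Quotient.mk J a := fun a => by
    rw [MTCentre.appTop_specMap_isoSpec_inv]
    exact ConcreteCategory.congr_hom (Scheme.ΓSpecIso (CommRingCat.of (Γ(G.left, ⊤) ⧸ J))).inv_hom_id
      (Ideal.Quotient.mk J a)
  have hpt : ∀ (B : Type u) [CommRing B] (f : Spec (CommRingCat.of B) ⟶ S) (g : pt B f ⟶ G),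
      (∃ z : pt B f ⟶ P, z ≫ k = g) ↔ g ∈ K B f := by
    intro B _ f g
    rw [hV]
    constructor
    · rintro ⟨z, rfl⟩ v hv
      have : km.appTop v = 0 := (ConcreteCategory.bijective_of_isIso (Scheme.ΓSpecIso _).hom).1
        ((hkm v).trans ((Ideal.Quotient.eq_zero_iff_mem.2 (Ideal.subset_span hv)).trans (map_zero _).symm))
      show (Scheme.ΓSpecIso (CommRingCat.of B)).hom ((z.left ≫ km).appTop v) = 0
      rw [Scheme.Hom.comp_appTop, CommRingCat.comp_apply]
      erw [this]
      rw [map_zero, map_zero]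
    · intro h
      let φ : Γ(G.left, ⊤) ⧸ J →+* B := Ideal.Quotient.lift J (rp g)
        fun a ha => (Ideal.span_le.2 (show V ⊆ RingHom.ker (rp g) from h)) ha
      have e : Spec.map (CommRingCat.ofHom φ) ≫ km = g.left := ext_of_isAffine (by
        ext a
        refine (ConcreteCategory.bijective_of_isIso (Scheme.ΓSpecIso (CommRingCat.of B)).hom).1 ?_
        rw [Scheme.Hom.comp_appTop, CommRingCat.comp_apply]
        refine ((ConcreteCategory.congr_hom (Scheme.ΓSpecIso_naturality (CommRingCat.ofHom φ)) _).trans ?_)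
        show φ ((Scheme.ΓSpecIso _).hom (km.appTop a)) = rp g a
        rw [hkm]
        rfl)
      exact ⟨Over.homMk (Spec.map (CommRingCat.ofHom φ))
        (show Spec.map _ ≫ km ≫ G.hom = f by rw [reassoc_of% e]; exact Over.w g), Over.OverMorphism.ext e⟩
  refine ⟨P, k, inferInstanceAs (IsClosedImmersion km), fun X g => ⟨?_, fun h => ?_⟩⟩
  · rintro ⟨z, rfl⟩ B _ f y
    exact (hpt B f _).1 ⟨y ≫ z, Category.assoc _ _ _⟩
  · let 𝒰 := X.left.affineOpenCover
    have hl : ∀ i, ∃ z, z ≫ km = 𝒰.f i ≫ g.left := fun i => by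
      obtain ⟨z, hz⟩ := (hpt _ (𝒰.f i ≫ X.hom) (Over.homMk (𝒰.f i) rfl ≫ g)).2
        (h _ _ (Over.homMk (𝒰.f i) rfl))
      exact ⟨z.left, congrArg CommaMorphism.left hz⟩
    choose z hz using hl
    let zz : X.left ⟶ _ := 𝒰.openCover.glueMorphisms z fun a b => by
      rw [← cancel_mono km, Category.assoc, Category.assoc, hz, hz, ← Category.assoc, ← Category.assoc]
      exact congrArg (· ≫ g.left) pullback.condition
    have hzz : zz ≫ km = g.left := 𝒰.openCover.hom_ext _ _ fun i => by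
      rw [Scheme.Cover.ι_glueMorphisms_assoc]
      exact hz i
    exact ⟨Over.homMk zz (show zz ≫ km ≫ G.hom = X.hom by rw [reassoc_of% hzz, Over.w g]),
      Over.OverMorphism.ext hzz⟩

/-- `p` is the subgroup of points with a limit. -/
def IsP {P : Over S} [GrpObj P] (p : P ⟶ G) : Prop :=
  IsMonHom p ∧ IsClosedImmersion p.left ∧
    ∀ (X : Over S) (g : X ⟶ G), (∃ z : X ⟶ P, z ≫ p = g) ↔ InF (PFam c) g

/-- `u` is the subgroup of points contracted to one. -/
def IsU {U : Over S} [GrpObj U] (u : U ⟶ G) : Prop :=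
  IsMonHom u ∧ IsClosedImmersion u.left ∧
    ∀ (X : Over S) (g : X ⟶ G), (∃ z : X ⟶ U, z ≫ u = g) ↔ InF (UFam c) g

theorem exists_isP [IsMonHom c] : ∃ (P : Over S) (_ : GrpObj P) (p : P ⟶ G), IsP c p := by
  refine exists_rep_of_local (PFam c) (PFam_stable c) (PFam_local c) fun W => ?_
  haveI : IsAffine W.1.toScheme := W.2
  haveI : IsAffineHom (Red.bc W.1.ι G).hom := inferInstanceAs (IsAffineHom (pullback.snd G.hom W.1.ι))
  haveI : IsAffine (Red.bc W.1.ι G).left := isAffine_of_isAffineHom (Red.bc W.1.ι G).hom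
  let i' := bcHom' W.1.ι c
  obtain ⟨P, k, hk, hkX⟩ := exists_rep_of_vanishing (PFam i') (PFam_stable i') (PFam_local i')
    {v | ∃ a m, m < 0 ∧ wc i' a m = v} (fun B _ f g => by
      show g ∈ PSub f i' ↔ _
      rw [mem_PSub_iff']
      exact ⟨fun h v ⟨a, m, hm, hv⟩ => hv ▸ h a m hm, fun h a m hm => h _ ⟨a, m, hm, rfl⟩⟩)
  exact ⟨P, k, hk, fun X g => (hkX X g).trans
    (inF_fromB W.1.ι (fun B _ fa fb e a => mem_PSub_down W.1.ι e c) g)⟩

theorem exists_isU [IsMonHom c] : ∃ (U : Over S) (_ : GrpObj U) (u : U ⟶ G), IsU c u := by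
  refine exists_rep_of_local (UFam c) (UFam_stable c) (UFam_local c) fun W => ?_
  haveI : IsAffine W.1.toScheme := W.2
  haveI : IsAffineHom (Red.bc W.1.ι G).hom := inferInstanceAs (IsAffineHom (pullback.snd G.hom W.1.ι))
  haveI : IsAffine (Red.bc W.1.ι G).left := isAffine_of_isAffineHom (Red.bc W.1.ι G).hom
  let G' := Red.bc W.1.ι G
  let i' := bcHom' W.1.ι c
  have hone : ∀ (B : Type u) [CommRing B] (f : Spec (CommRingCat.of B) ⟶ W.1.toScheme) (x : Γ(G'.left, ⊤)),
      rp (1 : pt B f ⟶ G') x = (Scheme.ΓSpecIso (CommRingCat.of B)).hom (f.appTop ((η[G']).left.appTop x)) := by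
    intro B _ f x
    show (Scheme.ΓSpecIso (CommRingCat.of B)).hom ((1 : pt B f ⟶ G').left.appTop x) = _
    rw [Hom.one_def, Over.comp_left, Scheme.Hom.comp_appTop]
    rfl
  obtain ⟨U, k, hk, hkX⟩ := exists_rep_of_vanishing (UFam i') (UFam_stable i') (UFam_local i')
    ({v | ∃ a m, m < 0 ∧ wc i' a m = v} ∪
      {v | ∃ a, wc i' a 0 - G'.hom.appTop ((η[G']).left.appTop (wc i' a 0)) = v})
    (fun B _ f g => by
      show g ∈ USub f i' ↔ _
      rw [mem_USub_iff', mem_PSub_iff']
      constructor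
      · rintro ⟨h1, h2⟩ v (⟨a, m, hm, rfl⟩ | ⟨a, rfl⟩)
        · exact h1 a m hm
        · rw [map_sub, rp_hom, h2 a, hone, sub_self]
      · intro h
        refine ⟨fun a m hm => h _ (Or.inl ⟨a, m, hm, rfl⟩), fun a => ?_⟩
        have := h _ (Or.inr ⟨a, rfl⟩)
        rwa [map_sub, rp_hom, ← hone, sub_eq_zero] at this)
  exact ⟨U, k, hk, fun X g => (hkX X g).trans
    (inF_fromB W.1.ι (fun B _ fa fb e a => mem_USub_down W.1.ι e c) g)⟩

end Groth.Agent.DynPar
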